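import Groth.Agent.PicCurve.DivOfSection
import Groth.Agent.Abvar.PicCalc
import Groth.Agent.PicAux.EffCartierLine
import Groth.Agent.PicAux.Powers

/-!
# The class of a relative divisor
-/

universe u

open CategoryTheory CategoryTheory.Limits AlgebraicGeometry TopologicalSpace Opposite
open Groth.Abvar.PicCalc
open Groth.PicAux (Gen pullSec res resX homOfSection)

set_option maxHeartbeats 1600000
set_option backward.isDefEq.respectTransparency false
set_option backward.defeqAttrib.useBackward true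
set_option backward.isDefEq.respectTransparency.types false

namespace Groth.PicCurve

variable {X Y : Scheme.{u}}

/-- A section with an effective Cartier zero scheme is regular. -/
theorem regularSection_of_isEffCartierIdeal {L : X.Modules} (hL : PicF.IsInvertible L)
    {s : Coh.structureModule X ⟶ L} (hI : BlowUp.IsEffCartierIdeal (PicF2.zeroScheme L s)) :
    Groth.PicAux.RegularSection L s := by
  intro W e he c hc x hx
  obtain ⟨V, hxV, hVW, g, hg, hgI⟩ := Divisors.exists_generator hI x W hx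
  have hc' : s.app V.1 (Groth.PicAux.oneSec X V.1) = resX X hVW c • res L hVW e := by
    rw [← Groth.PicAux.res_app_oneSec s hVW, hc, Groth.PicAux.res_smul]
  have hspan := Variety2.Zero.zeroScheme_ideal_eq_span hL s V (he.res hVW) hc'
  rw [hgI] at hspan
  obtain ⟨a, ha⟩ := Ideal.mem_span_singleton'.1 (hspan.le (Ideal.mem_span_singleton_self g))
  obtain ⟨b, hb⟩ := Ideal.mem_span_singleton'.1 (hspan.ge (Ideal.mem_span_singleton_self (resX X hVW c)))
  -- `g = a c` and `c = b g`
  have h1 : X.presheaf.germ W x hx c = X.presheaf.germ V.1 x hxV (resX X hVW c) :=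
    (TopCat.Presheaf.germ_res_apply _ _ _ _ _).symm
  rw [h1, ← hb, map_mul]
  refine Submonoid.mul_mem _ ?_ (hg x hxV)
  refine IsUnit.mem_nonZeroDivisors ?_
  refine IsUnit.of_mul_eq_one_right (X.presheaf.germ V.1 x hxV a) ?_
  have h2 : X.presheaf.germ V.1 x hxV g * (X.presheaf.germ V.1 x hxV a *
      X.presheaf.germ V.1 x hxV b - 1) = 0 := by
    rw [mul_sub, mul_one, ← map_mul, ← map_mul, show g * (a * b) = g from ?_, sub_self]
    rw [← mul_assoc, mul_comm g a, mul_assoc, mul_comm g b, hb, ha]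
  exact sub_eq_zero.1 ((mul_right_mem_nonZeroDivisors_eq_zero_iff (hg x hxV)).1
    ((mul_comm _ _).trans h2))

/-- The class `O(I)` of an effective Cartier divisor. -/
noncomputable def divCls {I : X.IdealSheafData} (hI : BlowUp.IsEffCartierIdeal I) :
    PicLoc.PicSet X :=
  (cls (Groth.PicAux.isInvertible_idealMod hI))⁻¹

theorem divCls_congr {I J : X.IdealSheafData} (h : I = J) (hI : BlowUp.IsEffCartierIdeal I)
    (hJ : BlowUp.IsEffCartierIdeal J) : divCls hI = divCls hJ := by
  subst h; rfl

theorem cls_eq_divCls {L : X.Modules} (hL : PicF.IsInvertible L) (s : Γ(L, (⊤ : X.Opens)))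
    (hI : BlowUp.IsEffCartierIdeal (zero L s)) : cls hL = divCls hI := by
  obtain ⟨e⟩ := Groth.PicAux.isInverseOf_symm
    (Groth.PicAux.isInverseOf_zeroScheme hL (regularSection_of_isEffCartierIdeal hL hI))
  exact (PicGrp.cls_inv_eq_cls (Groth.PicAux.isInvertible_idealMod hI) hL ⟨e⟩).symm

/-- An effective Cartier divisor is the zero scheme of a global section of its class. -/
theorem exists_section {I : X.IdealSheafData} (hI : BlowUp.IsEffCartierIdeal I) :
    ∃ (L : X.Modules) (hL : PicF.IsInvertible L) (s : Γ(L, (⊤ : X.Opens))),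
      zero L s = I ∧ cls hL = divCls hI := by
  obtain ⟨L, s, hL, -, hz⟩ := Groth.PicAux.exists_invertible_section hI
  have e : homOfSection (s.app ⊤ (Groth.PicAux.oneSec X ⊤)) = s :=
    Groth.PicAux.hom_structure_ext (Groth.PicAux.homOfSection_one _)
  have hz' : zero L (s.app ⊤ (Groth.PicAux.oneSec X ⊤)) = I := by rw [zero, e, hz]
  exact ⟨L, hL, _, hz', (cls_eq_divCls hL _ (hz'.symm ▸ hI)).trans (divCls_congr hz' _ hI)⟩

theorem pull_divCls (f : X ⟶ Y) {I : Y.IdealSheafData} (hI : BlowUp.IsEffCartierIdeal I)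
    (hJ : BlowUp.IsEffCartierIdeal (I.comap f)) : pull f (divCls hI) = divCls hJ := by
  obtain ⟨L, hL, s, hz, hc⟩ := exists_section hI
  have hz' : zero ((Scheme.Modules.pullback f).obj L) (pullSec f L s) = I.comap f :=
    (zero_pull f hL s).trans (by rw [hz])
  rw [← hc, pull_cls]
  exact (cls_eq_divCls _ _ (hz'.symm ▸ hJ)).trans (divCls_congr hz' _ hJ)

variable {T : Scheme.{u}} (π : Y ⟶ T)

theorem isPullback_comap_fiber (I : Y.IdealSheafData) (t : T) :
    ∃ top : (I.comap (π.fiberι t)).subscheme ⟶ I.subscheme,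
      IsPullback top ((I.comap (π.fiberι t)).subschemeι ≫ π.fiberToSpecResidueField t)
        (I.subschemeι ≫ π) (T.fromSpecResidueField t) := by
  refine ⟨(I.comapIso (π.fiberι t)).hom ≫ pullback.snd _ _,
    IsPullback.paste_vert (h₂₁ := π.fiberι t) (v₁₁ := (I.comap (π.fiberι t)).subschemeι)
      (v₁₂ := I.subschemeι) ?_ (IsPullback.of_hasPullback _ _)⟩
  exact (IsPullback.of_hasPullback (π.fiberι t) I.subschemeι).flip.of_iso
    (I.comapIso (π.fiberι t)).symm (Iso.refl _) (Iso.refl _) (Iso.refl _)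
    (by rw [Iso.refl_hom, Category.comp_id, Iso.symm_hom, Iso.inv_hom_id_assoc])
    (by rw [Iso.refl_hom, Category.comp_id, Iso.symm_hom,
      Scheme.IdealSheafData.comapIso_inv_subschemeι])
    (by simp) (by simp)

/-- A finite locally free divisor on a smooth family of curves is effective Cartier, and so are
its fibres. -/
theorem isEffCartierIdeal_of_finLocFree [SmoothOfRelativeDimension 1 π] {d : ℕ}
    {I : Y.IdealSheafData} (hI : Mor2.IsFinLocFreeOfDeg d (I.subschemeι ≫ π)) :
    BlowUp.IsEffCartierIdeal I ∧ ∀ t, BlowUp.IsEffCartierIdeal (I.comap (π.fiberι t)) := by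
  obtain ⟨⟨_, _, _⟩, -⟩ := hI
  refine ⟨Groth.CurveDiv.isEffCartierIdeal_of_lqf π, fun t => ?_⟩
  obtain ⟨top, hsq⟩ := isPullback_comap_fiber π I t
  let p := π.fiberToSpecResidueField t
  have hp : SmoothOfRelativeDimension 1 p :=
    haveI := smoothOfRelativeDimension_isStableUnderBaseChange.{u} (n := 1)
    MorphismProperty.of_isPullback (P := @SmoothOfRelativeDimension 1)
      (IsPullback.of_hasPullback π (T.fromSpecResidueField t)) ‹_›
  have : IsFinite ((I.comap (π.fiberι t)).subschemeι ≫ p) := MorphismProperty.of_isPullback hsq ‹_›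
  have : Flat ((I.comap (π.fiberι t)).subschemeι ≫ p) := MorphismProperty.of_isPullback hsq ‹_›
  have : LocallyOfFinitePresentation ((I.comap (π.fiberι t)).subschemeι ≫ p) :=
    MorphismProperty.of_isPullback hsq ‹_›
  exact Groth.CurveDiv.isEffCartierIdeal_of_lqf p

/-- The canonical section of a relative divisor does not vanish on any fibre. -/
theorem fibNZ_of_zero [SmoothOfRelativeDimension 1 π] [GeometricallyIntegral π] {d : ℕ}
    {L : Y.Modules} (hL : PicF.IsInvertible L) {s : Γ(L, (⊤ : Y.Opens))}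
    (hI : Mor2.IsFinLocFreeOfDeg d ((zero L s).subschemeι ≫ π)) : FibNZ (W := ⊤) π L s := by
  intro t _ h0
  have hC := (isEffCartierIdeal_of_finLocFree π hI).2 t
  rw [← zero_pull (π.fiberι t) hL s] at hC
  obtain ⟨x⟩ : Nonempty (π.fiber t) := inferInstance
  have hL' := Groth.PicAux.isInvertible_pullback (π.fiberι t) hL
  obtain ⟨U, e, hxU, he⟩ := (Groth.PicAux.isInvertible_iff_exists_gen _).1 hL' x
  obtain ⟨W, hxW, hWU⟩ := Divisors.exists_affine_le x U hxU
  have h := regularSection_of_isEffCartierIdeal hL' hC W.1 _ (he.res hWU) 0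
    ((val_homOfSection _ _ W.1).trans (by
      rw [show (pullSec (π.fiberι t) L s : Γ((Scheme.Modules.pullback (π.fiberι t)).obj L,
        (⊤ : (π.fiber t).Opens))) = 0 from h0, Groth.PicAux.res_zero, zero_smul])) x hxW
  rw [map_zero] at h
  exact nonZeroDivisors.ne_zero h rfl

/-- Goodness only depends on the isomorphism class. -/
theorem goodAt_congr {L M : Y.Modules} (e : L ≅ M) {t : T} (h : GoodAt π L t) : GoodAt π M t := by
  letI : (π.fiber t).Over (Spec (CommRingCat.of (T.residueField t))) :=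
    ⟨π.fiberToSpecResidueField t⟩
  let e' := (Scheme.Modules.pullback (π.fiberι t)).mapIso e
  refine ⟨?_, ?_⟩
  · have := h.1
    exact (Groth.EulerDeg.hEquiv (T.residueField t) e' 1).toEquiv.symm.subsingleton
  · exact (Groth.EulerDeg.finrank_congr (k := T.residueField t) e' 0).symm.trans h.2

/-- Goodness of a class. -/
def GoodC (c : PicLoc.PicSet Y) (t : T) : Prop :=
  ∃ (L : Y.Modules) (hL : PicF.IsInvertible L), cls hL = c ∧ GoodAt π L t

theorem goodC_cls {L : Y.Modules} (hL : PicF.IsInvertible L) (t : T) :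
    GoodC π (cls hL) t ↔ GoodAt π L t := by
  refine ⟨fun ⟨M, hM, h, hg⟩ => ?_, fun h => ⟨L, hL, rfl, h⟩⟩
  obtain ⟨e⟩ := (nonempty_iso_iff hM hL).2 h
  exact goodAt_congr π e hg

theorem isOpen_goodC [IsProper π] [LocallyOfFinitePresentation π] [Flat π]
    (c : PicLoc.PicSet Y) : IsOpen {t | GoodC π c t} := by
  obtain ⟨L, hL, rfl⟩ := PicGrp.exists_eq_cls c
  rw [show {t | GoodC π (cls hL) t} = {t | GoodAt π L t} from Set.ext (goodC_cls π hL)]
  exact isOpen_goodAt hL

theorem goodC_baseChange_iff [IsProper π] [LocallyOfFinitePresentation π] [Flat π]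
    {Y' T' : Scheme.{u}} {π' : Y' ⟶ T'} {g' : Y' ⟶ Y} {g : T' ⟶ T}
    (hsq : IsPullback g' π' π g) [IsProper π'] (c : PicLoc.PicSet Y) (t' : T') :
    GoodC π' (pull g' c) t' ↔ GoodC π c (g t') := by
  obtain ⟨L, hL, rfl⟩ := PicGrp.exists_eq_cls c
  rw [pull_cls, goodC_cls, goodC_cls]
  exact goodAt_baseChange_iff hsq hL t'

end Groth.PicCurve
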