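import Groth.Agent.PicAux.EffCartierSection
import Groth.Prelude.Def_CurvBase

/-!
# Zero schemes of global sections and their inverse images
-/

universe u

open CategoryTheory CategoryTheory.Limits AlgebraicGeometry Opposite TopologicalSpace BlowUp
open Groth.PicAux

set_option maxHeartbeats 800000
set_option backward.isDefEq.respectTransparency false
set_option backward.defeqAttrib.useBackward true
set_option backward.isDefEq.respectTransparency.types false

namespace Groth.PicCurve

variable {X Y : Scheme.{u}}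

/-- The zero scheme of a global section. -/
noncomputable def zero (L : X.Modules) (s : Γ(L, (⊤ : X.Opens))) : X.IdealSheafData :=
  PicF2.zeroScheme L (homOfSection s)

theorem val_homOfSection (L : X.Modules) (s : Γ(L, (⊤ : X.Opens))) (W : X.Opens) :
    (homOfSection s).app W (oneSec X W) = res L le_top s := by
  rw [← res_app_oneSec (homOfSection s) (le_top : W ≤ ⊤), homOfSection_one]

theorem zero_ideal {L : X.Modules} (hL : PicF.IsInvertible L) (s : Γ(L, (⊤ : X.Opens)))
    (W : X.affineOpens) {e : Γ(L, W.1)} (he : Gen L W.1 e) {c : Γ(X, W.1)}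
    (hc : res L (le_top : W.1 ≤ ⊤) s = c • e) : (zero L s).ideal W = Ideal.span {c} :=
  Variety2.Zero.zeroScheme_ideal_eq_span hL _ W he ((val_homOfSection L s W.1).trans hc)

theorem isLocPrincipal_zero {L : X.Modules} (hL : PicF.IsInvertible L) (s : Γ(L, (⊤ : X.Opens))) :
    Curv2.IsLocPrincipal (zero L s) := fun x _ => by
  obtain ⟨U, e, hxU, he⟩ := (isInvertible_iff_exists_gen _).1 hL x
  obtain ⟨W, hxW, hWU⟩ := Divisors.exists_affine_le x U hxU
  obtain ⟨c, hc⟩ := (he.res hWU).exists_coeff le_rfl (res L (le_top : W.1 ≤ ⊤) s)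
  rw [res_self] at hc
  exact ⟨W, hxW, c, zero_ideal hL s W (he.res hWU) hc⟩

/-- The inverse image of a zero scheme is the zero scheme of the inverse image. -/
theorem zero_pull (f : X ⟶ Y) {L : Y.Modules} (hL : PicF.IsInvertible L)
    (s : Γ(L, (⊤ : Y.Opens))) :
    zero ((Scheme.Modules.pullback f).obj L) (pullSec f L s) = (zero L s).comap f := by
  refine Divisors.ext_of_cover fun x => ?_
  obtain ⟨U, e, hxU, he⟩ := (isInvertible_iff_exists_gen _).1 hL (f x)
  obtain ⟨W, hxW, hWU⟩ := Divisors.exists_affine_le (f x) U hxU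
  obtain ⟨c, hc⟩ := (he.res hWU).exists_coeff le_rfl (res L (le_top : W.1 ≤ ⊤) s)
  rw [res_self] at hc
  obtain ⟨V, hxV, hVW⟩ := Divisors.exists_affine_le x (f ⁻¹ᵁ W.1) hxW
  refine ⟨V, hxV, ?_⟩
  have hgen := (((he.res hWU)).pull f).res hVW
  have hc' : res ((Scheme.Modules.pullback f).obj L) (le_top : V.1 ≤ ⊤) (pullSec f L s) =
      resX X hVW (f.app W.1 c) • res _ hVW (pullSec f L (res L hWU e)) := by
    rw [← res_smul, ← pullSec_smul, ← hc, ← res_pullSec, res_res]
  rw [zero_ideal (isInvertible_pullback f hL) _ V hgen hc',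
    Divisors.ideal_comap_affine _ f W V hVW, zero_ideal hL s W (he.res hWU) hc, Ideal.map_span,
    Set.image_singleton]
  rfl

/-- Unit multiples have the same zero scheme. -/
theorem zero_smul_unit {L : X.Modules} (hL : PicF.IsInvertible L) (s : Γ(L, (⊤ : X.Opens)))
    {a : Γ(X, ⊤)} (ha : IsUnit a) : zero L (a • s) = zero L s :=
  zeroScheme_eq_of_isUnit_smul hL ha (by rw [homOfSection_one, homOfSection_one])

/-- An isomorphism does not change zero schemes. -/
theorem zero_iso {L M : X.Modules} (hL : PicF.IsInvertible L) (hM : PicF.IsInvertible M)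
    (φ : L ≅ M) (s : Γ(L, (⊤ : X.Opens))) : zero M (φ.hom.app ⊤ s) = zero L s := by
  refine Divisors.ext_of_cover fun x => ?_
  obtain ⟨U, e, hxU, he⟩ := (isInvertible_iff_exists_gen _).1 hL x
  obtain ⟨W, hxW, hWU⟩ := Divisors.exists_affine_le x U hxU
  obtain ⟨c, hc⟩ := (he.res hWU).exists_coeff le_rfl (res L (le_top : W.1 ≤ ⊤) s)
  rw [res_self] at hc
  refine ⟨W, hxW, ?_⟩
  have hc' : res M (le_top : W.1 ≤ ⊤) (φ.hom.app ⊤ s) = c • φ.hom.app W.1 (res L hWU e) := by
    rw [← app_res, hc, Scheme.Modules.Hom.app_smul]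
  rw [zero_ideal hL s W (he.res hWU) hc, zero_ideal hM _ W ((he.res hWU).map φ.hom) hc']

/-- A nonzero section on an integral scheme is regular. -/
theorem regularSection_homOfSection [IsIntegral X] {L : X.Modules} (hL : PicF.IsInvertible L)
    {s : Γ(L, (⊤ : X.Opens))} (hs : s ≠ 0) : RegularSection L (homOfSection s) :=
  regularSection_of_ne_zero hL fun h => hs <| by
    rw [← homOfSection_one s, h]
    rfl

end Groth.PicCurve
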