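import Groth.Agent.PicCurve.RigPic
import Groth.Agent.PicCurve.ZeroPull
import Groth.Agent.PicCurve.Divisor
import Groth.Agent.Limits.BC0.CurvesSectionPush
import Groth.Agent.CohTwo.FieldExtension
import Groth.Agent.FBaseGeom.Dim
import Mathlib

/-!
# Points of a curve of positive genus are determined by their line bundles
-/

universe u

open CategoryTheory CategoryTheory.Limits AlgebraicGeometry TopologicalSpace Opposite
open Groth.PicAux (Gen pullSec res resX oneSec homOfSection)

set_option maxHeartbeats 1600000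
set_option backward.isDefEq.respectTransparency false
set_option backward.defeqAttrib.useBackward true
set_option backward.isDefEq.respectTransparency.types false

namespace Groth.PicCurve

variable {C S : Scheme.{u}}

/-- Fibres of a base change have the dimension of the fibres. -/
theorem dim_fiber_of_isPullback {C' S' : Scheme.{u}} {f : C ⟶ S} [LocallyOfFiniteType f]
    {f' : C' ⟶ S'} {g' : C' ⟶ C} {g : S' ⟶ S} (hsq : IsPullback g' f' f g) (t : S') :
    topologicalKrullDim (f'.fiber t) = topologicalKrullDim (f.fiber (g t)) := by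
  let K := S'.residueField t
  let k := S.residueField (g t)
  letI : Algebra k K := (g.residueFieldMap t).hom.toAlgebra
  let r := Spec.map (CommRingCat.ofHom (algebraMap k K))
  have hr : r ≫ S.fromSpecResidueField (g t) = S'.fromSpecResidueField t ≫ g :=
    Scheme.Hom.SpecMap_residueFieldMap_fromSpecResidueField _ _
  have hbig := (IsPullback.of_hasPullback f' (S'.fromSpecResidueField t)).paste_horiz hsq
  let m : f'.fiber t ⟶ f.fiber (g t) :=
    pullback.lift (f'.fiberι t ≫ g') (f'.fiberToSpecResidueField t ≫ r)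
      (by rw [Category.assoc (_ : f'.fiber t ⟶ _) r, hr]; exact hbig.w)
  have hsq' : IsPullback m (f'.fiberToSpecResidueField t) (f.fiberToSpecResidueField (g t)) r := by
    refine IsPullback.of_right (h₁₂ := f.fiberι (g t))
      (h₂₂ := S.fromSpecResidueField (g t)) (v₁₃ := f) ?_
      (pullback.lift_snd _ _ _) (IsPullback.of_hasPullback _ _)
    rw [hr, show m ≫ f.fiberι (g t) = _ from pullback.lift_fst _ _ _]
    exact hbig
  have : LocallyOfFiniteType (f.fiberToSpecResidueField (g t)) :=
    MorphismProperty.pullback_snd (P := @LocallyOfFiniteType) _ _ ‹_›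
  refine Eq.trans ?_ (@Groth.FBaseGeom.dim_bc k _ _ (f.fiberToSpecResidueField (g t)) K _
    (g.residueFieldMap t).hom.toAlgebra _)
  exact hsq'.isoPullback.hom.homeomorph.isHomeomorph.topologicalKrullDim_eq

/-- Two sections with the same divisor class coincide. -/
theorem eq_of_inverse_ker {X T : Scheme.{u}} (π : X ⟶ T) [IsProper π] [Smooth π]
    [GeometricallyConnected π] (hdim : ∀ t : T, topologicalKrullDim ↥(π.fiber t) = 1)
    (hg : ∀ t : T, 1 ≤ CohIII.fiberRank π (Coh.structureModule X) 1 t)
    {γ γ' : T ⟶ X} (hγ : γ ≫ π = 𝟙 T) (hγ' : γ' ≫ π = 𝟙 T)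
    {L : X.Modules} (hL : PicF.IsInvertible L)
    (h : ClSub.IsInverseOf L (ClSub.idealMod γ.ker))
    (h' : ClSub.IsInverseOf L (ClSub.idealMod γ'.ker)) : γ = γ' := by
  have : L.IsQuasicoherent := (model_hyps (π := π) hL).1
  obtain ⟨hc, hI⟩ := Groth.Limits.BC0.CurveSection.isEffCartier_ker π hdim γ hγ
  obtain ⟨hc', hI'⟩ := Groth.Limits.BC0.CurveSection.isEffCartier_ker π hdim γ' hγ'
  obtain ⟨s, hs, -⟩ := Groth.PicAux.exists_section_zeroScheme_eq hI h
  obtain ⟨s', hs', -⟩ := Groth.PicAux.exists_section_zeroScheme_eq hI' h'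
  have hgen := Groth.Limits.BC0.CurveSection.gen_push π hdim hg γ hγ hL h s hs
  have hgen' := Groth.Limits.BC0.CurveSection.gen_push π hdim hg γ' hγ' hL h' s' hs'
  let R := (Scheme.Modules.pushforward π).obj L
  obtain ⟨a, ha⟩ := hgen.exists_coeff le_rfl
    (show Γ(R, ⊤) from s'.app ⊤ (oneSec X ⊤))
  obtain ⟨b, hb⟩ := hgen'.exists_coeff le_rfl
    (show Γ(R, ⊤) from s.app ⊤ (oneSec X ⊤))
  rw [Groth.PicAux.res_self] at ha hb
  have hab : b * a = 1 := by
    refine hgen.smul_inj le_rfl ?_
    rw [Groth.PicAux.res_self, mul_smul, ← ha, ← hb, one_smul]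
  have hu : IsUnit (π.appTop a) := (IsUnit.of_mul_eq_one_right b hab).map π.appTop.hom
  have e : homOfSection (s.app ⊤ (oneSec X ⊤)) = s :=
    Groth.PicAux.hom_structure_ext (Groth.PicAux.homOfSection_one _)
  have e' : homOfSection (s'.app ⊤ (oneSec X ⊤)) = s' :=
    Groth.PicAux.hom_structure_ext (Groth.PicAux.homOfSection_one _)
  have key : zero L (s'.app ⊤ (oneSec X ⊤)) = zero L (s.app ⊤ (oneSec X ⊤)) := by
    rw [show s'.app ⊤ (oneSec X ⊤) = π.appTop a • s.app ⊤ (oneSec X ⊤) from ha]
    exact zero_smul_unit hL _ hu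
  rw [zero, zero, e, e', hs, hs'] at key
  have hl : IsClosedImmersion.lift γ γ' key.ge ≫ γ = γ' := IsClosedImmersion.lift_fac _ _ _
  have h1 : IsClosedImmersion.lift γ γ' key.ge = 𝟙 T := by
    calc IsClosedImmersion.lift γ γ' key.ge
        = IsClosedImmersion.lift γ γ' key.ge ≫ γ ≫ π := by rw [hγ, Category.comp_id]
      _ = γ' ≫ π := by rw [← Category.assoc, hl]
      _ = 𝟙 T := hγ'
  rw [h1, Category.id_comp] at hl
  exact hl

variable (f : C ⟶ S) [IsProper f] [Smooth f] [GeometricallyConnected f]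
  (hdim : ∀ s : S, topologicalKrullDim ↥(f.fiber s) = 1)
  (hg : ∀ s : S, 1 ≤ CohIII.fiberRank f (Coh.structureModule C) 1 s)
  {LΔ : (PicF.XT f (Over.mk f)).Modules} (hLΔ : PicF.IsInvertible LΔ)
  (hΔ : ClSub.IsInverseOf LΔ (ClSub.idealMod (pullback.diagonal f).ker))

/-- The graph of a point. -/
noncomputable abbrev graph {T : Over S} (x : T ⟶ Over.mk f) : T.left ⟶ PicF.XT f T :=
  pullback.lift x.left (𝟙 T.left) (by rw [Category.id_comp]; exact Over.w x)

include hdim hLΔ hΔ in
/-- The class of a point is inverse to the ideal of its graph. -/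
theorem inverse_graph {T : Over S} (x : T ⟶ Over.mk f) :
    ClSub.IsInverseOf ((Scheme.Modules.pullback (PicF.XTmap f x)).obj LΔ)
      (ClSub.idealMod (graph f x).ker) := by
  let π := PicF.XTproj f T
  have : IsProper π := MorphismProperty.pullback_snd (P := @IsProper) _ _ ‹_›
  have : Smooth π := MorphismProperty.pullback_snd (P := @Smooth) _ _ ‹_›
  have : GeometricallyConnected π :=
    MorphismProperty.pullback_snd (P := @GeometricallyConnected) _ _ ‹_›
  have houter : IsPullback x.left (graph f x ≫ PicF.XTproj f T)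
      (pullback.diagonal f ≫ PicF.XTproj f (Over.mk f)) x.left := by
    rw [show graph f x ≫ PicF.XTproj f T = 𝟙 _ from pullback.lift_snd _ _ _,
      show pullback.diagonal f ≫ PicF.XTproj f (Over.mk f) = 𝟙 _ from pullback.diagonal_snd _]
    have : IsIso (𝟙 C) := IsIso.id C
    have : IsIso (𝟙 T.left) := IsIso.id T.left
    exact IsPullback.of_vert_isIso ⟨by simp⟩
  have hw : x.left ≫ pullback.diagonal f = graph f x ≫ PicF.XTmap f x := by
    apply pullback.hom_ext
    · rw [Category.assoc, pullback.diagonal_fst, Category.comp_id, Category.assoc,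
        show PicF.XTmap f x ≫ pullback.fst f f = pullback.fst f T.hom from XTmap_fst f x]
      exact (pullback.lift_fst _ _ _).symm
    · rw [Category.assoc, pullback.diagonal_snd, Category.comp_id, Category.assoc,
        show PicF.XTmap f x ≫ pullback.snd f f = PicF.XTproj f T ≫ x.left from XTmap_snd f x,
        ← Category.assoc, show graph f x ≫ PicF.XTproj f T = 𝟙 _ from pullback.lift_snd _ _ _,
        Category.id_comp]
  have sq := (IsPullback.of_bot houter hw (XTmap_sq f x)).flip
  have hker := Groth.AdicLinTop.Thickenings.ker_eq_comap_of_isPullback sq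
  have hdimC : ∀ c : C, topologicalKrullDim ↥((PicF.XTproj f (Over.mk f)).fiber c) = 1 := fun c => by
    rw [dim_fiber_of_isPullback (IsPullback.of_hasPullback f (Over.mk f).hom) c]
    exact hdim _
  have : IsProper (PicF.XTproj f (Over.mk f)) :=
    MorphismProperty.pullback_snd (P := @IsProper) _ _ ‹_›
  have : Smooth (PicF.XTproj f (Over.mk f)) :=
    MorphismProperty.pullback_snd (P := @Smooth) _ _ ‹_›
  have : GeometricallyConnected (PicF.XTproj f (Over.mk f)) :=
    MorphismProperty.pullback_snd (P := @GeometricallyConnected) _ _ ‹_›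
  obtain ⟨-, hI⟩ := Groth.Limits.BC0.CurveSection.isEffCartier_ker
    (PicF.XTproj f (Over.mk f)) hdimC (pullback.diagonal f) (pullback.diagonal_snd _)
  have hdimT : ∀ t : T.left, topologicalKrullDim ↥(π.fiber t) = 1 := fun t => by
    rw [dim_fiber_of_isPullback (IsPullback.of_hasPullback f T.hom) t]
    exact hdim _
  obtain ⟨-, hJ⟩ := Groth.Limits.BC0.CurveSection.isEffCartier_ker π hdimT (graph f x)
    (pullback.lift_snd _ _ _)
  rw [hker] at hJ ⊢
  obtain ⟨ψ⟩ := hΔ
  obtain ⟨a⟩ := Groth.PicAux.pullback_idealMod (PicF.XTmap f x) hI hJ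
  obtain ⟨b⟩ := Groth.PicAux.pullback_tensorMod (PicF.XTmap f x) hLΔ
    (Groth.PicAux.isInvertible_idealMod hI)
  obtain ⟨c⟩ := Groth.PicAux.pullback_structure_iso (PicF.XTmap f x)
  exact ⟨PicGrp.tensorModIso (Iso.refl _) a.symm ≪≫ b.symm ≪≫
    (Scheme.Modules.pullback (PicF.XTmap f x)).mapIso ψ ≪≫ c⟩

include hdim hg hLΔ hΔ in
/-- Points with the same class coincide. -/
theorem eq_of_pullCl_eq {T : Over S} (x y : T ⟶ Over.mk f)
    (h : PicF.pullCl (PicF.XTmap f x) (PicF.cl LΔ) = PicF.pullCl (PicF.XTmap f y) (PicF.cl LΔ)) :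
    x = y := by
  let π := PicF.XTproj f T
  have : IsProper π := MorphismProperty.pullback_snd (P := @IsProper) _ _ ‹_›
  have : Smooth π := MorphismProperty.pullback_snd (P := @Smooth) _ _ ‹_›
  have : GeometricallyConnected π :=
    MorphismProperty.pullback_snd (P := @GeometricallyConnected) _ _ ‹_›
  have hdimT : ∀ t : T.left, topologicalKrullDim ↥(π.fiber t) = 1 := fun t => by
    rw [dim_fiber_of_isPullback (IsPullback.of_hasPullback f T.hom) t]
    exact hdim _
  have hgT : ∀ t : T.left, 1 ≤ CohIII.fiberRank π (Coh.structureModule (PicF.XT f T)) 1 t := fun t => by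
    obtain ⟨e⟩ := Groth.PicAux.pullback_structure_iso (pullback.fst f T.hom)
    have : (Coh.structureModule C).IsQuasicoherent :=
      (model_hyps (π := f) (L := Coh.structureModule C) (PicLoc.isInvertible_structureModule C)).1
    refine (hg (T.hom t)).trans (le_of_eq ?_)
    refine (Groth.CohTwo.betti_baseChange (IsPullback.of_hasPullback f T.hom)
      (Coh.structureModule C) t 1).symm.trans ?_
    letI : (π.fiber t).Over (Spec (CommRingCat.of (T.left.residueField t))) :=
      ⟨π.fiberToSpecResidueField t⟩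
    exact Groth.EulerDeg.finrank_congr (k := T.left.residueField t)
      ((Scheme.Modules.pullback (π.fiberι t)).mapIso e) 1
  obtain ⟨e⟩ := (PicGrp.cl_eq_cl_iff _ _).1 h
  have h1 := inverse_graph f hdim hLΔ hΔ x
  have h2 := inverse_graph f hdim hLΔ hΔ y
  have hL := Groth.PicAux.isInvertible_pullback (PicF.XTmap f x) hLΔ
  obtain ⟨ψ⟩ := h2
  have key : graph f x = graph f y := eq_of_inverse_ker π hdimT hgT
    (pullback.lift_snd _ _ _) (pullback.lift_snd _ _ _) hL h1
    ⟨PicGrp.tensorModIso e (Iso.refl _) ≪≫ ψ⟩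
  ext1
  have := congrArg (· ≫ pullback.fst f T.hom) key
  simpa [graph] using this

end Groth.PicCurve

namespace Groth.PicCurve

/-- Morphisms of schemes agreeing on a covering of the source agree. -/
theorem hom_ext_of_fppfCover {T Y : Scheme.{u}} {R : Presieve T} (hR : R ∈ Scheme.fppfPrecoverage T)
    (a b : T ⟶ Y) (h : ∀ ⦃U : Scheme.{u}⦄ (u : U ⟶ T), R u → u ≫ a = u ≫ b) : a = b := by
  have hs : Presieve.IsSheaf Scheme.fppfTopology (yoneda.obj Y) :=
    GrothendieckTopology.Subcanonical.isSheaf_of_isRepresentable _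
  have h1 : Presieve.IsSheafFor (yoneda.obj Y) R :=
    (Presieve.isSheafFor_iff_generate _).2 (hs _ (Precoverage.generate_mem_toGrothendieck hR))
  exact h1.isSeparatedFor.ext h

theorem pullCl_pullCl {X Y Z : Scheme.{u}} (f : X ⟶ Y) (g : Y ⟶ Z) (c : PicF.Cl Z) :
    PicF.pullCl f (PicF.pullCl g c) = PicF.pullCl (f ≫ g) c := by
  obtain ⟨L, rfl⟩ := Quot.exists_rep c
  exact Quot.sound ⟨(Scheme.Modules.pullbackComp f g).app L⟩

end Groth.PicCurve
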