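import Groth.Agent.PicCurve.OpenImm
import Groth.Agent.Abvar.PicCalc
import Groth.Agent.Abvar.Seesaw.Global
import Groth.Agent.Flatmor4.OverRep
import Mathlib

/-!
# Rigidified invertible classes on `X ×_S T`
-/

universe u

open CategoryTheory CategoryTheory.Limits AlgebraicGeometry TopologicalSpace Opposite
open Groth.Abvar.PicCalc
open Groth.PicAux (Gen pullSec res)
open Groth.Flatmor4.OverRep (piece pieceHom)

set_option maxHeartbeats 1600000
set_option backward.isDefEq.respectTransparency false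
set_option backward.defeqAttrib.useBackward true
set_option backward.isDefEq.respectTransparency.types false

namespace Groth.PicCurve

variable {X S : Scheme.{u}} (f : X ⟶ S) {T T' T'' : Over S}

theorem XTmap_fst (g : T' ⟶ T) : PicF.XTmap f g ≫ pullback.fst f T.hom = pullback.fst f T'.hom := by
  simp [PicF.XTmap, pullback.lift_fst]

theorem XTmap_snd (g : T' ⟶ T) :
    PicF.XTmap f g ≫ PicF.XTproj f T = PicF.XTproj f T' ≫ g.left := by
  simp [PicF.XTmap, pullback.lift_snd]

theorem XTmap_sq (g : T' ⟶ T) :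
    IsPullback (PicF.XTmap f g) (PicF.XTproj f T') (PicF.XTproj f T) g.left := by
  refine IsPullback.of_right (h₁₂ := pullback.fst f T.hom) (h₂₂ := T.hom) (v₁₃ := f) ?_
    (XTmap_snd f g) (IsPullback.of_hasPullback f T.hom)
  rw [XTmap_fst, Over.w g]
  exact IsPullback.of_hasPullback f T'.hom

theorem XTmap_comp' (g : T'' ⟶ T') (h : T' ⟶ T) :
    PicF.XTmap f (g ≫ h) = PicF.XTmap f g ≫ PicF.XTmap f h := by
  apply pullback.hom_ext <;> simp [PicF.XTmap, pullback.lift_fst, pullback.lift_snd]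

theorem XTmap_id' : PicF.XTmap f (𝟙 T) = 𝟙 _ := by
  apply pullback.hom_ext <;> simp [PicF.XTmap, pullback.lift_fst, pullback.lift_snd]

theorem isOpenImmersion_XTmap (g : T' ⟶ T) [IsOpenImmersion g.left] :
    IsOpenImmersion (PicF.XTmap f g) :=
  MorphismProperty.of_isPullback (P := @IsOpenImmersion) (XTmap_sq f g).flip ‹_›

theorem range_XTmap (g : T' ⟶ T) [IsOpenImmersion g.left] :
    haveI := isOpenImmersion_XTmap f g
    (PicF.XTmap f g).opensRange = PicF.XTproj f T ⁻¹ᵁ g.left.opensRange := by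
  have := isOpenImmersion_XTmap f g
  apply Opens.ext
  ext x
  constructor
  · rintro ⟨z, rfl⟩
    exact ⟨PicF.XTproj f T' z, by
      rw [← Scheme.Hom.comp_apply, ← XTmap_snd]; rfl⟩
  · rintro ⟨y, hy⟩
    obtain ⟨z, hz, -⟩ := Scheme.Pullback.exists_preimage_pullback (f := PicF.XTproj f T)
      (g := g.left) x y hy.symm
    refine ⟨(XTmap_sq f g).isoPullback.inv z, ?_⟩
    rw [← Scheme.Hom.comp_apply, (XTmap_sq f g).isoPullback_inv_fst]
    exact hz

variable (σ : S ⟶ X) (hσ : σ ≫ f = 𝟙 S)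

theorem secT_proj (T : Over S) : PicF.secT f σ hσ T ≫ PicF.XTproj f T = 𝟙 _ :=
  pullback.lift_snd _ _ _

theorem secT_map (g : T' ⟶ T) :
    PicF.secT f σ hσ T' ≫ PicF.XTmap f g = g.left ≫ PicF.secT f σ hσ T := by
  apply pullback.hom_ext
  · rw [Category.assoc, XTmap_fst, Category.assoc, PicF.secT, PicF.secT, pullback.lift_fst,
      pullback.lift_fst, Over.w_assoc g]
  · rw [Category.assoc, XTmap_snd, ← Category.assoc, secT_proj, Category.assoc, secT_proj,
      Category.id_comp, Category.comp_id]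

/-- Projections have only constant functions over every open. -/
def ConstFun : Prop :=
  ∀ (T : Over S) (V : T.left.Opens), Function.Bijective ((PicF.XTproj f T).app V)

theorem constFun_of_curve [IsProper f] [Smooth f] [GeometricallyReduced f]
    [GeometricallyConnected f] : ConstFun f := fun T V => by
  have : IsProper (PicF.XTproj f T) := MorphismProperty.pullback_snd _ _ ‹_›
  have : Smooth (PicF.XTproj f T) := MorphismProperty.pullback_snd _ _ ‹_›
  have : GeometricallyReduced (PicF.XTproj f T) := MorphismProperty.pullback_snd _ _ ‹_›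
  have : GeometricallyConnected (PicF.XTproj f T) := MorphismProperty.pullback_snd _ _ ‹_›
  exact Groth.GrpschAbsch.H0General.app_bijective (PicF.XTproj f T) V

/-- Rigidified classes. -/
def RS (T : Over S) : Type (u + 1) :=
  {c : PicLoc.PicSet (PicF.XT f T) // pull (PicF.secT f σ hσ T) c = 1}

variable {f σ hσ}

theorem pull_map_mem (g : T' ⟶ T) {c : PicLoc.PicSet (PicF.XT f T)}
    (hc : pull (PicF.secT f σ hσ T) c = 1) :
    pull (PicF.secT f σ hσ T') (pull (PicF.XTmap f g) c) = 1 := by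
  rw [← pull_comp, secT_map, pull_comp, hc, map_one]

/-- Restriction of rigidified classes. -/
noncomputable def RS.map (g : T' ⟶ T) (c : RS f σ hσ T) : RS f σ hσ T' :=
  ⟨pull (PicF.XTmap f g) c.1, pull_map_mem g c.2⟩

variable (f σ hσ) in
/-- Normalisation along the section. -/
noncomputable def norm (T : Over S) (c : PicLoc.PicSet (PicF.XT f T)) : RS f σ hσ T :=
  ⟨c * (pull (PicF.XTproj f T) (pull (PicF.secT f σ hσ T) c))⁻¹, by
    rw [map_mul, map_inv, ← pull_comp (PicF.secT f σ hσ T), secT_proj, pull_id, mul_inv_cancel]⟩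

theorem norm_map (g : T' ⟶ T) (c : PicLoc.PicSet (PicF.XT f T)) :
    (norm f σ hσ T c).map g = norm f σ hσ T' (pull (PicF.XTmap f g) c) := by
  apply Subtype.ext
  show pull (PicF.XTmap f g) (c * _) = pull (PicF.XTmap f g) c * _
  rw [map_mul, map_inv]
  congr 2
  rw [← pull_comp (PicF.XTmap f g) (PicF.XTproj f T), XTmap_snd, pull_comp,
    ← pull_comp g.left (PicF.secT f σ hσ T), ← secT_map, pull_comp]

theorem norm_mul_base (c : PicLoc.PicSet (PicF.XT f T)) (d : PicLoc.PicSet T.left) :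
    norm f σ hσ T (c * pull (PicF.XTproj f T) d) = norm f σ hσ T c := by
  apply Subtype.ext
  show c * _ * _ = c * _
  rw [map_mul, ← pull_comp (PicF.secT f σ hσ T) (PicF.XTproj f T), secT_proj, pull_id, map_mul,
    mul_inv, mul_comm (pull _ (pull _ c))⁻¹, mul_assoc, mul_inv_cancel_left]

theorem norm_self (c : RS f σ hσ T) : norm f σ hσ T c.1 = c := by
  apply Subtype.ext
  show c.1 * _ = c.1
  rw [c.2, map_one, inv_one, mul_one]

theorem norm_mul (c d : PicLoc.PicSet (PicF.XT f T)) :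
    (norm f σ hσ T (c * d)).1 = (norm f σ hσ T c).1 * (norm f σ hσ T d).1 := by
  show c * d * _ = c * _ * (d * _)
  rw [map_mul, map_mul, mul_inv]
  exact mul_mul_mul_comm _ _ _ _

theorem map_map (g : T'' ⟶ T') (h : T' ⟶ T) (c : RS f σ hσ T) :
    (c.map h).map g = c.map (g ≫ h) := by
  apply Subtype.ext
  show pull _ (pull _ _) = pull _ _
  rw [← pull_comp, XTmap_comp']

theorem map_id (c : RS f σ hσ T) : c.map (𝟙 T) = c := by
  apply Subtype.ext
  show pull _ _ = _
  rw [XTmap_id', pull_id]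

/-- A class trivial on the pieces of a cover and along the section is trivial. -/
theorem eq_one_of_local (hc : ConstFun f) (𝒰 : Scheme.OpenCover.{u} T.left)
    {c : PicLoc.PicSet (PicF.XT f T)} (hs : pull (PicF.secT f σ hσ T) c = 1)
    (h : ∀ i, pull (PicF.XTmap f (pieceHom T 𝒰 i)) c = 1) : c = 1 := by
  obtain ⟨L, hL, rfl⟩ := PicGrp.exists_eq_cls c
  rw [pull_cls, ← nonempty_iso_structure_iff] at hs
  rw [← nonempty_iso_structure_iff]
  refine Abvar.Seesaw.trivial_of_local (π := PicF.XTproj f T) (secT_proj f σ hσ T) (hc T)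
    (fun y => ?_) hs
  obtain ⟨i, z, hz⟩ := 𝒰.exists_eq y
  have hi := h i
  rw [pull_cls, ← nonempty_iso_structure_iff, PicAux.nonempty_iso_structure_iff] at hi
  have : IsOpenImmersion (pieceHom T 𝒰 i).left := inferInstanceAs (IsOpenImmersion (𝒰.f i))
  have := isOpenImmersion_XTmap f (pieceHom T 𝒰 i)
  obtain ⟨a, ha⟩ := Abvar.Seesaw.exists_gen_image (PicF.XTmap f (pieceHom T 𝒰 i)) L ⊤ hi
  have hle : PicF.XTproj f T ⁻¹ᵁ (𝒰.f i).opensRange ≤ PicF.XTmap f (pieceHom T 𝒰 i) ''ᵁ ⊤ := by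
    rw [Scheme.Hom.image_top_eq_opensRange, range_XTmap]
    exact le_rfl
  exact ⟨(𝒰.f i).opensRange, ⟨z, hz⟩, _, ha.res hle⟩

/-- Rigidified classes are determined on an open cover. -/
theorem ext_of_cover (hc : ConstFun f) (𝒰 : Scheme.OpenCover.{u} T.left) {c d : RS f σ hσ T}
    (h : ∀ i, c.map (pieceHom T 𝒰 i) = d.map (pieceHom T 𝒰 i)) : c = d := by
  refine Subtype.ext (eq_of_mul_inv_eq_one (eq_one_of_local hc 𝒰 (σ := σ) (hσ := hσ) ?_ fun i => ?_))
  · rw [map_mul, map_inv, c.2, d.2, inv_one, mul_one]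
  · rw [map_mul, map_inv, show pull _ c.1 = pull _ d.1 from congrArg Subtype.val (h i),
      mul_inv_cancel]

/-- Rigidified classes glue along an open cover. -/
theorem exists_of_cover (hc : ConstFun f) (𝒰 : Scheme.OpenCover.{u} T.left)
    (c : ∀ i, RS f σ hσ (piece T 𝒰 i))
    (hcomp : ∀ (i j : 𝒰.I₀) (W : Over S) (p : W ⟶ piece T 𝒰 i) (q : W ⟶ piece T 𝒰 j),
      p ≫ pieceHom T 𝒰 i = q ≫ pieceHom T 𝒰 j → (c i).map p = (c j).map q) :
    ∃ d : RS f σ hσ T, ∀ i, d.map (pieceHom T 𝒰 i) = c i := by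
  choose L hL hcL using fun i => PicGrp.exists_eq_cls (c i).1
  have hθ : ∀ i, Nonempty ((Scheme.Modules.pullback (PicF.secT f σ hσ (piece T 𝒰 i))).obj (L i) ≅
      Coh.structureModule _) := fun i => by
    have := (c i).2
    rw [hcL i, pull_cls, ← nonempty_iso_structure_iff] at this
    exact this
  let e := PicF.secT f σ hσ T
  let π := PicF.XTproj f T
  let V : 𝒰.I₀ → T.left.Opens := fun i => (𝒰.f i).opensRange
  let j : ∀ i, PicF.XT f (piece T 𝒰 i) ⟶ PicF.XT f T := fun i => PicF.XTmap f (pieceHom T 𝒰 i)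
  have hio : ∀ i, IsOpenImmersion (pieceHom T 𝒰 i).left := fun i =>
    inferInstanceAs (IsOpenImmersion (𝒰.f i))
  have hji : ∀ i, IsOpenImmersion (j i) := fun i =>
    haveI := hio i
    isOpenImmersion_XTmap f _
  have hrange : ∀ i, (j i).opensRange = π ⁻¹ᵁ V i := fun i =>
    haveI := hio i
    range_XTmap f _
  have he : e ≫ π = 𝟙 _ := secT_proj f σ hσ T
  let l : ∀ i, Glue.Norm e ((Scheme.Modules.pushforward (j i)).obj (L i)) (π ⁻¹ᵁ V i) := fun i =>
    Glue.normOf e (j i) (𝒰.f i) (PicF.secT f σ hσ (piece T 𝒰 i)) (secT_map f σ hσ (pieceHom T 𝒰 i))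
      (L i) (hθ i).some (hrange i).ge fun U hU => Glue.preimage_le he hU
  have hcmp : ∀ i k, Nonempty (Glue.Cmp ((Scheme.Modules.pushforward (j i)).obj (L i))
      ((Scheme.Modules.pushforward (j k)).obj (L k)) (π ⁻¹ᵁ (V i ⊓ V k))) := by
    intro i k
    let W : Over S := Over.mk ((pullback.fst (𝒰.f i) (𝒰.f k) ≫ 𝒰.f i) ≫ T.hom)
    let p : W ⟶ piece T 𝒰 i := Over.homMk (pullback.fst (𝒰.f i) (𝒰.f k)) (Category.assoc _ _ _).symm
    let q : W ⟶ piece T 𝒰 k := Over.homMk (pullback.snd (𝒰.f i) (𝒰.f k))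
      (by simp [W, pullback.condition_assoc])
    have hpq : p ≫ pieceHom T 𝒰 i = q ≫ pieceHom T 𝒰 k := Over.OverMorphism.ext pullback.condition
    have hψ := congrArg Subtype.val (hcomp i k W p q hpq)
    simp only [RS.map, hcL, pull_cls, ← nonempty_iso_iff] at hψ
    obtain ⟨ψ⟩ := hψ
    have : IsOpenImmersion q.left := inferInstanceAs (IsOpenImmersion (pullback.snd (𝒰.f i) (𝒰.f k)))
    have := isOpenImmersion_XTmap f q
    have hfg : PicF.XTmap f p ≫ j i = PicF.XTmap f q ≫ j k := by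
      rw [← XTmap_comp', ← XTmap_comp', hpq]
    refine ⟨Glue.cmpOf (j i) (j k) (PicF.XTmap f p) (PicF.XTmap f q) hfg (L i) (L k) ψ
      ((π.preimage_mono inf_le_left).trans (hrange i).ge)
      ((π.preimage_mono inf_le_right).trans (hrange k).ge) fun U hU z hz => ?_⟩
    rw [range_XTmap]
    obtain ⟨⟨a, ha⟩, -⟩ := hU hz
    obtain ⟨w, -, hw⟩ := Scheme.Pullback.exists_preimage_pullback (f := 𝒰.f i) (g := 𝒰.f k) a
      (PicF.XTproj f _ z) (by
        rw [ha]
        show π (j k z) = _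
        rw [← Scheme.Hom.comp_apply, show j k ≫ π = _ from XTmap_snd f _]
        rfl)
    exact ⟨w, hw⟩
  obtain ⟨M, hM, hMi, hMσ⟩ := Glue.exists_glue (π := π) he (hc T) V (fun z => by
      obtain ⟨i, a, ha⟩ := 𝒰.exists_eq z; exact ⟨i, a, ha⟩) j L
    (fun i x hx => by
      obtain ⟨U, a, hxU, hU, ha⟩ := Glue.exists_gen_push_open (j i) (hL i) ((hrange i).ge hx)
      exact ⟨U, a, hxU, hU.trans (hrange i).le, ha⟩)
    (fun i U hU a ha => (Glue.gen_push_iff (j i) (L i) (hU.trans (hrange i).ge) a).1 ha)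
    (fun i z => (hrange i).le ⟨z, rfl⟩) l hcmp
  refine ⟨⟨cls hM, ?_⟩, fun i => Subtype.ext ?_⟩
  · rw [pull_cls, ← nonempty_iso_structure_iff]; exact hMσ
  · show pull (j i) (cls hM) = (c i).1
    rw [pull_cls, hcL i, ← nonempty_iso_iff]
    exact hMi i

end Groth.PicCurve
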