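import Groth.Agent.PicCurve.DivOfSection
import Groth.Agent.PicCurve.RigPic
import Groth.Agent.CurveDiv.HilbProper
import Groth.Agent.SmoothWeil.Geom
import Groth.Agent.GrpschAbsch.FibreFlat
import Groth.Agent.FBaseGeom.Dim
import Groth.Prelude.Def_Curve
import Mathlib

/-!
# A pointed smooth proper curve over a field and its base changes
-/

universe u

open CategoryTheory CategoryTheory.Limits AlgebraicGeometry TopologicalSpace Opposite

set_option maxHeartbeats 1600000
set_option backward.isDefEq.respectTransparency false
set_option backward.defeqAttrib.useBackward true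
set_option backward.isDefEq.respectTransparency.types false

namespace Groth.PicCurve

variable {k : Type u} [Field k] {X : Scheme.{u}} {f : X ⟶ Spec (CommRingCat.of k)}

/-- The properties of a pointed curve that are used. -/
structure IsPtCurve (f : X ⟶ Spec (CommRingCat.of k)) : Prop where
  proper : IsProper f
  smooth : Smooth f
  geomInt : GeometricallyIntegral f
  geomConn : GeometricallyConnected f
  geomRed : GeometricallyReduced f
  smoothOne : SmoothOfRelativeDimension 1 f
  dim : topologicalKrullDim X = 1
  integral : IsIntegral X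
  curve : Curve.IsSmoothProperCurve k X f
  geomIrr : GeometricallyIrreducible f

theorem isPtCurve (hX : Curve.IsSmoothProperCurve k X f) (σ : Spec (CommRingCat.of k) ⟶ X)
    (hσ : σ ≫ f = 𝟙 _) : IsPtCurve f := by
  obtain ⟨hp, hs, hi, hd⟩ := hX
  have hc : GeometricallyConnected f := Groth.AlgGrp1.geometricallyConnected_of_point f σ hσ
  have hr : GeometricallyReduced f :=
    Groth.GrpschAbsch.FibreFlat.geometricallyReduced_of_smooth f
  have hirr := Groth.SmoothWeil.geometricallyIrreducible_of_connected f
  exact ⟨hp, hs, GeometricallyIntegral.of_geometricallyReduced_of_geometricallyIrreducible f, hc, hr,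
    Groth.CurveDiv.smoothOfRelativeDimension_one_of_curve f hd, hd, hi, ⟨hp, hs, hi, hd⟩, hirr⟩

namespace IsPtCurve

variable (hf : IsPtCurve f) (T : Over (Spec (CommRingCat.of k)))

include hf

theorem constFun : ConstFun f :=
  haveI := hf.proper; haveI := hf.smooth; haveI := hf.geomRed; haveI := hf.geomConn
  constFun_of_curve f

theorem isProper_proj : IsProper (PicF.XTproj f T) :=
  MorphismProperty.pullback_snd _ _ hf.proper

theorem smoothOne_proj : SmoothOfRelativeDimension 1 (PicF.XTproj f T) :=
  haveI := smoothOfRelativeDimension_isStableUnderBaseChange.{u} (n := 1)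
  MorphismProperty.pullback_snd (P := @SmoothOfRelativeDimension 1) _ _ hf.smoothOne

theorem smooth_proj : Smooth (PicF.XTproj f T) :=
  haveI := hf.smoothOne_proj T
  SmoothOfRelativeDimension.smooth 1 _

theorem geomInt_proj : GeometricallyIntegral (PicF.XTproj f T) :=
  MorphismProperty.pullback_snd _ _ hf.geomInt

theorem isPullback_fiber (t : T.left) :
    IsPullback ((PicF.XTproj f T).fiberι t ≫ pullback.fst f T.hom)
      ((PicF.XTproj f T).fiberToSpecResidueField t) f (T.left.fromSpecResidueField t ≫ T.hom) :=
  (IsPullback.of_hasPullback (PicF.XTproj f T) (T.left.fromSpecResidueField t)).paste_horiz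
    (IsPullback.of_hasPullback f T.hom)

theorem dim_fiber (t : T.left) : topologicalKrullDim ((PicF.XTproj f T).fiber t) = 1 := by
  have := hf.smooth
  let τ := T.left.fromSpecResidueField t ≫ T.hom
  let φ := Spec.preimage τ
  letI : Algebra k (T.left.residueField t) := φ.hom.toAlgebra
  have e : τ = Spec.map (CommRingCat.ofHom (algebraMap k (T.left.residueField t))) :=
    (Spec.map_preimage τ).symm
  have h := hf.isPullback_fiber T t
  rw [show T.left.fromSpecResidueField t ≫ T.hom = _ from e] at h
  have h2 := h.isoPullback.hom.homeomorph.isHomeomorph.topologicalKrullDim_eq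
  rw [← hf.dim, ← Groth.FBaseGeom.dim_bc f (T.left.residueField t)]
  exact h2

theorem isCurveFam : IsCurveFam (PicF.XTproj f T) := by
  have := hf.smooth_proj T
  exact ⟨hf.isProper_proj T, inferInstance, inferInstance, hf.geomInt_proj T,
    fun t => (hf.dim_fiber T t).le⟩

end IsPtCurve

/-- The only global functions on a fibre are the constants. -/
theorem finrank_h0_structure {Y T : Scheme.{u}} (π : Y ⟶ T) [IsProper π] [Flat π]
    [LocallyOfFinitePresentation π] [GeometricallyReduced π] [GeometricallyConnected π] (t : T) :
    letI : (π.fiber t).Over (Spec (CommRingCat.of (T.residueField t))) :=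
      ⟨π.fiberToSpecResidueField t⟩
    Module.finrank (T.residueField t) (Coh.HH (π.fiber t) (Coh.structureModule (π.fiber t)) 0) = 1 := by
  let K := T.residueField t
  letI : (π.fiber t).Over (Spec (CommRingCat.of K)) := ⟨π.fiberToSpecResidueField t⟩
  have hb0 := Groth.Abvar.Seesaw.h0Const_of_geometrically π t
  let φ : K →ₗ[K] Coh.HH (π.fiber t) (Coh.structureModule (π.fiber t)) 0 :=
    LinearMap.toSpanSingleton K _ ((Groth.EulerDeg.h0Equiv K (Coh.structureModule (π.fiber t))).symm
      (Groth.PicAux.oneSec (π.fiber t) ⊤))
  have hφ : Function.Bijective φ := by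
    have e : (fun r : K => Groth.PicAux.toFun
        (Groth.EulerDeg.h0Equiv K (Coh.structureModule (π.fiber t)) (φ r))) =
        fun r : K => Coh.toGlobal (π.fiberToSpecResidueField t) r := funext fun r => by
      simp only [φ, LinearMap.toSpanSingleton_apply, map_smul, LinearEquiv.apply_symm_apply,
        Groth.EulerDeg.smul_sec, Groth.PicAux.toFun_smul, Groth.PicAux.toFun_oneSec, mul_one]
      exact Groth.PicAux.resX_self _ _
    have hb' : Function.Bijective (fun r : K => Groth.PicAux.toFun
        (Groth.EulerDeg.h0Equiv K (Coh.structureModule (π.fiber t)) (φ r))) := e ▸ hb0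
    exact (Function.Bijective.of_comp_iff'
      (Groth.EulerDeg.h0Equiv K (Coh.structureModule (π.fiber t))).bijective φ).1 hb'
  have := (LinearEquiv.ofBijective φ hφ).finrank_eq
  rw [Module.finrank_self] at this
  exact this.symm

variable (f) in
/-- The genus: the rank of `H¹(X, O_X)`. -/
noncomputable def genus : ℕ :=
  CohIII.fiberRank f (Coh.structureModule X) 1 (IsLocalRing.closedPoint k)

/-- The Euler characteristic of the structure sheaf of a fibre. -/
theorem IsPtCurve.euler_fiber (hf : IsPtCurve f) (T : Over (Spec (CommRingCat.of k))) (t : T.left) :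
    letI : ((PicF.XTproj f T).fiber t).Over (Spec (CommRingCat.of (T.left.residueField t))) :=
      ⟨(PicF.XTproj f T).fiberToSpecResidueField t⟩
    Curv2.euler (T.left.residueField t) ((PicF.XTproj f T).fiber t)
      (Coh.structureModule ((PicF.XTproj f T).fiber t)) = 1 - genus f := by
  let π := PicF.XTproj f T
  let K := T.left.residueField t
  letI : (π.fiber t).Over (Spec (CommRingCat.of K)) := ⟨π.fiberToSpecResidueField t⟩
  have := hf.isProper_proj T
  have := hf.proper
  have := hf.smooth_proj T
  have hgr : GeometricallyReduced π := MorphismProperty.pullback_snd _ _ hf.geomRed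
  have hgc : GeometricallyConnected π := MorphismProperty.pullback_snd _ _ hf.geomConn
  have : IsProper (π.fiber t ↘ Spec (CommRingCat.of K)) :=
    MorphismProperty.pullback_snd _ _ ‹IsProper π›
  have := Groth.EulerDeg.isNoetherian_of_proper K (X := π.fiber t)
  obtain ⟨e₁⟩ := Groth.PicAux.pullback_structure_iso (pullback.fst f T.hom)
  obtain ⟨e₂⟩ := Groth.PicAux.pullback_structure_iso (π.fiberι t)
  let E : (Scheme.Modules.pullback (π.fiberι t)).obj
      ((Scheme.Modules.pullback (pullback.fst f T.hom)).obj (Coh.structureModule X)) ≅
      Coh.structureModule (π.fiber t) := (Scheme.Modules.pullback (π.fiberι t)).mapIso e₁ ≪≫ e₂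
  have : (Coh.structureModule X).IsQuasicoherent :=
    (model_hyps (π := f) (L := Coh.structureModule X) (PicLoc.isInvertible_structureModule X)).1
  have hb := Groth.CohTwo.betti_baseChange (IsPullback.of_hasPullback f T.hom)
    (Coh.structureModule X) t 1
  have h1 : Module.finrank K (Coh.HH (π.fiber t) (Coh.structureModule (π.fiber t)) 1) = genus f := by
    rw [← Groth.EulerDeg.finrank_congr (k := K) E 1]
    refine hb.trans ?_
    show CohIII.fiberRank f (Coh.structureModule X) 1 (T.hom t) = genus f
    rw [Subsingleton.elim (T.hom t) (IsLocalRing.closedPoint k)]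
    rfl
  have h0 := finrank_h0_structure π t
  rw [Groth.EulerDeg.euler_eq_sub fun n hn =>
    Groth.EulerDeg.subsingleton_HH_of_dim_le_one _ (hf.dim_fiber T t).le _ n hn, h0, h1]
  norm_num

end Groth.PicCurve
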