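import Groth.Agent.PicCurve.DegLocus
import Groth.Agent.CurveDiv.Split
import Groth.Agent.Divisors.EffCartier
import Groth.Agent.PicAux.GenLocusAffine
import Groth.Agent.PicCurve.Setup
import Mathlib

/-!
# Powers of a pointed curve cover the degree zero part of its Picard scheme
-/

universe u

open CategoryTheory CategoryTheory.Limits AlgebraicGeometry TopologicalSpace Opposite
open Groth.Abvar.PicCalc
open Groth.PicAux (pullSec res)

set_option maxHeartbeats 1600000
set_option backward.isDefEq.respectTransparency false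
set_option backward.defeqAttrib.useBackward true
set_option backward.isDefEq.respectTransparency.types false

namespace Groth.PicCurve

section general

variable {X T : Scheme.{u}} (π : X ⟶ T)

theorem degC_pow [IsProper π] (hdim : ∀ t : T, topologicalKrullDim ↥(π.fiber t) = 1)
    (a : PicLoc.PicSet X) (n : ℕ) (t : T) : degC π (a ^ n) t = n * degC π a t := by
  induction n with
  | zero => rw [pow_zero, degC_one]; simp
  | succ n ih => rw [pow_succ, degC_mul π hdim, ih]; push_cast; ring

theorem degC_prod [IsProper π] (hdim : ∀ t : T, topologicalKrullDim ↥(π.fiber t) = 1) :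
    ∀ (d : ℕ) (a : Fin d → PicLoc.PicSet X) (t : T),
      degC π (∏ i, a i) t = ∑ i, degC π (a i) t := by
  intro d
  induction d with
  | zero => intro a t; simp [degC_one]
  | succ d ih =>
    intro a t
    rw [Fin.prod_univ_castSucc, degC_mul π hdim, ih, Fin.sum_univ_castSucc]

theorem fibEuler_structure_curve [IsProper π] [Smooth π] [GeometricallyConnected π]
    (hdim : ∀ t : T, topologicalKrullDim ↥(π.fiber t) = 1) (t : T) :
    fibEuler π (Coh.structureModule X) t =
      1 - (CohIII.fiberRank π (Coh.structureModule X) 1 t : ℤ) := by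
  letI : (π.fiber t).Over (Spec (CommRingCat.of (T.residueField t))) :=
    ⟨π.fiberToSpecResidueField t⟩
  obtain ⟨-, -, h0⟩ := Groth.Limits.BC0.fiber_curve π hdim t
  obtain ⟨e⟩ := Groth.PicAux.pullback_structure_iso (π.fiberι t)
  have e0 : CohIII.fiberRank π (Coh.structureModule X) 0 t = 1 :=
    (Groth.EulerDeg.finrank_congr (k := T.residueField t) e 0).trans h0
  rw [fibEuler_eq_sub π hdim, e0]
  norm_num

/-- The class of a product of divisors. -/
theorem divCls_prod : ∀ (d : ℕ) (I : Fin d → X.IdealSheafData)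
    (hI : ∀ i, BlowUp.IsEffCartierIdeal (I i)),
    ∃ h : BlowUp.IsEffCartierIdeal (∏ i, I i), divCls h = ∏ i, divCls (hI i) := by
  have hmul : ∀ {A B : X.IdealSheafData} (hA : BlowUp.IsEffCartierIdeal A)
      (hB : BlowUp.IsEffCartierIdeal B),
      ∃ h : BlowUp.IsEffCartierIdeal (A * B), divCls h = divCls hA * divCls hB := fun {A B} hA hB => by
    obtain ⟨e⟩ := Groth.PicAux.idealMod_mul hA hB
    have hi := Groth.PicAux.isInvertible_tensorMod (Groth.PicAux.isInvertible_idealMod hA)
      (Groth.PicAux.isInvertible_idealMod hB)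
    have h : BlowUp.IsEffCartierIdeal (A * B) :=
      Groth.PicAux.isEffCartierIdeal_of_isInvertible (Groth.PicAux.isInvertible_of_iso hi e)
    refine ⟨h, ?_⟩
    rw [divCls, divCls, divCls, ← mul_inv, ← cls_tensorMod, inv_inj]
    exact ((nonempty_iso_iff _ _).1 ⟨e⟩).symm
  intro d
  induction d with
  | zero =>
    intro I hI
    have h1 : BlowUp.IsEffCartierIdeal (1 : X.IdealSheafData) := by
      rw [Scheme.IdealSheafData.one_eq_top]; exact Groth.Divisors.isEffCartierIdeal_top
    obtain ⟨h, he⟩ := hmul h1 h1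
    rw [divCls_congr (one_mul 1) h h1] at he
    refine ⟨by rw [Finset.univ_eq_empty, Finset.prod_empty]; exact h1, ?_⟩
    refine (divCls_congr (by rw [Finset.univ_eq_empty, Finset.prod_empty]) _ h1).trans ?_
    rw [Finset.univ_eq_empty, Finset.prod_empty]
    exact left_eq_mul.1 he
  | succ d ih =>
    intro I hI
    obtain ⟨h, he⟩ := ih (fun i => I i.castSucc) (fun i => hI i.castSucc)
    obtain ⟨h', he'⟩ := hmul h (hI (Fin.last d))
    refine ⟨by rw [Fin.prod_univ_castSucc]; exact h', ?_⟩
    refine (divCls_congr (Fin.prod_univ_castSucc I) _ h').trans ?_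
    rw [Fin.prod_univ_castSucc, ← he, ← he']

end general

variable {C S : Scheme.{u}}

/-- The powers of `C` over `S`. -/
noncomputable def cPow (f : C ⟶ S) : ℕ → Over S
  | 0 => Over.mk (𝟙 S)
  | n + 1 => Over.mk (pullback.fst (cPow f n).hom f ≫ (cPow f n).hom)

/-- Forgetting the last factor. -/
noncomputable def cPowFst (f : C ⟶ S) (n : ℕ) : cPow f (n + 1) ⟶ cPow f n :=
  Over.homMk (pullback.fst (cPow f n).hom f) rfl

/-- The last factor. -/
noncomputable def cPowLast (f : C ⟶ S) (n : ℕ) : cPow f (n + 1) ⟶ Over.mk f :=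
  Over.homMk (pullback.snd (cPow f n).hom f) pullback.condition.symm

theorem cPow_props (f : C ⟶ S) [IsProper f] [Smooth f] [GeometricallyConnected f] (n : ℕ) :
    IsProper (cPow f n).hom ∧ Smooth (cPow f n).hom ∧ GeometricallyConnected (cPow f n).hom := by
  induction n with
  | zero =>
    show IsProper (𝟙 S) ∧ Smooth (𝟙 S) ∧ GeometricallyConnected (𝟙 S)
    refine ⟨inferInstance, inferInstance, ⟨geometrically_iff_of_isClosedUnderIsomorphisms.mpr
      fun K _ x => ?_⟩⟩
    have : IsIso (pullback.snd (𝟙 S) x) := inferInstance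
    exact (pullback.snd (𝟙 S) x).homeomorph.connectedSpace_iff.2
      (inferInstanceAs (ConnectedSpace (PrimeSpectrum K)))
  | succ n ih =>
    obtain ⟨_, _, _⟩ := ih
    show IsProper (pullback.fst (cPow f n).hom f ≫ (cPow f n).hom) ∧
      Smooth (pullback.fst (cPow f n).hom f ≫ (cPow f n).hom) ∧
      GeometricallyConnected (pullback.fst (cPow f n).hom f ≫ (cPow f n).hom)
    have : IsProper (pullback.fst (cPow f n).hom f) :=
      MorphismProperty.pullback_fst (P := @IsProper) _ _ ‹_›
    have : Smooth (pullback.fst (cPow f n).hom f) :=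
      MorphismProperty.pullback_fst (P := @Smooth) _ _ ‹_›
    exact ⟨inferInstance, inferInstance, GeometricallyConnected.comp _ _⟩

variable {f : C ⟶ S} [IsProper f] [Smooth f] [GeometricallyConnected f]
  (hdim : ∀ s : S, topologicalKrullDim ↥(f.fiber s) = 1)
  {LΔ : (PicF.XT f (Over.mk f)).Modules} (hLΔ : PicF.IsInvertible LΔ)
  (hΔ : ClSub.IsInverseOf LΔ (ClSub.idealMod (pullback.diagonal f).ker))
  {e : S ⟶ C} (he : e ≫ f = 𝟙 S) (hIe : BlowUp.IsEffCartierIdeal e.ker)

/-- The class of the sum of the points. -/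
noncomputable def powCls : ∀ n, PicLoc.PicSet (PicF.XT f (cPow f n))
  | 0 => 1
  | n + 1 => pull (PicF.XTmap f (cPowFst f n)) (powCls n) * ptCls hLΔ (cPowLast f n)

/-- The class of the sum of the points minus a multiple of the base point. -/
noncomputable def abelPow (n : ℕ) : PicLoc.PicSet (PicF.XT f (cPow f n)) :=
  powCls hLΔ n * (baseCls hIe (cPow f n) ^ n)⁻¹

include hdim hΔ in
theorem degC_powCls : ∀ (n : ℕ) (t : (cPow f n).left),
    degC (PicF.XTproj f (cPow f n)) (powCls hLΔ n) t = n
  | 0, t => by rw [powCls, degC_one]; rfl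
  | n + 1, t => by
    obtain ⟨_, _, _⟩ := family_hyps (f := f) (cPow f (n + 1))
    obtain ⟨_, _, _⟩ := family_hyps (f := f) (cPow f n)
    rw [powCls, degC_mul _ (family_dim hdim _), degC_baseChange _ (XTmap_sq f _),
      degC_powCls n, degC_ptCls hdim hLΔ hΔ]
    push_cast
    ring

include hdim hΔ he in
theorem degC_abelPow (n : ℕ) (t : (cPow f n).left) :
    degC (PicF.XTproj f (cPow f n)) (abelPow hLΔ hIe n) t = 0 := by
  obtain ⟨_, _, _⟩ := family_hyps (f := f) (cPow f n)
  rw [abelPow, degC_mul _ (family_dim hdim _), degC_inv _ (family_dim hdim _),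
    degC_pow _ (family_dim hdim _), degC_powCls hdim hLΔ hΔ, degC_baseCls hdim he]
  ring

/-- Tuples of points are points of the power. -/
theorem exists_tuple {T : Over S} : ∀ (d : ℕ) (x : Fin d → (T ⟶ Over.mk f)),
    ∃ y : T ⟶ cPow f d, pull (PicF.XTmap f y) (powCls hLΔ d) = ∏ i, ptCls hLΔ (x i)
  | 0, _ => ⟨Over.homMk T.hom (Category.comp_id _), by simp [powCls]⟩
  | d + 1, x => by
    obtain ⟨y, hy⟩ := exists_tuple d (fun i => x i.castSucc)
    let y' : T ⟶ cPow f (d + 1) :=
      Over.homMk (pullback.lift y.left (x (Fin.last d)).left ((Over.w y).trans (Over.w _).symm)) (by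
        show pullback.lift _ _ _ ≫ pullback.fst _ _ ≫ (cPow f d).hom = T.hom
        rw [pullback.lift_fst_assoc, Over.w y])
    have e1 : y' ≫ cPowFst f d = y := Over.OverMorphism.ext (pullback.lift_fst _ _ _)
    have e2 : y' ≫ cPowLast f d = x (Fin.last d) := Over.OverMorphism.ext (pullback.lift_snd _ _ _)
    refine ⟨y', ?_⟩
    rw [powCls, map_mul, ← pull_comp, ← XTmap_comp', e1, hy, ptCls, ← pull_comp, ← XTmap_comp', e2,
      Fin.prod_univ_castSucc]
    rfl

include hdim hΔ in
/-- Classes of positive Euler characteristic over a point become sums of points. -/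
theorem exists_pts (T : Over S) (t₀ : T.left) (hsub : ∀ t, t = t₀) [IsIso (T.left.fromSpecResidueField t₀)]
    {L : (PicF.XT f T).Modules} (hL : PicF.IsInvertible L)
    (hpos : 0 < fibEuler (PicF.XTproj f T) L t₀) :
    ∃ (T' : Over S) (g : T' ⟶ T) (_ : Nonempty T'.left) (d : ℕ) (x : Fin d → (T' ⟶ Over.mk f)),
      pull (PicF.XTmap f g) (cls hL) = ∏ i, ptCls hLΔ (x i) := by
  let π := PicF.XTproj f T
  obtain ⟨_, _, _⟩ := family_hyps (f := f) T
  have hfam := isCurveFam_of_smooth π (family_dim hdim T)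
  have := Groth.Limits.BC0.CurveSection.smoothOfRelativeDimension_one π (family_dim hdim T)
  let K := T.left.residueField t₀
  letI : (π.fiber t₀).Over (Spec (CommRingCat.of K)) := ⟨π.fiberToSpecResidueField t₀⟩
  -- a section which is nonzero on the fibre
  have h0 : 0 < CohIII.fiberRank π L 0 t₀ := by
    rw [fibEuler_eq_sub π (family_dim hdim T)] at hpos
    omega
  have : Nontrivial (CohIII.fiberH π L t₀ 0) := Module.nontrivial_of_finrank_pos (R := K) h0
  obtain ⟨w, hw⟩ := exists_ne (0 : CohIII.fiberH π L t₀ 0)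
  let v := Groth.EulerDeg.h0Equiv K (CohIII.fiberMod π L t₀) w
  have : IsIso (π.fiberι t₀) :=
    (IsPullback.of_hasPullback π (T.left.fromSpecResidueField t₀)).isIso_fst_of_isIso
  obtain ⟨s, hs⟩ := (Groth.PicCurve.Glue.pullSec_bijective (π.fiberι t₀) L (U := ⊤)
    (by rw [Scheme.Hom.opensRange_of_isIso])).2 v
  have hNZ : FibNZ (W := ⊤) π L (show Γ(L, π ⁻¹ᵁ ⊤) from s) := by
    intro t _
    obtain rfl := hsub t
    intro h
    exact hw ((Groth.EulerDeg.h0Equiv K (CohIII.fiberMod π L t)).map_eq_zero_iff.1 (hs.symm.trans h))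
  obtain ⟨hC, hfin, hflat, hlfp⟩ := isFinLocFree_zero hfam hL hNZ
  let I := zero L (show Γ(L, (⊤ : (PicF.XT f T).Opens)) from s)
  have hdeg : Mor2.IsFinLocFreeOfDeg ((I.subschemeι ≫ π).finrank t₀) (I.subschemeι ≫ π) :=
    ⟨⟨hfin, hflat, hlfp⟩, fun t => by rw [hsub t]⟩
  obtain ⟨S', b, -, hbs, -, σ, hσ, hker⟩ := Groth.CurveDiv.exists_baseChange_split π I hdeg
  rw [Groth.CurveDiv.ker_snd_subschemeι] at hker
  let T' : Over S := Over.mk (b ≫ T.hom)
  let g : T' ⟶ T := Over.homMk b rfl
  have hne : Nonempty T'.left := ⟨(hbs.surj t₀).choose⟩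
  let i : pullback π b ⟶ PicF.XT f T' :=
    pullback.lift (pullback.fst π b ≫ pullback.fst f T.hom) (pullback.snd π b) (by
      rw [Category.assoc, pullback.condition, pullback.condition_assoc]; rfl)
  have hfst : i ≫ PicF.XTmap f g = pullback.fst π b := by
    apply pullback.hom_ext
    · rw [Category.assoc, XTmap_fst, pullback.lift_fst]
    · rw [Category.assoc, XTmap_snd, pullback.lift_snd_assoc, pullback.condition]
      rfl
  have hsq : IsPullback i (pullback.snd π b) (PicF.XTproj f T') (𝟙 _) := by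
    refine IsPullback.of_right (h₁₂ := PicF.XTmap f g) (h₂₂ := b) (v₁₃ := π) ?_
      (by rw [Category.comp_id]; exact pullback.lift_snd _ _ _) (XTmap_sq f g)
    rw [hfst, Category.id_comp]
    exact IsPullback.of_hasPullback π b
  have : IsIso i := hsq.isIso_fst_of_isIso
  let x : Fin _ → (T' ⟶ Over.mk f) := fun m =>
    Over.homMk (σ m ≫ pullback.fst π b ≫ pullback.fst f T.hom) (by
      show (σ m ≫ pullback.fst π b ≫ pullback.fst f T.hom) ≫ f = b ≫ T.hom
      rw [Category.assoc, Category.assoc, pullback.condition, pullback.condition_assoc,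
        reassoc_of% (hσ m)])
  obtain ⟨_, _, _⟩ := family_hyps (f := f) T'
  have hIm : ∀ m, BlowUp.IsEffCartierIdeal (σ m).ker := fun m => by
    have : SmoothOfRelativeDimension 1 (pullback.snd π b) :=
      haveI := smoothOfRelativeDimension_isStableUnderBaseChange.{u} (n := 1)
      MorphismProperty.pullback_snd (P := @SmoothOfRelativeDimension 1) _ _ ‹_›
    exact (Groth.Agent.S15990.result _ (σ m) (hσ m)).1
  have hpt : ∀ m, pull i (ptCls hLΔ (x m)) = divCls (hIm m) := fun m => by
    obtain ⟨-, hJ⟩ := Groth.Limits.BC0.CurveSection.isEffCartier_ker (PicF.XTproj f T')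
      (family_dim hdim T') (graph f (x m)) (pullback.lift_snd _ _ _)
    have hgr : graph f (x m) = σ m ≫ i := by
      apply pullback.hom_ext
      · rw [pullback.lift_fst, Category.assoc, pullback.lift_fst]
        rfl
      · rw [pullback.lift_snd, Category.assoc, pullback.lift_snd, hσ m]
        rfl
    have hcomap : (graph f (x m)).ker.comap i = (σ m).ker := by
      have : IsClosedImmersion (graph f (x m)) := by
        have : IsClosedImmersion (graph f (x m) ≫ PicF.XTproj f T') := by
          rw [pullback.lift_snd]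
          exact (inferInstance : IsClosedImmersion (𝟙 T'.left))
        exact IsClosedImmersion.of_comp (graph f (x m)) (PicF.XTproj f T')
      have sq : IsPullback (σ m) (𝟙 _) i (graph f (x m)) := by
        rw [hgr]
        exact IsPullback.of_vert_isIso ⟨by simp⟩
      exact (Groth.AdicLinTop.Thickenings.ker_eq_comap_of_isPullback sq).symm
    rw [ptCls_eq hdim hLΔ hΔ (x m) hJ, pull_divCls i hJ (hcomap.symm ▸ hIm m)]
    exact divCls_congr hcomap _ _
  obtain ⟨hP, hprod⟩ := divCls_prod _ _ hIm
  refine ⟨T', g, hne, _, x, ?_⟩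
  have hinj : Function.Injective (pull i) := fun p q h => by
    have := congrArg (pull (inv i)) h
    rwa [← pull_comp, ← pull_comp, IsIso.inv_hom_id, pull_id, pull_id] at this
  refine hinj ?_
  rw [← pull_comp, hfst, map_prod, show cls hL = divCls hC from cls_eq_divCls hL _ hC,
    pull_divCls _ hC (hker ▸ hP)]
  simp only [hpt]
  exact (divCls_congr hker _ hP).trans hprod

variable {P : Over S} {φ : ∀ T : Over S, PicF.Cl (PicF.XT f T) → (T ⟶ P)}
  (hP : AbDual.IsRelPicK Scheme.fppfPrecoverage f P φ) {W : P.left.Opens}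
  (hW : ∀ (T : Over S) (a : PicLoc.PicSet (PicF.XT f T)) (t : T.left),
      (φ T a.1).left t ∈ W ↔ degC (PicF.XTproj f T) a t = 0)

include hdim hΔ he hP hW in
/-- Every point of degree zero is a sum of at least genus many points minus a multiple of the base
point. -/
theorem mem_range_abelPow {p : P.left} (hp : p ∈ W) {n : ℕ}
    (hn : CohIII.fiberRank f (Coh.structureModule C) 1 (P.hom p) ≤ n) :
    p ∈ Set.range (φ (cPow f n) (abelPow hLΔ hIe n).1).left := by
  obtain ⟨R, hR, hRc⟩ := hP.locallySurjective P (𝟙 P)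
  obtain ⟨U, u, z, hu, -, -, hz⟩ := Groth.PicAux.RelPicSep.exists_of_mem_fppf hR p
  obtain ⟨c, hc, hcu⟩ := hRc u hu
  obtain ⟨L₀, rfl, hL₀⟩ := hc
  rw [Category.comp_id] at hcu
  let U' := AbDual.ovr P u
  let T : Over S := Over.mk (U.fromSpecResidueField z ≫ U'.hom)
  let g : T ⟶ U' := Over.homMk (U.fromSpecResidueField z) rfl
  let t₀ : T.left := IsLocalRing.closedPoint (U.residueField z)
  have hsub : ∀ t : T.left, t = t₀ := fun t =>
    Subsingleton.elim (α := PrimeSpectrum (U.residueField z)) _ _
  have : IsReduced T.left := inferInstanceAs (IsReduced (Spec (U.residueField z)))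
  have : IsIso (T.left.fromSpecResidueField t₀) := by
    have hcl : IsClosedImmersion (T.left.fromSpecResidueField t₀) := IsClosedImmersion.of_isPreimmersion _ (by
      rw [show Set.range (T.left.fromSpecResidueField t₀) = Set.univ from
        Set.eq_univ_of_forall fun y => ⟨IsLocalRing.closedPoint _,
          (Scheme.fromSpecResidueField_apply _ _).trans (hsub y).symm⟩]
      exact isClosed_univ)
    have : Surjective (T.left.fromSpecResidueField t₀) :=
      ⟨fun y => ⟨IsLocalRing.closedPoint _, (Scheme.fromSpecResidueField_apply _ _).trans (hsub y).symm⟩⟩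
    exact isIso_of_isClosedImmersion_of_surjective _
  obtain ⟨_, _, _⟩ := family_hyps (f := f) T
  obtain ⟨_, _, _⟩ := family_hyps (f := f) U'
  let π := PicF.XTproj f T
  let a := pull (PicF.XTmap f g) (cls hL₀)
  have hgz : g.left t₀ = z := Scheme.fromSpecResidueField_apply _ _
  have hUp : (φ U' (PicF.cl L₀)).left z = p := by
    rw [hcu]; exact hz
  have ha : degC π a t₀ = 0 := by
    rw [degC_baseChange _ (XTmap_sq f g), hgz]
    exact (hW U' (cls hL₀) z).1 (hUp ▸ hp)
  obtain ⟨L, hL, hLb⟩ := PicGrp.exists_eq_cls (a * baseCls hIe T ^ n)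
  have hdeg : degC π (cls hL) t₀ = n := by
    rw [show cls hL = a * baseCls hIe T ^ n from hLb.symm, degC_mul _ (family_dim hdim T), ha,
      degC_pow _ (family_dim hdim T), degC_baseCls hdim he]
    ring
  have hpos : 0 < fibEuler π L t₀ := by
    rw [degC_cls] at hdeg
    have hO := fibEuler_structure_curve π (family_dim hdim T) t₀
    have hg : CohIII.fiberRank π (Coh.structureModule _) 1 t₀ ≤ n := by
      refine le_trans (le_of_eq ?_) hn
      have : (Coh.structureModule C).IsQuasicoherent :=
        (model_hyps (π := f) (L := Coh.structureModule C) (PicLoc.isInvertible_structureModule C)).1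
      obtain ⟨i⟩ := Groth.PicAux.pullback_structure_iso (pullback.fst f T.hom)
      letI : (π.fiber t₀).Over (Spec (CommRingCat.of (T.left.residueField t₀))) :=
        ⟨π.fiberToSpecResidueField t₀⟩
      refine Eq.trans (Groth.EulerDeg.finrank_congr (k := T.left.residueField t₀)
        ((Scheme.Modules.pullback (π.fiberι t₀)).mapIso i) 1).symm ?_
      refine (Groth.CohTwo.betti_baseChange (IsPullback.of_hasPullback f T.hom)
        (Coh.structureModule C) t₀ 1).trans ?_
      have e : T.hom t₀ = P.hom p := by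
        show (U.fromSpecResidueField z ≫ u ≫ P.hom) t₀ = P.hom p
        rw [Scheme.Hom.comp_apply, Scheme.Hom.comp_apply, Scheme.fromSpecResidueField_apply, hz]
      rw [← e]
      rfl
    omega
  obtain ⟨T', g', hne, d, x, hx⟩ := exists_pts hdim hLΔ hΔ T t₀ hsub hL hpos
  obtain ⟨_, _, _⟩ := family_hyps (f := f) T'
  obtain ⟨t'⟩ := hne
  obtain rfl : d = n := by
    have h1 := congrArg (degC (PicF.XTproj f T') · t') hx
    simp only [degC_baseChange _ (XTmap_sq f g'), degC_prod _ (family_dim hdim T'),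
      degC_ptCls hdim hLΔ hΔ, hsub (g'.left t')] at h1
    rw [hdeg] at h1
    simpa using h1.symm
  obtain ⟨y, hy⟩ := exists_tuple hLΔ d x
  have key : pull (PicF.XTmap f y) (abelPow hLΔ hIe d) = pull (PicF.XTmap f (g' ≫ g)) (cls hL₀) := by
    rw [abelPow, map_mul, map_inv, map_pow, baseCls_map, hy, ← hx,
      show cls hL = a * baseCls hIe T ^ d from hLb.symm, map_mul, map_pow, baseCls_map,
      mul_inv_cancel_right, XTmap_comp', pull_comp]
  have h := congrArg (fun b : PicLoc.PicSet _ => (φ T' b.1).left t') key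
  rw [show (pull (PicF.XTmap f y) (abelPow hLΔ hIe d)).1 = PicF.pullCl _ (abelPow hLΔ hIe d).1 from rfl,
    show (pull (PicF.XTmap f (g' ≫ g)) (cls hL₀)).1 = PicF.pullCl _ (PicF.cl L₀) from rfl,
    hP.natural _ _ y _ (abelPow hLΔ hIe d).2, hP.natural _ _ (g' ≫ g) _ ⟨L₀, rfl, hL₀⟩] at h
  refine ⟨y.left t', h.trans ?_⟩
  rw [Over.comp_left, Over.comp_left, Scheme.Hom.comp_apply, Scheme.Hom.comp_apply,
    hsub (g'.left t'), hgz, hUp]

end Groth.PicCurve
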