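import Groth.Agent.PicCurve.ZeroProper
import Groth.Agent.EtaleBase.FpqcDescent
import Groth.Agent.S12413
import Mathlib

/-!
# Base change of a relative Picard scheme
-/

universe u

open CategoryTheory CategoryTheory.Limits AlgebraicGeometry TopologicalSpace Opposite
open Groth.Abvar.PicCalc

set_option maxHeartbeats 1600000
set_option backward.isDefEq.respectTransparency false
set_option backward.defeqAttrib.useBackward true
set_option backward.isDefEq.respectTransparency.types false

namespace Groth.PicCurve.RelBC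

variable {X S S' : Scheme.{u}} (f : X ⟶ S) (h : S' ⟶ S)

/-- A scheme over `S'` as a scheme over `S`. -/
noncomputable abbrev toBase (T : Over S') : Over S := Over.mk (T.hom ≫ h)

/-- A morphism over `S'` as a morphism over `S`. -/
noncomputable abbrev toBaseHom {T T' : Over S'} (g : T' ⟶ T) : toBase h T' ⟶ toBase h T :=
  Over.homMk g.left (Over.w_assoc g h)

/-- The base changes of the two families agree. -/
noncomputable def xtIso (T : Over S') :
    PicF.XT (pullback.snd f h) T ≅ PicF.XT f (toBase h T) :=
  pullbackLeftPullbackSndIso f h T.hom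

theorem xtIso_proj (T : Over S') :
    (xtIso f h T).hom ≫ PicF.XTproj f (toBase h T) = PicF.XTproj (pullback.snd f h) T :=
  pullbackLeftPullbackSndIso_hom_snd _ _ _

theorem xtIso_map {T T' : Over S'} (g : T' ⟶ T) :
    PicF.XTmap (pullback.snd f h) g ≫ (xtIso f h T).hom =
      (xtIso f h T').hom ≫ PicF.XTmap f (toBaseHom h g) := by
  apply pullback.hom_ext
  · simp [xtIso, PicF.XTmap, pullback.lift_fst, pullback.lift_fst_assoc]
  · simp [xtIso, PicF.XTmap, pullback.lift_snd, pullback.lift_snd_assoc]

theorem pull_xtIso_injective (T : Over S') :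
    Function.Injective (pull (xtIso f h T).hom) := fun p q e => by
  have := congrArg (pull (xtIso f h T).inv) e
  rwa [← pull_comp, ← pull_comp, Iso.inv_hom_id, pull_id, pull_id] at this

variable {f}

/-- The value of the base changed map. -/
noncomputable def phi {P : Over S} (φ : ∀ T : Over S, PicF.Cl (PicF.XT f T) → (T ⟶ P)) (T : Over S')
    (c : PicF.Cl (PicF.XT (pullback.snd f h) T)) : T ⟶ Over.mk (pullback.snd P.hom h) :=
  Over.homMk (pullback.lift (φ (toBase h T) (PicF.pullCl (xtIso f h T).inv c)).left T.hom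
    (Over.w (φ (toBase h T) (PicF.pullCl (xtIso f h T).inv c)))) (pullback.lift_snd _ _ _)

variable {h}
variable {P : Over S} {φ : ∀ T : Over S, PicF.Cl (PicF.XT f T) → (T ⟶ P)}

theorem phi_fst (T : Over S') (c : PicF.Cl (PicF.XT (pullback.snd f h) T)) :
    (phi h φ T c).left ≫ pullback.fst P.hom h =
      (φ (toBase h T) (PicF.pullCl (xtIso f h T).inv c)).left :=
  pullback.lift_fst _ _ _

/-- The base change represents the sheafified Picard functor of the base changed family. -/
theorem isRelPicK (hP : AbDual.IsRelPicK Scheme.fppfPrecoverage f P φ) :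
    AbDual.IsRelPicK Scheme.fppfPrecoverage (pullback.snd f h) (Over.mk (pullback.snd P.hom h))
      (phi h φ) := by
  have hinv : ∀ {T : Over S'} {c : PicF.Cl (PicF.XT (pullback.snd f h) T)},
      PicF.IsInvertibleCl c → PicF.IsInvertibleCl (PicF.pullCl (xtIso f h T).inv c) :=
    fun hc => PicLoc.isInvertibleCl_pullCl _ hc
  have hext : ∀ {T : Over S'} {p q : T ⟶ Over.mk (pullback.snd P.hom h)},
      p.left ≫ pullback.fst P.hom h = q.left ≫ pullback.fst P.hom h → p = q := fun {T} {p q} e =>
    Over.OverMorphism.ext (pullback.hom_ext e ((Over.w p).trans (Over.w q).symm))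
  refine ⟨fun T T' g c hc => hext ?_, fun T g => ?_, fun T c c' hc hc' e => ?_⟩
  · rw [phi_fst, Over.comp_left, Category.assoc, phi_fst,
      show g.left = (toBaseHom h g).left from rfl, ← Over.comp_left, ← hP.natural _ _ _ _ (hinv hc),
      pullCl_pullCl, pullCl_pullCl]
    congr 3
    rw [Iso.inv_comp_eq, ← Category.assoc, ← xtIso_map, Category.assoc, Iso.hom_inv_id,
      Category.comp_id]
  · let g₁ : toBase h T ⟶ P := Over.homMk (g.left ≫ pullback.fst P.hom h) (by
      show (g.left ≫ pullback.fst P.hom h) ≫ P.hom = T.hom ≫ h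
      rw [Category.assoc, pullback.condition, ← Category.assoc]
      exact congrArg (· ≫ h) (Over.w g))
    obtain ⟨R, hR, hRc⟩ := hP.locallySurjective (toBase h T) g₁
    refine ⟨R, hR, fun U u hu => ?_⟩
    obtain ⟨c, hc, hcu⟩ := hRc u hu
    let k : toBase h (AbDual.ovr T u) ⟶ AbDual.ovr (toBase h T) u :=
      Over.homMk (𝟙 U) (by simp)
    refine ⟨PicF.pullCl (xtIso f h _).hom (PicF.pullCl (PicF.XTmap f k) c),
      PicLoc.isInvertibleCl_pullCl _ (PicLoc.isInvertibleCl_pullCl _ hc), hext ?_⟩
    rw [phi_fst, pullCl_pullCl, pullCl_pullCl, Iso.inv_hom_id, Category.id_comp, hP.natural _ _ k c hc, hcu]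
    simp [k, g₁]
  · have e' : φ (toBase h T) (PicF.pullCl (xtIso f h T).inv c) =
        φ (toBase h T) (PicF.pullCl (xtIso f h T).inv c') := by
      ext1
      rw [← phi_fst, ← phi_fst, e]
    obtain ⟨R, hR, hRc⟩ := hP.locallyInjective _ _ _ (hinv hc) (hinv hc') e'
    refine ⟨R, hR, fun U u hu => ?_⟩
    let k : toBase h (AbDual.ovr T u) ⟶ AbDual.ovr (toBase h T) u :=
      Over.homMk (𝟙 U) (by simp)
    have hk : k ≫ AbDual.ovrHom (toBase h T) u = toBaseHom h (AbDual.ovrHom T u) :=
      Over.OverMorphism.ext (Category.id_comp _)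
    have h1 := congrArg (fun a => PicF.pullCl (xtIso f h _).hom (PicF.pullCl (PicF.XTmap f k) a))
      (hRc u hu)
    simp only [pullCl_pullCl, Category.assoc] at h1
    rw [← Category.assoc (PicF.XTmap f k), ← XTmap_comp', hk] at h1
    rwa [← reassoc_of% (xtIso_map f h (AbDual.ovrHom T u)), Iso.hom_inv_id, Category.comp_id] at h1

end Groth.PicCurve.RelBC
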