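import Groth.Agent.PicCurve.RelPicBC
import Groth.Agent.PicAux.RigPoints
import Groth.Agent.CurveDiv.ThickLift
import Groth.Agent.Limits.FibreVanishingGeneral
import Groth.Agent.OmegaSheaf.IdealMod
import Groth.Agent.Syntomic.SmoothLiftLocal
import Groth.Agent.GrpschAbsch.H0General
import Mathlib

/-!
# The relative Picard scheme of a family of curves is smooth
-/

universe u

open CategoryTheory CategoryTheory.Limits AlgebraicGeometry TopologicalSpace Opposite
open Groth.Abvar.PicCalc

set_option maxHeartbeats 1600000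
set_option backward.isDefEq.respectTransparency false
set_option backward.defeqAttrib.useBackward true
set_option backward.isDefEq.respectTransparency.types false

namespace Groth.PicCurve

theorem constFun_of_flat {X S : Scheme.{u}} (f : X ⟶ S) [IsProper f] [Flat f]
    [LocallyOfFinitePresentation f] [GeometricallyReduced f] [GeometricallyConnected f] :
    ConstFun f := fun T V => by
  have : IsProper (PicF.XTproj f T) := MorphismProperty.pullback_snd (P := @IsProper) _ _ ‹_›
  have : Flat (PicF.XTproj f T) := MorphismProperty.pullback_snd (P := @Flat) _ _ ‹_›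
  have : LocallyOfFinitePresentation (PicF.XTproj f T) :=
    MorphismProperty.pullback_snd (P := @LocallyOfFinitePresentation) _ _ ‹_›
  have : GeometricallyReduced (PicF.XTproj f T) := MorphismProperty.pullback_snd _ _ ‹_›
  have : GeometricallyConnected (PicF.XTproj f T) := MorphismProperty.pullback_snd _ _ ‹_›
  exact Groth.GrpschAbsch.H0General.app_bijective (PicF.XTproj f T) V

/-- The inverse image of a square zero closed subscheme of an affine scheme is square zero. -/
theorem ker_mul_self_eq_bot {X X₀ : Scheme.{u}} {A B : Type u} [CommRing A] [CommRing B]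
    (π : A →+* B) (hπ : Function.Surjective π) (hsq : RingHom.ker π ^ 2 = ⊥)
    {j : X₀ ⟶ X} {s : X ⟶ Spec (CommRingCat.of A)} {s₀ : X₀ ⟶ Spec (CommRingCat.of B)}
    (sq : IsPullback j s₀ s (Spec.map (CommRingCat.ofHom π))) : j.ker * j.ker = ⊥ := by
  have : IsClosedImmersion (Spec.map (CommRingCat.ofHom π)) :=
    IsClosedImmersion.spec_of_surjective _ hπ
  rw [Groth.AdicLinTop.Thickenings.ker_eq_comap_of_isPullback sq]
  refine Scheme.IdealSheafData.ext (funext fun W => ?_)
  rw [Scheme.IdealSheafData.ideal_mul, Scheme.IdealSheafData.ideal_bot, Pi.mul_apply, Pi.bot_apply,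
    Groth.Divisors.ideal_comap_affine _ s ⟨⊤, isAffineOpen_top _⟩ W le_top, ← Ideal.map_mul,
    eq_bot_iff]
  refine Ideal.map_le_iff_le_comap.2 (le_trans (Ideal.mul_le.2 fun x hx y hy => ?_) bot_le)
  rw [Scheme.Hom.ker_apply, RingHom.mem_ker] at hx hy
  rw [Submodule.mem_bot]
  obtain ⟨a, rfl⟩ : ∃ a, (Scheme.ΓSpecIso (CommRingCat.of A)).inv a = x :=
    ⟨_, Iso.hom_inv_id_apply _ x⟩
  obtain ⟨b, rfl⟩ : ∃ b, (Scheme.ΓSpecIso (CommRingCat.of A)).inv b = y :=
    ⟨_, Iso.hom_inv_id_apply _ y⟩
  have hn : ∀ a : A, (Spec.map (CommRingCat.ofHom π)).appTop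
      ((Scheme.ΓSpecIso (CommRingCat.of A)).inv a) =
      (Scheme.ΓSpecIso (CommRingCat.of B)).inv (π a) :=
    fun a => (congr($(Scheme.ΓSpecIso_inv_naturality (CommRingCat.ofHom π)) a)).symm
  have hker : ∀ z : A, (Spec.map (CommRingCat.ofHom π)).appTop
      ((Scheme.ΓSpecIso (CommRingCat.of A)).inv z) = 0 → z ∈ RingHom.ker π := fun z hz => by
    rw [hn] at hz
    exact (map_eq_zero_iff _
      (Scheme.ΓSpecIso (CommRingCat.of B)).symm.commRingCatIsoToRingEquiv.injective).1 hz
  have h2 : a * b ∈ RingHom.ker π ^ 2 := by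
    rw [pow_two]; exact Ideal.mul_mem_mul (hker a hx) (hker b hy)
  rw [hsq, Submodule.mem_bot] at h2
  show (Scheme.ΓSpecIso (CommRingCat.of A)).inv a * (Scheme.ΓSpecIso (CommRingCat.of A)).inv b = 0
  rw [← map_mul, h2, map_zero]

variable {X S : Scheme.{u}} {f : X ⟶ S} [IsProper f] [Flat f] [LocallyOfFinitePresentation f]
  [GeometricallyReduced f] [GeometricallyConnected f]
  (hdim : ∀ s : S, topologicalKrullDim ↥(f.fiber s) = 1)
  {P : Over S} {φ : ∀ T : Over S, PicF.Cl (PicF.XT f T) → (T ⟶ P)}
  (hP : AbDual.IsRelPicK Scheme.fppfPrecoverage f P φ)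

include hdim hP in
/-- Smoothness in the presence of a section. -/
theorem smooth_pic_of_section [LocallyOfFinitePresentation P.hom] (σ : S ⟶ X) (hσ : σ ≫ f = 𝟙 S) :
    Smooth P.hom := by
  rw [← Scheme.Hom.smoothLocus_eq_top_iff, eq_top_iff]
  intro p _
  refine Groth.Syntomic.mem_smoothLocus_of_lift P.hom p fun B B' _ _ _ _ π hπ hsq α β _ w => ?_
  let T : Over S := Over.mk β
  let T₀ : Over S := Over.mk (Spec.map (CommRingCat.ofHom π) ≫ β)
  let g₀ : T₀ ⟶ T := Over.homMk (Spec.map (CommRingCat.ofHom π)) rfl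
  let a₀ : T₀ ⟶ P := Over.homMk α w.symm
  obtain ⟨c, hc⟩ := Groth.PicAux.RigPoints.phi_surjective (f := f) (σ := σ) (hσ := hσ) hP
    (constFun_of_flat f) T₀ a₀
  let j := PicF.XTmap f g₀
  have : IsClosedImmersion g₀.left := IsClosedImmersion.spec_of_surjective _ hπ
  have : IsClosedImmersion j :=
    MorphismProperty.of_isPullback (P := @IsClosedImmersion) (XTmap_sq f g₀).flip ‹_›
  let I := j.ker
  have hI : I * I = ⊥ := ker_mul_self_eq_bot π hπ hsq (XTmap_sq f g₀)
  let Z := PicF.XT f T
  have hproper : IsProper (PicF.XTproj f T) := MorphismProperty.pullback_snd (P := @IsProper) _ _ ‹_›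
  letI : Z.Over (Spec (CommRingCat.of B')) := ⟨PicF.XTproj f T⟩
  have : IsProper (Z ↘ Spec (CommRingCat.of B')) := hproper
  have : Z.IsSeparated := Groth.CohFin.isSeparated_of_proper (A := B') (PicF.XTproj f T)
  have h2 : Subsingleton (Coh.HH Z (ClSub.idealMod I) 2) :=
    Groth.Limits.FibreVanishing.subsingleton_HH_of_dim_fiber_le (A := B') 1 (fun t => by
      exact ((dim_fiber_of_isPullback (IsPullback.of_hasPullback f T.hom) t).trans (hdim _)).le)
      (ClSub.idealMod I) 2 one_lt_two
  let i : PicF.XT f T₀ ⟶ I.subscheme := j.toImage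
  have : IsIso i := inferInstanceAs (IsIso j.toImage)
  have hi : i ≫ I.subschemeι = j := j.toImage_imageι
  obtain ⟨L₁, hL₁, hc₁⟩ := PicGrp.exists_eq_cls c.1
  obtain ⟨L, hL, ⟨e⟩⟩ := Groth.CurveDiv.ThickLift.exists_lift hI h2
    (Groth.PicAux.isInvertible_pullback (inv i) hL₁)
  have key : pull j (cls hL) = c.1 := by
    rw [← hi, pull_comp, show pull I.subschemeι (cls hL) = pull (inv i) (cls hL₁) by
      rw [pull_cls, pull_cls, ← nonempty_iso_iff]; exact ⟨e⟩,
      ← pull_comp, IsIso.hom_inv_id, pull_id]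
    exact hc₁.symm
  have h3 : g₀ ≫ φ T (cls hL).1 = a₀ := by
    rw [← hP.natural _ _ g₀ _ (cls hL).2, ← hc]
    exact congrArg (fun b : PicLoc.PicSet _ => φ T₀ b.1) key
  exact ⟨(φ T (cls hL).1).left, congrArg (fun m => m.left) h3, Over.w (φ T (cls hL).1)⟩

include hdim hP in
/-- The Picard scheme of a family of curves is smooth. -/
theorem smooth_pic [LocallyOfFinitePresentation P.hom] : Smooth P.hom := by
  let f' := pullback.snd f f
  have : IsProper f' := MorphismProperty.pullback_snd (P := @IsProper) _ _ ‹_›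
  have : Flat f' := MorphismProperty.pullback_snd (P := @Flat) _ _ ‹_›
  have : LocallyOfFinitePresentation f' :=
    MorphismProperty.pullback_snd (P := @LocallyOfFinitePresentation) _ _ ‹_›
  have : GeometricallyReduced f' := MorphismProperty.pullback_snd _ _ ‹_›
  have : GeometricallyConnected f' :=
    MorphismProperty.pullback_snd (P := @GeometricallyConnected) _ _ ‹_›
  have : LocallyOfFinitePresentation (Over.mk (pullback.snd P.hom f)).hom :=
    MorphismProperty.pullback_snd (P := @LocallyOfFinitePresentation) _ _ ‹_›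
  have h := smooth_pic_of_section (f := f') (fun c => by
      rw [dim_fiber_of_isPullback (IsPullback.of_hasPullback f f) c]; exact hdim _)
    (RelBC.isRelPicK (h := f) hP) (pullback.diagonal f) (pullback.diagonal_snd _)
  exact MorphismProperty.of_isPullback_of_descendsAlong (P := @Smooth) (Q := Groth.EtaleBase.Fpqc)
    (IsPullback.of_hasPullback P.hom f).flip ⟨⟨inferInstance, inferInstance⟩, inferInstance⟩ h

end Groth.PicCurve
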