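import Groth.Agent.PicCurve.Divisor
import Groth.Agent.PicCurve.Setup
import Groth.Agent.AlgGrp1.Points
import Mathlib

/-!
# Every class becomes good after twisting by a class from the curve
-/

universe u

open CategoryTheory CategoryTheory.Limits AlgebraicGeometry TopologicalSpace Opposite
open Groth.Abvar.PicCalc
open Groth.PicAux (Gen pullSec res resX tmulSec)

set_option maxHeartbeats 1600000
set_option backward.isDefEq.respectTransparency false
set_option backward.defeqAttrib.useBackward true
set_option backward.isDefEq.respectTransparency.types false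

namespace Groth.PicCurve

section field

variable {K : Type u} [Field K] {Z : Scheme.{u}} [Z.Over (Spec (CommRingCat.of K))]

/-- The map `I ⊗ L ⟶ L`. -/
theorem exists_twist_mono {L : Z.Modules} (hL : PicF.IsInvertible L) (I : Z.IdealSheafData) :
    ∃ j : CohB1.tensorMod (ClSub.idealMod I) L ⟶ L, Mono j ∧
      ∀ (W : Z.Opens) (a : Γ(ClSub.idealMod I, W)) (l : Γ(L, W)),
        j.app W (tmulSec a l) = OmegaSh.idealSect I W a • l := by
  obtain ⟨e₂, he₂⟩ := Groth.PicAux.exists_leftUnitor L
  let T1 : CohB1.tensorMod (ClSub.idealMod I) L ⟶ CohB1.tensorMod (Coh.structureModule Z) L :=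
    KoszTw.tensorMap (ClSub.idealModι I) (𝟙 L)
  have hF : Mono ((DCoh.tensorRightMod L).map (ClSub.idealModι I)) :=
    (Groth.PicAux.shortExact_idealMod_twist I hL).mono_f
  have hm : Mono T1 := by
    have h := hF
    rw [KoszTw.tensorRightMod_map] at h
    exact h
  have hT : ∀ (W : Z.Opens) (a : Γ(ClSub.idealMod I, W)) (l : Γ(L, W)),
      T1.app W (tmulSec a l) = tmulSec ((ClSub.idealModι I).app W a) l := fun W a l =>
    Groth.PicAux.tensorMap_app_tmulSec (ClSub.idealModι I) (𝟙 L) W a l
  refine ⟨T1 ≫ e₂.hom, mono_comp _ _, fun W a l => ?_⟩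
  rw [Scheme.Modules.Hom.comp_app, ConcreteCategory.comp_apply, hT, he₂]
  rfl

/-- A section coming from `I ⊗ L` vanishes on the support of `I`. -/
theorem exists_twist_map {L : Z.Modules} (hL : PicF.IsInvertible L) {I : Z.IdealSheafData}
    (hI : BlowUp.IsEffCartierIdeal I) :
    ∃ j : CohB1.tensorMod (ClSub.idealMod I) L ⟶ L, Mono j ∧
      ∀ (v : Γ(CohB1.tensorMod (ClSub.idealMod I) L, (⊤ : Z.Opens))) (x : Z),
        x ∈ I.support → x ∈ (zero L (j.app ⊤ v)).support := by
  obtain ⟨j, hj, hjf⟩ := exists_twist_mono hL I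
  refine ⟨j, hj, fun v x hx => ?_⟩
  obtain ⟨U, e, hxU, he⟩ := (Groth.PicAux.isInvertible_iff_exists_gen L).1 hL x
  obtain ⟨W, hxW, hWU, a, ha, -, hIW⟩ := Groth.PicAux.exists_gen_idealMod hI x U hxU
  obtain ⟨r, hr⟩ := (ha.tensor (he.res hWU)).exists_coeff le_rfl
    (res _ (le_top : W.1 ≤ ⊤) v)
  rw [Groth.PicAux.res_self] at hr
  have hc : res L (le_top : W.1 ≤ ⊤) (j.app ⊤ v) =
      (r * OmegaSh.idealSect I W.1 a) • res L hWU e := by
    rw [← Groth.PicAux.app_res, hr, Scheme.Modules.Hom.app_smul, hjf, ← mul_smul]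
  rw [Groth.RefRank.EffCartierLocal.mem_support_iff_map_germ_ne_top _ hxW,
    zero_ideal hL _ W (he.res hWU) hc, Ideal.map_span, Set.image_singleton]
  rw [Groth.RefRank.EffCartierLocal.mem_support_iff_map_germ_ne_top _ hxW, hIW, Ideal.map_span,
    Set.image_singleton] at hx
  intro htop
  rw [Ideal.span_singleton_eq_top, map_mul, IsUnit.mul_iff] at htop
  exact hx (Ideal.span_singleton_eq_top.2 htop.2)

variable (K) in
/-- A class without first cohomology and with `m`-dimensional sections. -/
def Nice (c : PicLoc.PicSet Z) (m : ℕ) : Prop :=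
  ∃ (L : Z.Modules) (hL : PicF.IsInvertible L), cls hL = c ∧ Subsingleton (Coh.HH Z L 1) ∧
    Module.finrank K (Coh.HH Z L 0) = m

variable (K) in
/-- The Euler characteristic of a class. -/
noncomputable def eulerC (c : PicLoc.PicSet Z) : ℤ :=
  Curv2.euler K Z (PicGrp.exists_eq_cls c).choose

theorem eulerC_cls {L : Z.Modules} (hL : PicF.IsInvertible L) :
    eulerC K (cls hL) = Curv2.euler K Z L := by
  obtain ⟨hM, h⟩ := (PicGrp.exists_eq_cls (cls hL)).choose_spec
  obtain ⟨e⟩ := (nonempty_iso_iff hL hM).2 h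
  exact (Groth.EulerDeg.euler_congr K e).symm

variable [IsIntegral Z] [IsProper (Z ↘ Spec (CommRingCat.of K))]
variable (hdim : topologicalKrullDim Z ≤ 1)

omit [IsIntegral Z] in
include hdim in
theorem euler_eq_sub' (L : Z.Modules) : Curv2.euler K Z L =
    (Module.finrank K (Coh.HH Z L 0) : ℤ) - Module.finrank K (Coh.HH Z L 1) := by
  have := Groth.EulerDeg.isNoetherian_of_proper K (X := Z)
  exact Groth.EulerDeg.euler_eq_sub fun n hn =>
    Groth.EulerDeg.subsingleton_HH_of_dim_le_one _ hdim _ n hn

variable {I : Z.IdealSheafData} (hI : BlowUp.IsEffCartierIdeal I)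
  (hI1 : Module.finrank K (Coh.HH Z (ClSub.quotMod I) 0) = 1)
  (hI0 : topologicalKrullDim (I.support : Set Z) ≤ 0)

include hI1 hI0 in
/-- Twisting down by a point lowers the Euler characteristic by one. -/
theorem euler_twist_point {L : Z.Modules} (hL : PicF.IsInvertible L) :
    Curv2.euler K Z (CohB1.tensorMod (ClSub.idealMod I) L) = Curv2.euler K Z L - 1 := by
  obtain ⟨-, -, -, he⟩ := Groth.Curves1.RR.ideal_twist K hL I hI0
  rw [he, hI1]
  rfl

include hI1 hI0 in
theorem eulerC_divCls_mul (c : PicLoc.PicSet Z) :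
    eulerC K (c * divCls hI) = eulerC K c + 1 := by
  obtain ⟨L, hL, hc⟩ := PicGrp.exists_eq_cls (c * divCls hI)
  have h : c = cls (Groth.PicAux.isInvertible_tensorMod (Groth.PicAux.isInvertible_idealMod hI) hL) := by
    rw [cls_tensorMod (Groth.PicAux.isInvertible_idealMod hI) hL,
      show cls hL = c * divCls hI from hc.symm, divCls, ← mul_assoc, mul_comm (cls _) c,
      mul_inv_cancel_right]
  rw [hc, eulerC_cls hL, h, eulerC_cls, euler_twist_point hI1 hI0 hL, sub_add_cancel]

include hdim hI hI1 hI0 in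
/-- Removing a point outside the zeros of a section lowers the sections by one. -/
theorem nice_step {c : PicLoc.PicSet Z} {m : ℕ} (hm : 2 ≤ m) {L : Z.Modules}
    (hL : PicF.IsInvertible L) (hc : cls hL = c) (h1 : Subsingleton (Coh.HH Z L 1))
    (h0 : Module.finrank K (Coh.HH Z L 0) = m) {s : Γ(L, (⊤ : Z.Opens))} {x : Z}
    (hxI : x ∈ I.support) (hxs : x ∉ (zero L s).support) :
    Nice K (c * (divCls hI)⁻¹) (m - 1) := by
  have := Groth.EulerDeg.isNoetherian_of_proper K (X := Z)
  let M := CohB1.tensorMod (ClSub.idealMod I) L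
  have hM : PicF.IsInvertible M :=
    Groth.PicAux.isInvertible_tensorMod (Groth.PicAux.isInvertible_idealMod hI) hL
  obtain ⟨j, hj, hjz⟩ := exists_twist_map hL hI
  have := Groth.EulerDeg.finite_HH K Z (Groth.EulerDeg.isCoh_of_isInvertible hL) 0
  have := Groth.EulerDeg.finite_HH K Z (Groth.EulerDeg.isCoh_of_isInvertible hM) 0
  have := Groth.EulerDeg.finite_HH K Z (Groth.EulerDeg.isCoh_of_isInvertible hM) 1
  let φ := Groth.EulerDeg.hMap K j 0
  have hinj : Function.Injective φ := Groth.Curves1.RR.hMap_injective_zero_of_mono K j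
  have hns : (Groth.EulerDeg.h0Equiv K L).symm s ∉ LinearMap.range φ := by
    rintro ⟨v, hv⟩
    have h := Groth.Curves1.RR.h0Equiv_hMap K j v
    rw [hv, LinearEquiv.apply_symm_apply] at h
    exact hxs (h ▸ hjz _ x hxI)
  have hlt : Module.finrank K (Coh.HH Z M 0) < m := by
    rw [← h0, ← LinearMap.finrank_range_of_inj hinj]
    exact Submodule.finrank_lt fun h => hns (h ▸ Submodule.mem_top)
  have e := euler_twist_point hI1 hI0 hL (K := K)
  have h1' : Module.finrank K (Coh.HH Z L 1) = 0 := Module.finrank_zero_of_subsingleton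
  rw [euler_eq_sub' hdim L, euler_eq_sub' hdim, h0, h1'] at e
  have hM1 : Module.finrank K (Coh.HH Z M 1) = 0 := by
    have : (Module.finrank K (Coh.HH Z M 0) : ℤ) - Module.finrank K (Coh.HH Z M 1) = m - 0 - 1 := e
    omega
  have hM0 : Module.finrank K (Coh.HH Z M 0) = m - 1 := by
    have : (Module.finrank K (Coh.HH Z M 0) : ℤ) - Module.finrank K (Coh.HH Z M 1) = m - 0 - 1 := e
    omega
  refine ⟨M, hM, ?_, Module.finrank_zero_iff.1 hM1, hM0⟩
  rw [cls_tensorMod (Groth.PicAux.isInvertible_idealMod hI) hL, divCls, inv_inv, hc, mul_comm]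

end field

variable {k : Type u} [Field k] {X : Scheme.{u}} {f : X ⟶ Spec (CommRingCat.of k)}

/-- The divisor of a rational point. -/
theorem IsPtCurve.point_facts (hf : IsPtCurve f) (P : Spec (CommRingCat.of k) ⟶ X)
    (hP : P ≫ f = 𝟙 _) :
    IsClosedImmersion P ∧ BlowUp.IsEffCartierIdeal P.ker ∧
      Mor2.IsFinLocFreeOfDeg 1 (P.ker.subschemeι ≫ f) := by
  have := hf.proper
  have := hf.smoothOne
  have : IsClosedImmersion (P ≫ f) := by rw [hP]; infer_instance
  have hc : IsClosedImmersion P := IsClosedImmersion.of_comp P f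
  have hiso : IsIso (P.ker.subschemeι ≫ f) := by
    have h1 : P.toImage ≫ P.ker.subschemeι ≫ f = 𝟙 _ := by
      rw [← Category.assoc, show P.toImage ≫ P.ker.subschemeι = P from P.toImage_imageι, hP]
    have h2 : IsIso (P.toImage ≫ P.ker.subschemeι ≫ f) := by rw [h1]; infer_instance
    exact IsIso.of_isIso_comp_left P.toImage _
  have hflf : Mor2.IsFinLocFreeOfDeg 1 (P.ker.subschemeι ≫ f) :=
    ⟨⟨inferInstance, inferInstance, inferInstance⟩, fun y => by
      simp [Scheme.Hom.finrank_eq_one_of_isIso]⟩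
  obtain ⟨⟨_, _, _⟩, -⟩ := id hflf
  exact ⟨hc, Groth.CurveDiv.isEffCartierIdeal_of_lqf f, hflf⟩

/-- Twisting by classes of rational points makes any class good at a given point. -/
theorem exists_goodC_twist [IsSepClosed k] (hf : IsPtCurve f) (σ : Spec (CommRingCat.of k) ⟶ X)
    (hσ : σ ≫ f = 𝟙 _) (T : Over (Spec (CommRingCat.of k)))
    (c : PicLoc.PicSet (PicF.XT f T)) (t : T.left) :
    ∃ N : PicLoc.PicSet X,
      GoodC (PicF.XTproj f T) (c * pull (pullback.fst f T.hom) N) t := by
  classical
  let π := PicF.XTproj f T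
  let K := T.left.residueField t
  let p := π.fiberToSpecResidueField t
  let u := π.fiberι t ≫ pullback.fst f T.hom
  let τ := T.left.fromSpecResidueField t ≫ T.hom
  have hsq : IsPullback u p f τ := hf.isPullback_fiber T t
  letI : (π.fiber t).Over (Spec (CommRingCat.of K)) := ⟨p⟩
  have := hf.proper
  have := hf.smooth
  have := hf.geomRed
  have := hf.isProper_proj T
  have := hf.geomInt_proj T
  have hp : IsProper p := MorphismProperty.of_isPullback hsq ‹_›
  have : IsProper (π.fiber t ↘ Spec (CommRingCat.of K)) := hp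
  have hp1 : SmoothOfRelativeDimension 1 p :=
    haveI := smoothOfRelativeDimension_isStableUnderBaseChange.{u} (n := 1)
    MorphismProperty.of_isPullback (P := @SmoothOfRelativeDimension 1) hsq hf.smoothOne
  have := Groth.EulerDeg.isNoetherian_of_proper K (X := π.fiber t)
  have hdim := (hf.dim_fiber T t).le
  -- rational points on the fibre
  have pt : ∀ (P : Spec (CommRingCat.of k) ⟶ X) (hP : P ≫ f = 𝟙 _),
      ∃ (hD : BlowUp.IsEffCartierIdeal P.ker) (hI : BlowUp.IsEffCartierIdeal (P.ker.comap u)),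
        pull u (divCls hD) = divCls hI ∧
        Module.finrank K (Coh.HH (π.fiber t) (ClSub.quotMod (P.ker.comap u)) 0) = 1 ∧
        topologicalKrullDim ((P.ker.comap u).support : Set (π.fiber t)) ≤ 0 ∧
        ∃ x ∈ (P.ker.comap u).support, u x ∈ Set.range P := by
    intro P hP
    obtain ⟨hc, hD, ⟨⟨_, _, _⟩, hdeg⟩⟩ := hf.point_facts P hP
    set J := P.ker.comap u
    have hJ : IsPullback ((P.ker.comapIso u).hom ≫ pullback.snd u P.ker.subschemeι)
        (J.subschemeι ≫ p) (P.ker.subschemeι ≫ f) τ := by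
      refine IsPullback.paste_vert (h₂₁ := u) (v₁₁ := J.subschemeι) (v₁₂ := P.ker.subschemeι) ?_ hsq
      exact (IsPullback.of_hasPullback u P.ker.subschemeι).flip.of_iso
        (P.ker.comapIso u).symm (Iso.refl _) (Iso.refl _) (Iso.refl _)
        (by rw [Iso.refl_hom, Category.comp_id, Iso.symm_hom, Iso.inv_hom_id_assoc])
        (by rw [Iso.refl_hom, Category.comp_id, Iso.symm_hom,
          Scheme.IdealSheafData.comapIso_inv_subschemeι])
        (by simp) (by simp)
    have : IsFinite (J.subschemeι ≫ p) := MorphismProperty.of_isPullback hJ ‹_›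
    have : Flat (J.subschemeι ≫ p) := MorphismProperty.of_isPullback hJ ‹_›
    have : LocallyOfFinitePresentation (J.subschemeι ≫ p) := MorphismProperty.of_isPullback hJ ‹_›
    have hI : BlowUp.IsEffCartierIdeal J := Groth.CurveDiv.isEffCartierIdeal_of_lqf p
    have h1 : (J.subschemeι ≫ p).finrank (IsLocalRing.closedPoint K) = 1 := by
      rw [Scheme.Hom.finrank_of_isPullback _ _ _ _ hJ, hdeg]
    have hne : Nonempty J.subscheme := by
      by_contra hne
      rw [not_nonempty_iff] at hne
      have : Subsingleton Γ(J.subscheme, ⊤) := by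
        have e : (⊤ : J.subscheme.Opens) = ⊥ := Opens.ext (Set.eq_empty_of_isEmpty _)
        rw [e]; infer_instance
      rw [← Groth.Misc3Fib.deg_eq_finrank] at h1
      exact absurd h1 (by
        rw [show Groth.Misc3Fib.deg (J.subschemeι ≫ p) = 0 by
          letI := BddFib.secAlgebra (CommRingCat.of K) (J.subschemeι ≫ p)
          exact (Module.finrank_zero_of_subsingleton : Module.finrank K Γ(J.subscheme, ⊤) = 0)]
        exact zero_ne_one)
    obtain ⟨z⟩ := hne
    have hx : J.subschemeι z ∈ J.support := (Scheme.IdealSheafData.range_subschemeι J).le ⟨z, rfl⟩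
    have hfin : (J.support : Set (π.fiber t)).Finite := by
      rw [← Scheme.IdealSheafData.range_subschemeι]
      have hfp : ((J.subschemeι ≫ p) ⁻¹' {IsLocalRing.closedPoint K}).Finite :=
        (J.subschemeι ≫ p).finite_preimage_singleton _
      have : Finite J.subscheme := Set.finite_univ_iff.1 (hfp.subset fun w _ => Subsingleton.elim _ _)
      exact Set.finite_range _
    refine ⟨hD, hI, pull_divCls u hD hI, ?_, ?_, _, hx, ?_⟩
    · rw [Groth.ModelsGraphs.InterPair.finrank_quotMod]
      exact (Groth.Misc3Fib.deg_eq_finrank (J.subschemeι ≫ p) _).trans h1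
    · have := hfin.to_subtype
      have hcl : ∀ y ∈ J.support, IsClosed ({y} : Set (π.fiber t)) := fun y hy =>
        Groth.ModelsGraphs.ExcPair.isClosed_singleton hdim fun h =>
          Groth.RefRank.CartierTwist.genericPoint_notMem_support hI (h ▸ hy)
      have : T1Space (J.support : Set (π.fiber t)) := ⟨fun y => by
        have : ({y} : Set (J.support : Set (π.fiber t))) = Subtype.val ⁻¹' {y.1} := by
          ext w; exact Subtype.ext_iff
        rw [this]; exact (hcl y.1 y.2).preimage continuous_subtype_val⟩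
      have : DiscreteTopology (J.support : Set (π.fiber t)) := inferInstance
      exact topologicalKrullDim_zero_of_discreteTopology _
    · rw [show u (J.subschemeι z) = P.ker.subschemeι
          (((P.ker.comapIso u).hom ≫ pullback.snd u P.ker.subschemeι) z) by
        rw [← Scheme.Hom.comp_apply, ← Scheme.Hom.comp_apply]
        congr 1
        rw [Category.assoc, ← pullback.condition, Scheme.IdealSheafData.comapIso_hom_fst_assoc]]
      have hr : Set.range P.ker.subschemeι = closure (Set.range P) := by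
        rw [Scheme.IdealSheafData.range_subschemeι, Scheme.Hom.support_ker]
      rw [← P.isClosedEmbedding.isClosed_range.closure_eq, ← hr]
      exact ⟨_, rfl⟩
  -- enough rational points
  have points : ∀ F : Set X, F.Finite → ∃ (P : Spec (CommRingCat.of k) ⟶ X), P ≫ f = 𝟙 _ ∧
      Disjoint (Set.range P) F := by
    intro F hF
    by_contra hno
    push Not at hno
    let Xo : Over (Spec (CommRingCat.of k)) := Over.mk f
    have : LocallyOfFiniteType Xo.hom := inferInstanceAs (LocallyOfFiniteType f)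
    have : GeometricallyReduced Xo.hom := hf.geomRed
    have hd := Groth.AlgGrp1.dense_points Xo
    set A : Set X := {q | ∃ (P : Spec (CommRingCat.of k) ⟶ X) (_ : P ≫ f = 𝟙 _), q ∈ Set.range P}
    have hAd : Dense A := hd.mono (by
      rintro q ⟨s, w, rfl⟩
      exact ⟨s.left, Over.w s, w, rfl⟩)
    have hAF : A ⊆ F := by
      rintro q ⟨P, hP, w, rfl⟩
      obtain ⟨y, ⟨w', hw'⟩, hyF⟩ := Set.not_disjoint_iff.1 (hno P hP)
      rw [Subsingleton.elim w w', hw']
      exact hyF
    have hAc : ∀ q ∈ A, IsClosed ({q} : Set X) := by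
      rintro q ⟨P, hP, w, rfl⟩
      obtain ⟨_, -, -⟩ := hf.point_facts P hP
      have : Set.range P = {P w} := Set.eq_singleton_iff_unique_mem.2
        ⟨⟨w, rfl⟩, fun y ⟨v, hv⟩ => by rw [← hv, Subsingleton.elim v w]⟩
      exact this ▸ P.isClosedEmbedding.isClosed_range
    have hA : IsClosed A := by
      rw [← Set.biUnion_of_singleton A]
      exact (hF.subset hAF).isClosed_biUnion hAc
    have := hf.integral
    have hgen : IsClosed ({genericPoint X} : Set X) := hAc _ (by
      rw [← hA.closure_eq, hAd.closure_eq]; trivial)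
    have huniv : (Set.univ : Set X) = {genericPoint X} := by
      rw [← hgen.closure_eq, (genericPoint_spec X).def]
    have : Subsingleton X := Set.subsingleton_univ_iff.1 (huniv ▸ Set.subsingleton_singleton)
    have hd0 := topologicalKrullDim_zero_of_discreteTopology X
    rw [hf.dim] at hd0
    exact absurd hd0 (by norm_num)
  have h0 : Module.finrank K (Coh.HH (π.fiber t) (Coh.structureModule (π.fiber t)) 0) = 1 := by
    have e := hf.euler_fiber T t
    have hgr : GeometricallyReduced π := MorphismProperty.pullback_snd _ _ hf.geomRed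
    have hgc : GeometricallyConnected π := MorphismProperty.pullback_snd _ _ hf.geomConn
    have := hf.smooth_proj T
    exact finrank_h0_structure π t
  obtain ⟨L₀, hL₀, hc₀⟩ := PicGrp.exists_eq_cls (pull (π.fiberι t) c)
  obtain ⟨hDσ, hIσ, hpσ, hσ1, hσ0, -⟩ := pt σ hσ
  -- Euler characteristics along the multiples of the base point
  have hχ : ∀ n : ℕ, eulerC K (pull (π.fiberι t) c * pull u (divCls hDσ ^ n)) =
      eulerC K (pull (π.fiberι t) c) + n := by
    intro n
    induction n with
    | zero => simp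
    | succ n ih =>
      rw [pow_succ, map_mul, hpσ, ← mul_assoc, eulerC_divCls_mul hIσ hσ1 hσ0, ih]
      push_cast
      ring
  let gZ : ℕ := Curv2.genus K (π.fiber t)
  let χ₀ := eulerC K (pull (π.fiberι t) c)
  let n : ℕ := (2 * (gZ : ℤ) + 2 + |χ₀| + |Curv2.euler K (π.fiber t) (Coh.structureModule _)|).toNat
  obtain ⟨L₁, hL₁, hc₁⟩ := PicGrp.exists_eq_cls (pull (π.fiberι t) c * pull u (divCls hDσ ^ n))
  have hL₁χ : Curv2.euler K (π.fiber t) L₁ = χ₀ + n := by
    rw [← eulerC_cls hL₁, ← hχ n, hc₁]
  have hn : (n : ℤ) = 2 * (gZ : ℤ) + 2 + |χ₀| + |Curv2.euler K (π.fiber t) (Coh.structureModule _)| :=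
    Int.toNat_of_nonneg (by positivity)
  have h1 : Subsingleton (Coh.HH (π.fiber t) L₁ 1) := by
    refine Groth.Curves1.RR.subsingleton_h1_of_deg_ge K hdim h0 hL₁ ?_
    rw [Curv2.deg, hL₁χ, hn]
    have := neg_abs_le χ₀
    have := le_abs_self (Curv2.euler K (π.fiber t) (Coh.structureModule (π.fiber t)))
    push_cast
    simp only [π, gZ] at *
    omega
  have hm : 0 < Module.finrank K (Coh.HH (π.fiber t) L₁ 0) := by
    have e := euler_eq_sub' (K := K) hdim L₁
    rw [hL₁χ, hn, Module.finrank_zero_of_subsingleton (M := Coh.HH (π.fiber t) L₁ 1)] at e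
    have := neg_abs_le χ₀
    have := abs_nonneg (Curv2.euler K (π.fiber t) (Coh.structureModule (π.fiber t)))
    simp only [π, gZ] at *
    omega
  -- descend to one section
  have key : ∀ m : ℕ, ∀ N : PicLoc.PicSet X, Nice K (pull (π.fiberι t) c * pull u N) (m + 1) →
      ∃ N' : PicLoc.PicSet X, Nice K (pull (π.fiberι t) c * pull u N') 1 := by
    intro m
    induction m with
    | zero => exact fun N h => ⟨N, h⟩
    | succ m ih =>
      rintro N ⟨L, hL, hc, hh1, hh0⟩
      have : Module.Finite K (Coh.HH (π.fiber t) L 0) :=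
        Module.finite_of_finrank_pos (by omega)
      obtain ⟨v, hv⟩ : ∃ v : Coh.HH (π.fiber t) L 0, v ≠ 0 := by
        by_contra hall
        push Not at hall
        have : Subsingleton (Coh.HH (π.fiber t) L 0) := ⟨fun a b => (hall a).trans (hall b).symm⟩
        rw [Module.finrank_zero_of_subsingleton] at hh0
        omega
      let s := Groth.EulerDeg.h0Equiv K L v
      obtain ⟨-, hFfin, -⟩ := finite_support_zero hdim hL (s := s) (by simpa [s] using hv)
      obtain ⟨P, hP, hdisj⟩ := points _ (hFfin.image u)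
      obtain ⟨hD, hI, hpull, h1', h0', x, hxI, hxP⟩ := pt P hP
      have hxs : x ∉ (zero L s).support := fun h =>
        Set.disjoint_left.1 hdisj hxP ⟨x, h, rfl⟩
      refine ih (N * (divCls hD)⁻¹) ?_
      have hstep := nice_step hdim hI h1' h0' (by omega) hL hc hh1 hh0 hxI hxs
      rwa [map_mul, map_inv, hpull, ← mul_assoc]
  obtain ⟨N', L, hL, hc, hh1, hh0⟩ := key (Module.finrank K (Coh.HH (π.fiber t) L₁ 0) - 1)
    (divCls hDσ ^ n) ⟨L₁, hL₁, hc₁.symm, h1, by omega⟩
  obtain ⟨M, hM, hcM⟩ := PicGrp.exists_eq_cls (c * pull (pullback.fst f T.hom) N')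
  refine ⟨N', M, hM, hcM.symm, ?_⟩
  have e : cls hL = cls (Groth.PicAux.isInvertible_pullback (π.fiberι t) hM) := by
    rw [← pull_cls (π.fiberι t) hM, show cls hM = _ from hcM.symm, map_mul, ← pull_comp, hc]
  obtain ⟨i⟩ := (nonempty_iso_iff hL _).2 e
  exact ⟨(Groth.EulerDeg.hEquiv K i 1).toEquiv.symm.subsingleton,
    (Groth.EulerDeg.finrank_congr (k := K) i 0).symm.trans hh0⟩

end Groth.PicCurve
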