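import Groth.Agent.PicCurve.Chart
import Groth.Agent.PicCurve.Cover
import Groth.Agent.CurveDiv.HilbProper
import Mathlib

/-!
# Representability of the rigidified Picard functor of a pointed curve

The charts are the open loci of `Hilb^g` on which the divisor has no first cohomology and a single
section, translated by the classes of invertible modules on the curve.
-/

universe u

open CategoryTheory CategoryTheory.Limits AlgebraicGeometry TopologicalSpace Opposite
open Groth.Abvar.PicCalc
open Groth.HilbPts (pullObj)

set_option maxHeartbeats 1600000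
set_option backward.isDefEq.respectTransparency false
set_option backward.defeqAttrib.useBackward true
set_option backward.isDefEq.respectTransparency.types false

namespace Groth.PicCurve

variable {k : Type u} [Field k] {X : Scheme.{u}} {f : X ⟶ Spec (CommRingCat.of k)}
  {σ : Spec (CommRingCat.of k) ⟶ X} {hσ : σ ≫ f = 𝟙 (Spec (CommRingCat.of k))}

/-- The twist by a class from the curve. -/
noncomputable def tw (T : Over (Spec (CommRingCat.of k))) (N : PicLoc.PicSet X) :
    PicLoc.PicSet (PicF.XT f T) :=
  pull (pullback.fst f T.hom) N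

theorem tw_map {T T' : Over (Spec (CommRingCat.of k))} (g : T' ⟶ T) (N : PicLoc.PicSet X) :
    pull (PicF.XTmap f g) (tw (f := f) T N) = tw T' N := by
  rw [tw, tw, ← pull_comp, XTmap_fst]

variable (f σ hσ) in
/-- The open locus of good classes. -/
noncomputable def goodOpens (hf : IsPtCurve f) {T : Over (Spec (CommRingCat.of k))}
    (c : PicLoc.PicSet (PicF.XT f T)) : T.left.Opens :=
  ⟨{t | GoodC (PicF.XTproj f T) c t},
    haveI := hf.isProper_proj T
    haveI := hf.smooth_proj T
    isOpen_goodC _ c⟩

theorem mem_goodOpens (hf : IsPtCurve f) {T : Over (Spec (CommRingCat.of k))}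
    {c : PicLoc.PicSet (PicF.XT f T)} {t : T.left} :
    t ∈ goodOpens f hf c ↔ GoodC (PicF.XTproj f T) c t := Iff.rfl

theorem goodOpens_eq_top (hf : IsPtCurve f) {T : Over (Spec (CommRingCat.of k))}
    {c : PicLoc.PicSet (PicF.XT f T)} :
    goodOpens f hf c = ⊤ ↔ ∀ t, GoodC (PicF.XTproj f T) c t :=
  ⟨fun h _ => mem_goodOpens hf |>.1 (h.ge trivial), fun h => eq_top_iff.2 fun t _ => h t⟩

/-- Every good class is normalised to the class of a unique family of divisors. -/
theorem exists_divisor (hf : IsPtCurve f) {T : Over (Spec (CommRingCat.of k))}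
    (c : PicLoc.PicSet (PicF.XT f T)) (hc : ∀ t, GoodC (PicF.XTproj f T) c t) :
    ∃ W : HilbD.Obj f (genus f) T, norm f σ hσ T (dC hf W) = norm f σ hσ T c := by
  choose U W htU hW using fun t => exists_divisor_near hf c (hc t)
  obtain ⟨I, hI⟩ := Groth.HilbPts.exists_obj_glue (f := f) (ptCover U htU) W
    fun (i j : T.left) V a b hab => by
    refine eq_of_norm_eq (σ := σ) (hσ := hσ) hf (W := pullObj a (W i)) (W' := pullObj b (W j))
      (fun z => ?_) ?_
    · rw [← pull_dC, hW]
      exact (goodC_map_iff hf a _ z).2 ((goodC_map_iff hf (opnHom T (U i)) c _).2 (hc _))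
    · congr 1
      rw [← pull_dC, ← pull_dC, hW, hW]
      refine (pull_comp (PicF.XTmap f a) (PicF.XTmap f (opnHom T (U i))) c).symm.trans
        (Eq.trans ?_ (pull_comp (PicF.XTmap f b) (PicF.XTmap f (opnHom T (U j))) c))
      exact congrArg (fun m => pull m c) ((XTmap_comp' f a (opnHom T (U i))).symm.trans
        ((congrArg (PicF.XTmap f) hab).trans (XTmap_comp' f b (opnHom T (U j)))))
  refine ⟨I, ext_of_cover hf.constFun (ptCover U htU) fun (i : T.left) => ?_⟩
  rw [norm_map, norm_map, pull_dC, dC_congr hf (W' := W i) (hI i)]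
  exact congrArg (norm f σ hσ _) (hW i)

/-- The rigidified Picard functor of a pointed curve is representable. -/
theorem isRepresentable_rigFun [IsSepClosed k] (hf : IsPtCurve f) :
    (rigFun f σ hσ).IsRepresentable := by
  have := hf.geomIrr
  obtain ⟨H, Z, hZ, -, -⟩ := Groth.CurveDiv.exists_proper_smooth k X f hf.curve (genus f)
  let O : H.left.Opens := goodOpens f hf (dC hf Z)
  let H₀ := opn H O
  let Z₀ : HilbD.Obj f (genus f) H₀ := pullObj (opnHom H O) Z
  have hZ₀ : ∀ z, GoodC (PicF.XTproj f H₀) (dC hf Z₀) z := fun z => by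
    rw [← pull_dC, goodC_map_iff hf]
    exact z.2
  let N : Shrink.{u} (PicLoc.PicSet X) → PicLoc.PicSet X := (equivShrink _).symm
  -- pulled universal elements
  have hres : ∀ (i : Shrink.{u} (PicLoc.PicSet X)) {T} (g : T ⟶ H₀),
      (norm f σ hσ H₀ (dC hf Z₀ * (tw H₀ (N i))⁻¹)).map g =
        norm f σ hσ T (dC hf (pullObj g Z₀) * (tw T (N i))⁻¹) := fun i T g => by
    rw [norm_map, map_mul, map_inv, pull_dC, tw_map]
  let D : Flatmor4.OverRep.Atlas (rigFun f σ hσ) :=
    { ι := Shrink.{u} (PicLoc.PicSet X)
      H := fun _ => H₀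
      Z := fun i => ofRS (norm f σ hσ H₀ (dC hf Z₀ * (tw H₀ (N i))⁻¹))
      loc := fun i T a => goodOpens f hf ((toRS a).1 * tw T (N i))
      loc_map := fun i T T' g a => by
        refine Opens.ext (Set.ext fun t => ?_)
        change GoodC _ ((toRS (Flatmor4.OverRep.res (rigFun f σ hσ) g a)).1 * tw T' (N i)) t ↔
          GoodC _ ((toRS a).1 * tw T (N i)) (g.left t)
        rw [← goodC_map_iff hf g, map_mul, tw_map, toRS_res]
        rfl
      loc_self := fun i => by
        refine (goodOpens_eq_top hf).2 fun z => ?_
        rw [toRS_ofRS, goodC_norm hf, inv_mul_cancel_right]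
        exact hZ₀ z
      univ := fun i T a ha => by
        have hgood := (goodOpens_eq_top hf).1 ha
        obtain ⟨W, hW⟩ := exists_divisor (σ := σ) (hσ := hσ) hf _ hgood
        obtain ⟨t, ht, -⟩ := hZ T W
        have htO : Set.range t.left ⊆ O := by
          rintro _ ⟨y, rfl⟩
          show GoodC _ (dC hf Z) (t.left y)
          rw [← goodC_map_iff hf t, pull_dC, dC_congr hf (W' := W) ht, ← mul_one (dC hf W),
            ← goodC_norm (σ := σ) (hσ := hσ) hf, hW, goodC_norm hf, mul_one]
          exact hgood y
        let t₀ : T ⟶ H₀ := Over.homMk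
          (IsOpenImmersion.lift O.ι t.left (htO.trans (Scheme.Opens.range_ι O).ge))
          (by simp [H₀, ← Category.assoc, IsOpenImmersion.lift_fac])
        have ht₀ : t₀ ≫ opnHom H O = t := Over.OverMorphism.ext (IsOpenImmersion.lift_fac _ _ _)
        have hpull : ∀ g : T ⟶ H₀, (pullObj g Z₀).1 = HilbD.pull f (g ≫ opnHom H O) Z.1 := fun g =>
          Groth.HilbPts.pull_pull f g (opnHom H O) Z.1
        have hnorm : norm f σ hσ T (dC hf W * (tw T (N i))⁻¹) = toRS a := by
          refine Eq.trans (Subtype.ext ?_) (norm_self (toRS a))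
          rw [norm_mul, hW, norm_mul, mul_assoc, ← norm_mul, mul_inv_cancel]
          exact (congrArg _ (show (norm f σ hσ T 1).1 = 1 by
            show (1 : PicLoc.PicSet _) * _ = 1
            rw [map_one, map_one, inv_one, mul_one])).trans (mul_one _)
        refine ⟨t₀, toRS_injective ?_, fun g hg => ?_⟩
        · rw [toRS_res, toRS_ofRS, hres, dC_congr hf (W' := W) (by rw [hpull, ht₀, ht]), hnorm]
        · have hg' := congrArg toRS hg
          rw [toRS_res, toRS_ofRS, hres, ← hnorm] at hg'
          have hgW : (pullObj g Z₀).1 = W.1 := by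
            refine eq_of_norm_eq (σ := σ) (hσ := hσ) hf (fun z => ?_) (Subtype.ext ?_)
            · rw [← pull_dC, goodC_map_iff hf]; exact hZ₀ _
            · have := congrArg Subtype.val hg'
              rw [norm_mul, norm_mul] at this
              exact mul_right_cancel this
          rw [hpull] at hgW
          have e : g ≫ opnHom H O = t := (hZ T W).unique hgW ht
          rw [← ht₀] at e
          refine Over.OverMorphism.ext ?_
          have e' := congrArg (fun m : T ⟶ H => m.left) e
          exact (cancel_mono O.ι).1 e'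
      cover := fun T a t => by
        obtain ⟨M, hM⟩ := exists_goodC_twist hf σ hσ T (toRS a).1 t
        refine ⟨equivShrink _ M, ?_⟩
        show GoodC _ ((toRS a).1 * tw T (N (equivShrink _ M))) t
        rw [show N (equivShrink _ M) = M from (equivShrink _).symm_apply_apply M]
        exact hM }
  exact D.representable fun T 𝒰 => isSheafCover_rigFun hf.constFun T 𝒰

end Groth.PicCurve
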