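import Groth.Agent.PicCurve.Elliptic
import Groth.Agent.PicAux.RelPicDegree
import Mathlib

/-!
# The degree zero part of the relative Picard scheme of a family of curves
-/

universe u

open CategoryTheory CategoryTheory.Limits AlgebraicGeometry TopologicalSpace Opposite
open Groth.Abvar.PicCalc

set_option maxHeartbeats 1600000
set_option backward.isDefEq.respectTransparency false
set_option backward.defeqAttrib.useBackward true
set_option backward.isDefEq.respectTransparency.types false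

namespace Groth.PicCurve

/-- Lifts along a monomorphism exist as soon as they exist on a covering. -/
theorem exists_lift_of_cover {Y Z T : Scheme.{u}} (g : Y ⟶ Z) [Mono g] {R : Presieve T}
    (hR : R ∈ Scheme.fppfPrecoverage T) (a : T ⟶ Z)
    (h : ∀ ⦃U : Scheme.{u}⦄ (u : U ⟶ T), R u → ∃ x : U ⟶ Y, x ≫ g = u ≫ a) :
    ∃ x : T ⟶ Y, x ≫ g = a := by
  choose x hx using h
  have hs : Presieve.IsSheafFor (yoneda.obj Y) R :=
    (Presieve.isSheafFor_iff_generate _).2
      ((GrothendieckTopology.Subcanonical.isSheaf_of_isRepresentable (yoneda.obj Y) :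
        Presieve.IsSheaf Scheme.fppfTopology (yoneda.obj Y)) _
        (Precoverage.generate_mem_toGrothendieck hR))
  let fam : Presieve.FamilyOfElements (yoneda.obj Y) R := fun U u hu => x u hu
  have hfam : fam.Compatible := fun U₁ U₂ V g₁ g₂ u₁ u₂ h₁ h₂ h => by
    show g₁ ≫ x u₁ h₁ = g₂ ≫ x u₂ h₂
    rw [← cancel_mono g, Category.assoc, Category.assoc, hx, hx, reassoc_of% h]
  have hamal : ∀ ⦃U : Scheme.{u}⦄ (u : U ⟶ T) (hu : R u),
      u ≫ hs.amalgamate fam hfam = x u hu := fun U u hu => hs.valid_glue hfam u hu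
  exact ⟨hs.amalgamate fam hfam, hom_ext_of_fppfCover hR _ _ fun U u hu => by
    rw [← Category.assoc, hamal u hu, hx]⟩

variable {C S : Scheme.{u}} {f : C ⟶ S} [IsProper f] [Smooth f] [GeometricallyConnected f]
  (hdim : ∀ s : S, topologicalKrullDim ↥(f.fiber s) = 1)
  {P : Over S} {φ : ∀ T : Over S, PicF.Cl (PicF.XT f T) → (T ⟶ P)}
  (hP : AbDual.IsRelPicK Scheme.fppfPrecoverage f P φ)

omit [Smooth f] [GeometricallyConnected f] in
theorem fdeg_eq_degC (T : Over S) {L : (PicF.XT f T).Modules} (hL : PicF.IsInvertible L)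
    (t : T.left) :
    Groth.PicAux.RelPicDegree.fdeg f T L t = degC (PicF.XTproj f T) (cls hL) t := by
  rw [degC_cls]
  rfl

omit [GeometricallyConnected f] in
include hP in
/-- The points of degree zero form an open and closed subset. -/
theorem exists_zeroLocus : ∃ W : P.left.Opens, IsClosed (W : Set P.left) ∧
    ∀ (T : Over S) (a : PicLoc.PicSet (PicF.XT f T)) (t : T.left),
      (φ T a.1).left t ∈ W ↔ degC (PicF.XTproj f T) a t = 0 := by
  obtain ⟨d, hd, hdeg⟩ := Groth.PicAux.RelPicDegree.exists_degree f hP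
  refine ⟨⟨{p | d p = 0}, hd.isOpen_fiber 0⟩, (hd.isClopen_fiber 0).1, fun T a t => ?_⟩
  obtain ⟨L, hL, rfl⟩ := PicGrp.exists_eq_cls a
  rw [← fdeg_eq_degC T hL t, ← hdeg T L hL t]
  rfl

variable {P₀ : Over S} {φ₀ : ∀ T : Over S, PicF.Cl (PicF.XT f T) → (T ⟶ P₀)}
  (hP₀ : AbDual.IsRelPicZeroK Scheme.fppfPrecoverage f P₀ φ₀)
  {j : P₀ ⟶ P}
  (hj : ∀ (T : Over S) (c : PicF.Cl (PicF.XT f T)), AbDual.IsPicZeroCl f T c → φ₀ T c ≫ j = φ T c)

include hdim hP hP₀ hj in
/-- `Pic⁰` maps monomorphically to `Pic`. -/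
theorem mono_zero_to_pic : Mono j.left := by
  refine ⟨fun {Z} a b hab => ?_⟩
  let T : Over S := Over.mk (a ≫ P₀.hom)
  have hb : b ≫ P₀.hom = a ≫ P₀.hom := by
    rw [← Over.w j, reassoc_of% hab]
  let x : T ⟶ P₀ := Over.homMk a rfl
  let y : T ⟶ P₀ := Over.homMk b hb
  have hxy : x ≫ j = y ≫ j := Over.OverMorphism.ext hab
  obtain ⟨R, hR, hRc⟩ := hP₀.locallySurjective T x
  refine hom_ext_of_fppfCover hR a b fun U u hu => ?_
  obtain ⟨c, hc, hcu⟩ := hRc u hu
  let U' := AbDual.ovr T u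
  obtain ⟨R', hR', hRc'⟩ := hP₀.locallySurjective U' (AbDual.ovrHom T u ≫ y)
  refine hom_ext_of_fppfCover hR' (u ≫ a) (u ≫ b) fun V v hv => ?_
  obtain ⟨c', hc', hcv⟩ := hRc' v hv
  let v' := AbDual.ovrHom U' v
  have hinv : ∀ {T' : Over S} {e : PicF.Cl (PicF.XT f T')}, AbDual.IsPicZeroCl f T' e →
      PicF.IsInvertibleCl e := fun {T'} {e} ⟨L, hL, hLi, _⟩ => ⟨L, hL, hLi⟩
  have hz : AbDual.IsPicZeroCl f _ (PicF.pullCl (PicF.XTmap f v') c) := by
    have hc₀ := hc
    obtain ⟨L, rfl, hL, -⟩ := hc₀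
    refine (isPicZeroCl_iff hdim _ (pull (PicF.XTmap f v') (cls hL))).2 fun t => ?_
    obtain ⟨_, _, _⟩ := family_hyps (f := f) U'
    rw [degC_baseChange _ (XTmap_sq f v')]
    exact (isPicZeroCl_iff hdim _ (cls hL)).1 hc _
  have key : φ (AbDual.ovr U' v) (PicF.pullCl (PicF.XTmap f v') c) = φ _ c' := by
    rw [← hj _ _ hz, ← hj _ _ hc', hcv, hP₀.natural _ _ v' c hc, hcu]
    simp only [Category.assoc, hxy]
    rfl
  obtain ⟨R'', hR'', hRc''⟩ := hP.locallyInjective _ _ _ (hinv hz) (hinv hc') key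
  refine hom_ext_of_fppfCover hR'' (v ≫ u ≫ a) (v ≫ u ≫ b) fun W w hw => ?_
  have h1 := congrArg (φ₀ (AbDual.ovr (AbDual.ovr U' v) w)) (hRc'' w hw)
  rw [hP₀.natural _ _ _ _ hz, hP₀.natural _ _ _ _ hc', hcv, hP₀.natural _ _ v' c hc, hcu] at h1
  exact congrArg (fun m => m.left) h1

variable {W : P.left.Opens}
  (hW : ∀ (T : Over S) (a : PicLoc.PicSet (PicF.XT f T)) (t : T.left),
      (φ T a.1).left t ∈ W ↔ degC (PicF.XTproj f T) a t = 0)

include hdim hP hP₀ hj hW in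
/-- `Pic⁰` is the part of degree zero. -/
theorem exists_iso_zeroLocus : ∃ e : P₀.left ≅ (W : Scheme.{u}), e.hom ≫ W.ι = j.left := by
  have hmono := mono_zero_to_pic hdim hP hP₀ hj
  -- the range of `j`
  have hrange : Set.range j.left ⊆ (W : Set P.left) := by
    rintro _ ⟨p, rfl⟩
    obtain ⟨R, hR, hRc⟩ := hP₀.locallySurjective P₀ (𝟙 P₀)
    obtain ⟨U, u, z, hu, -, -, hz⟩ := Groth.PicAux.RelPicSep.exists_of_mem_fppf hR p
    obtain ⟨c, hc, hcu⟩ := hRc u hu
    have hj' := hj _ _ hc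
    rw [hcu, Category.comp_id] at hj'
    have hc₀ := hc
    obtain ⟨L, rfl, hL, -⟩ := hc₀
    rw [← hz, ← Scheme.Hom.comp_apply,
      show u ≫ j.left = (φ _ (PicF.cl L)).left from congrArg (fun m => m.left) hj']
    exact (hW _ (cls hL) z).2 ((isPicZeroCl_iff hdim _ (cls hL)).1 hc z)
  let j₁ : P₀.left ⟶ W := IsOpenImmersion.lift W.ι j.left (hrange.trans (Scheme.Opens.range_ι W).ge)
  have hj₁ : j₁ ≫ W.ι = j.left := IsOpenImmersion.lift_fac _ _ _
  -- lifts of the degree zero part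
  let TW : Over S := Over.mk (W.ι ≫ P.hom)
  obtain ⟨R, hR, hRc⟩ := hP.locallySurjective TW (Over.homMk W.ι rfl)
  obtain ⟨s, hs⟩ := exists_lift_of_cover j.left hR W.ι fun U u hu => by
    obtain ⟨c, hc, hcu⟩ := hRc u hu
    obtain ⟨L, rfl, hL⟩ := hc
    have hz : AbDual.IsPicZeroCl f _ (PicF.cl L) := by
      refine (isPicZeroCl_iff hdim _ (cls hL)).2 fun t => (hW _ (cls hL) t).1 ?_
      show (φ _ (PicF.cl L)).left t ∈ W
      rw [hcu]
      exact (u t).2
    refine ⟨(φ₀ _ (PicF.cl L)).left, ?_⟩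
    have := congrArg (fun m => m.left) ((hj _ _ hz).trans hcu)
    simpa using this
  refine ⟨⟨j₁, s, ?_, ?_⟩, hj₁⟩
  · rw [← cancel_mono j.left, Category.assoc, hs, hj₁, Category.id_comp]
  · rw [← cancel_mono W.ι, Category.assoc, hj₁, hs, Category.id_comp]

include hdim hP hP₀ hj in
/-- `Pic⁰ → Pic` is an open and closed immersion. -/
theorem openClosed_zero_to_pic : IsOpenImmersion j.left ∧ IsClosedImmersion j.left := by
  obtain ⟨W, hWc, hW⟩ := exists_zeroLocus (f := f) hP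
  obtain ⟨e, he⟩ := exists_iso_zeroLocus hdim hP hP₀ hj hW
  have : IsClosedImmersion W.ι := IsClosedImmersion.of_isPreimmersion _ (by
    rw [Scheme.Opens.range_ι]; exact hWc)
  rw [← he]
  exact ⟨inferInstance, inferInstance⟩

end Groth.PicCurve
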