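import Groth.Agent.PicCurve.RigPic

/-!
# The rigidified Picard functor is a small Zariski sheaf
-/

universe u

open CategoryTheory CategoryTheory.Limits AlgebraicGeometry TopologicalSpace Opposite
open Groth.Abvar.PicCalc
open Groth.PicAux (Gen res resX)
open Groth.Flatmor4.OverRep (piece pieceHom)

set_option maxHeartbeats 1600000
set_option backward.isDefEq.respectTransparency false
set_option backward.defeqAttrib.useBackward true
set_option backward.isDefEq.respectTransparency.types false

namespace Groth.PicCurve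

/-- Transition functions on opens indexed by the points. -/
def Coc (Y : Scheme.{u}) : Type u :=
  Σ U : Y → Y.Opens, ∀ x y, Γ(Y, U x ⊓ U y)

/-- The transition functions are those of a frame of `L`. -/
def IsFrame {Y : Scheme.{u}} (d : Coc Y) (L : Y.Modules) : Prop :=
  ∃ s : ∀ x, Γ(L, d.1 x), (∀ x, x ∈ d.1 x ∧ Gen L (d.1 x) (s x)) ∧
    ∀ x y, res L inf_le_left (s x) = d.2 x y • res L inf_le_right (s y)

theorem exists_isFrame {Y : Scheme.{u}} {L : Y.Modules} (hL : PicF.IsInvertible L) :
    ∃ d : Coc Y, IsFrame d L := by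
  choose U s hx hs using fun x => (PicAux.isInvertible_iff_exists_gen L).1 hL x
  choose r hr using fun x y => (hs y).exists_coeff (inf_le_right : U x ⊓ U y ≤ U y)
    (res L inf_le_left (s x))
  exact ⟨⟨U, r⟩, s, fun x => ⟨hx x, hs x⟩, hr⟩

theorem nonempty_iso_of_isFrame {Y : Scheme.{u}} {d : Coc Y} {L M : Y.Modules}
    (hL : IsFrame d L) (hM : IsFrame d M) : Nonempty (L ≅ M) := by
  obtain ⟨s, hs, hsr⟩ := hL
  obtain ⟨t, ht, htr⟩ := hM
  obtain ⟨e, -⟩ := PicAux.exists_iso_of_gen
    (U := d.1) (eq_top_iff.2 fun x _ => Opens.mem_iSup.2 ⟨x, (hs x).1⟩) s (fun x => (hs x).2) t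
    (fun x => (ht x).2) fun x y r hr => by
      rw [htr x y]
      congr 1
      exact (hs y).2.smul_inj _ ((hsr x y).symm.trans hr)
  exact ⟨e⟩

instance small_picSet (Y : Scheme.{u}) : Small.{u} (PicLoc.PicSet Y) := by
  classical
  refine small_of_surjective (f := fun d : Coc Y =>
    if h : ∃ L : Y.Modules, PicF.IsInvertible L ∧ IsFrame d L then cls h.choose_spec.1
    else 1) fun c => ?_
  obtain ⟨L, hL, rfl⟩ := PicGrp.exists_eq_cls c
  obtain ⟨d, hd⟩ := exists_isFrame hL
  refine ⟨d, ?_⟩
  have h : ∃ L : Y.Modules, PicF.IsInvertible L ∧ IsFrame d L := ⟨L, hL, hd⟩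
  simp only [dif_pos h]
  rw [← nonempty_iso_iff]
  exact nonempty_iso_of_isFrame h.choose_spec.2 hd

variable {X S : Scheme.{u}} (f : X ⟶ S) (σ : S ⟶ X) (hσ : σ ≫ f = 𝟙 S)

instance small_RS (T : Over S) : Small.{u} (RS f σ hσ T) :=
  small_of_injective (f := fun c : RS f σ hσ T => c.1) Subtype.val_injective

/-- The functor of rigidified classes, with small values. -/
noncomputable def rigFun : (Over S)ᵒᵖ ⥤ Type u where
  obj T := Shrink.{u} (RS f σ hσ T.unop)
  map g := TypeCat.ofHom fun a => equivShrink _ (((equivShrink _).symm a).map g.unop)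
  map_id T := by ext a; simp [map_id]
  map_comp g h := by ext a; simp [map_map]

variable {f σ hσ}

/-- An element of the functor as a class. -/
noncomputable def toRS {T : Over S} (a : (rigFun f σ hσ).obj (op T)) : RS f σ hσ T :=
  (equivShrink _).symm a

/-- A class as an element of the functor. -/
noncomputable def ofRS {T : Over S} (c : RS f σ hσ T) : (rigFun f σ hσ).obj (op T) :=
  equivShrink _ c

@[simp] theorem toRS_ofRS {T : Over S} (c : RS f σ hσ T) : toRS (ofRS c) = c :=
  (equivShrink _).symm_apply_apply c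

theorem toRS_injective {T : Over S} :
    Function.Injective (toRS : (rigFun f σ hσ).obj (op T) → RS f σ hσ T) :=
  (equivShrink _).symm.injective

@[simp] theorem toRS_res {T T' : Over S} (g : T' ⟶ T) (a : (rigFun f σ hσ).obj (op T)) :
    toRS (Flatmor4.OverRep.res (rigFun f σ hσ) g a) = (toRS a).map g :=
  (equivShrink _).symm_apply_apply _

/-- The functor is a Zariski sheaf. -/
theorem isSheafCover_rigFun (hc : ConstFun f) (T : Over S) (𝒰 : Scheme.OpenCover.{u} T.left) :
    Flatmor4.OverRep.IsSheafCover (rigFun f σ hσ) 𝒰 := fun a ha => by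
  obtain ⟨d, hd⟩ := exists_of_cover hc 𝒰 (fun i => toRS (a i)) fun i j W p q e => by
    simpa using congrArg toRS (ha i j W p q e)
  refine ⟨ofRS d, fun i => toRS_injective (by simpa using hd i), fun b hb => toRS_injective ?_⟩
  exact ext_of_cover hc 𝒰 fun i => by
    have := congrArg toRS (hb i)
    rw [toRS_res] at this
    simp [this, hd i]

/-- A universal element of the functor gives a universal rigidified class. -/
theorem rigRepresentable_of_isRepresentable (h : (rigFun f σ hσ).IsRepresentable) :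
    PicF.RigRepresentable f σ hσ := by
  obtain ⟨P, ⟨r⟩⟩ := h.has_representation
  let ξ : RS f σ hσ P := toRS (r.homEquiv (𝟙 P))
  have hξ : ∀ (T : Over S) (g : T ⟶ P), toRS (r.homEquiv g) = ξ.map g := fun T g => by
    have := congrArg toRS (r.homEquiv_eq g)
    rwa [toRS_res] at this
  have toRig : ∀ {T : Over S} (c : RS f σ hσ T), PicF.IsInvertibleCl c.1.1 ∧
      PicF.IsTrivialCl (PicF.pullCl (PicF.secT f σ hσ T) c.1.1) := fun {T} c =>
    ⟨c.1.2, (congrArg Subtype.val c.2).trans PicGrp.one_val⟩
  refine ⟨P, ⟨ξ.1.1, toRig ξ⟩, fun T c => ?_⟩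
  let c' : RS f σ hσ T := ⟨⟨c.1, c.2.1⟩, Subtype.ext (c.2.2.trans PicGrp.one_val.symm)⟩
  refine ⟨r.homEquiv.symm (ofRS c'), ?_, fun g hg => ?_⟩
  · have := hξ T (r.homEquiv.symm (ofRS c'))
    rw [Equiv.apply_symm_apply, toRS_ofRS] at this
    exact (congrArg (fun z => z.1.1) this).symm
  · rw [Equiv.eq_symm_apply]
    refine toRS_injective ?_
    rw [hξ, toRS_ofRS]
    exact Subtype.ext (Subtype.ext hg)

end Groth.PicCurve
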