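import Groth.Agent.PicCurve.Divisor
import Groth.Agent.PicCurve.Setup
import Groth.Agent.PicCurve.Functor
import Groth.Agent.HilbPts.Glue
import Mathlib

/-!
# Good classes and relative divisors of degree the genus
-/

universe u

open CategoryTheory CategoryTheory.Limits AlgebraicGeometry TopologicalSpace Opposite
open Groth.Abvar.PicCalc
open Groth.PicAux (Gen pullSec res resX)

set_option maxHeartbeats 1600000
set_option backward.isDefEq.respectTransparency false
set_option backward.defeqAttrib.useBackward true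
set_option backward.isDefEq.respectTransparency.types false

namespace Groth.PicCurve

variable {k : Type u} [Field k] {X : Scheme.{u}} {f : X ⟶ Spec (CommRingCat.of k)}
  {σ : Spec (CommRingCat.of k) ⟶ X} {hσ : σ ≫ f = 𝟙 (Spec (CommRingCat.of k))}
  {T T' : Over (Spec (CommRingCat.of k))}

/-- An open subscheme as an object over the field. -/
noncomputable abbrev opn (T : Over (Spec (CommRingCat.of k))) (U : T.left.Opens) :
    Over (Spec (CommRingCat.of k)) := Over.mk (U.ι ≫ T.hom)

/-- The inclusion of an open subscheme. -/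
noncomputable abbrev opnHom (T : Over (Spec (CommRingCat.of k))) (U : T.left.Opens) : opn T U ⟶ T :=
  Over.homMk U.ι rfl

/-- The cover by a family of opens indexed by the points. -/
noncomputable def ptCover (U : T.left → T.left.Opens) (hU : ∀ t, t ∈ U t) :
    Scheme.OpenCover.{u} T.left :=
  Scheme.Cover.mkOfCovers (↥T.left) (fun t => (U t : Scheme.{u})) (fun t => (U t).ι)
    (fun t => ⟨t, ⟨t, hU t⟩, rfl⟩) fun _ => inferInstance

theorem goodC_map_iff (hf : IsPtCurve f) (g : T' ⟶ T) (c : PicLoc.PicSet (PicF.XT f T)) (t : T'.left) :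
    GoodC (PicF.XTproj f T') (pull (PicF.XTmap f g) c) t ↔ GoodC (PicF.XTproj f T) c (g.left t) := by
  have := hf.isProper_proj T
  have := hf.isProper_proj T'
  have := hf.smooth_proj T
  exact goodC_baseChange_iff _ (XTmap_sq f g) c t

theorem exists_trivializing (d : PicLoc.PicSet T.left) (t : T.left) :
    ∃ U : T.left.Opens, t ∈ U ∧ pull U.ι d = 1 := by
  obtain ⟨L, hL, rfl⟩ := PicGrp.exists_eq_cls d
  obtain ⟨U, s, htU, hs⟩ := (Groth.PicAux.isInvertible_iff_exists_gen L).1 hL t
  refine ⟨U, htU, ?_⟩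
  rw [pull_cls, ← nonempty_iso_structure_iff]
  exact (Abvar.Seesaw.exists_gen_iff_trivial L U).1 ⟨s, hs⟩

theorem pull_base_opn (U : T.left.Opens) (d : PicLoc.PicSet T.left) (hd : pull U.ι d = 1) :
    pull (PicF.XTmap f (opnHom T U)) (pull (PicF.XTproj f T) d) = 1 := by
  rw [← pull_comp, XTmap_snd, pull_comp, show pull (opnHom T U).left d = 1 from hd, map_one]

/-- Goodness ignores classes from the base. -/
theorem goodC_mul_base (hf : IsPtCurve f) (c : PicLoc.PicSet (PicF.XT f T)) (d : PicLoc.PicSet T.left)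
    (t : T.left) :
    GoodC (PicF.XTproj f T) (c * pull (PicF.XTproj f T) d) t ↔ GoodC (PicF.XTproj f T) c t := by
  obtain ⟨U, htU, hd⟩ := exists_trivializing d t
  have h1 := goodC_map_iff hf (opnHom T U) (c * pull (PicF.XTproj f T) d) ⟨t, htU⟩
  have h2 := goodC_map_iff hf (opnHom T U) c ⟨t, htU⟩
  rw [map_mul, pull_base_opn U d hd, mul_one] at h1
  exact h1.symm.trans h2

theorem goodC_norm (hf : IsPtCurve f) (c e : PicLoc.PicSet (PicF.XT f T)) (t : T.left) :
    GoodC (PicF.XTproj f T) ((norm f σ hσ T c).1 * e) t ↔ GoodC (PicF.XTproj f T) (c * e) t := by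
  show GoodC _ (c * _ * e) t ↔ _
  rw [mul_right_comm, ← map_inv]
  exact goodC_mul_base hf _ _ t

/-- Classes with equal normalisations differ by a class from the base. -/
theorem eq_mul_base_of_norm {c c' : PicLoc.PicSet (PicF.XT f T)}
    (h : norm f σ hσ T c = norm f σ hσ T c') :
    c = c' * pull (PicF.XTproj f T) (pull (PicF.secT f σ hσ T) (c * c'⁻¹)) := by
  have := congrArg Subtype.val h
  change c * _ = c' * _ at this
  rw [map_mul (pull (PicF.secT f σ hσ T)), map_inv (pull (PicF.secT f σ hσ T)), map_mul, map_inv]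
  rw [mul_inv_eq_iff_eq_mul] at this
  exact this.trans (by rw [mul_assoc, mul_comm ((pull _ _)⁻¹)])

/-- The divisor class of a family of divisors. -/
noncomputable def dC (hf : IsPtCurve f) {d : ℕ} (W : HilbD.Obj f d T) :
    PicLoc.PicSet (PicF.XT f T) :=
  haveI := hf.smoothOne_proj T
  divCls (isEffCartierIdeal_of_finLocFree (PicF.XTproj f T) W.2).1

theorem dC_congr (hf : IsPtCurve f) {d : ℕ} {W W' : HilbD.Obj f d T} (h : W.1 = W'.1) :
    dC hf W = dC hf W' := by
  obtain rfl : W = W' := Subtype.ext h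
  rfl

theorem pull_dC (hf : IsPtCurve f) {d : ℕ} (g : T' ⟶ T) (W : HilbD.Obj f d T) :
    pull (PicF.XTmap f g) (dC hf W) = dC hf (Groth.HilbPts.pullObj g W) := by
  have := hf.smoothOne_proj T'
  have e : HilbD.pull f g W.1 = W.1.comap (PicF.XTmap f g) := Groth.CurveDiv.pull_eq_comap f g W.1
  have hJ := (isEffCartierIdeal_of_finLocFree (PicF.XTproj f T') (Groth.HilbPts.pullObj g W).2).1
  have hJ' : BlowUp.IsEffCartierIdeal (W.1.comap (PicF.XTmap f g)) := e ▸ hJ
  exact (pull_divCls _ _ hJ').trans (divCls_congr e.symm hJ' hJ)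

/-- The fibres of an open restriction are the fibres. -/
theorem exists_fiber_iso (U : T.left.Opens) (t : (opn T U).left) :
    ∃ m : (PicF.XTproj f (opn T U)).fiber t ⟶ (PicF.XTproj f T).fiber ((opnHom T U).left t),
      IsIso m ∧ m ≫ (PicF.XTproj f T).fiberι _ =
        (PicF.XTproj f (opn T U)).fiberι t ≫ PicF.XTmap f (opnHom T U) := by
  let g := (opnHom T U).left
  have : IsOpenImmersion g := inferInstanceAs (IsOpenImmersion U.ι)
  let r := Spec.map (g.residueFieldMap t)
  have hbig := (IsPullback.of_hasPullback (PicF.XTproj f (opn T U))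
    ((opn T U).left.fromSpecResidueField t)).paste_horiz (XTmap_sq f (opnHom T U))
  have hr : r ≫ T.left.fromSpecResidueField _ = (opn T U).left.fromSpecResidueField t ≫ g :=
    Scheme.Hom.SpecMap_residueFieldMap_fromSpecResidueField _ _
  let m : (PicF.XTproj f (opn T U)).fiber t ⟶ (PicF.XTproj f T).fiber (g t) :=
    pullback.lift ((PicF.XTproj f (opn T U)).fiberι t ≫ PicF.XTmap f (opnHom T U))
      ((PicF.XTproj f (opn T U)).fiberToSpecResidueField t ≫ r)
      (by rw [Category.assoc (_ : (PicF.XTproj f (opn T U)).fiber t ⟶ _) r, hr]; exact hbig.w)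
  refine ⟨m, ?_, pullback.lift_fst _ _ _⟩
  have hsq : IsPullback m ((PicF.XTproj f (opn T U)).fiberToSpecResidueField t)
      ((PicF.XTproj f T).fiberToSpecResidueField (g t)) r := by
    refine IsPullback.of_right (h₁₂ := (PicF.XTproj f T).fiberι (g t))
      (h₂₂ := T.left.fromSpecResidueField (g t)) (v₁₃ := PicF.XTproj f T) ?_
      (pullback.lift_snd _ _ _) (IsPullback.of_hasPullback _ _)
    rw [hr, show m ≫ (PicF.XTproj f T).fiberι (g t) = _ from pullback.lift_fst _ _ _]
    exact hbig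
  exact hsq.isIso_fst_of_isIso

/-- Sections nonzero on the fibres over an open give sections nonzero on all fibres of it. -/
theorem fibNZ_opn (U : T.left.Opens) {L : (PicF.XT f T).Modules}
    {s : Γ(L, PicF.XTproj f T ⁻¹ᵁ U)} (hs : FibNZ (PicF.XTproj f T) L s)
    (h : (⊤ : (PicF.XT f (opn T U)).Opens) ≤
      PicF.XTmap f (opnHom T U) ⁻¹ᵁ (PicF.XTproj f T ⁻¹ᵁ U)) :
    FibNZ (W := ⊤) (PicF.XTproj f (opn T U))
      ((Scheme.Modules.pullback (PicF.XTmap f (opnHom T U))).obj L)
      (res _ h (pullSec (PicF.XTmap f (opnHom T U)) L s)) := by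
  intro t _ h0
  obtain ⟨m, hm, hcomm⟩ := exists_fiber_iso (f := f) U t
  let ι' := (PicF.XTproj f (opn T U)).fiberι t
  let j := PicF.XTmap f (opnHom T U)
  let ι := (PicF.XTproj f T).fiberι ((opnHom T U).left t)
  -- the pullback along the composite vanishes
  have h1 : pullSec (ι' ≫ j) L s = 0 := by
    rw [← Groth.PicAux.pullSec_comp ι' j L s]
    have h2 : pullSec ι' _ (pullSec j L s) = 0 := by
      refine (Groth.PicCurve.Glue.res_bijective_of_eq
        (show ι' ⁻¹ᵁ (j ⁻¹ᵁ (PicF.XTproj f T ⁻¹ᵁ U)) = ι' ⁻¹ᵁ ⊤ by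
          rw [top_le_iff.1 h]) (ι'.preimage_mono h)).1 ?_
      rw [Groth.PicAux.res_zero, Groth.PicAux.res_pullSec ι' _ h]
      exact h0
    rw [h2, map_zero]
  have h3 : pullSec (m ≫ ι) L s = 0 := by
    have : ∀ (a b : (PicF.XTproj f (opn T U)).fiber t ⟶ PicF.XT f T) (_ : a = b),
        pullSec a L s = 0 → pullSec b L s = 0 := by rintro a b rfl h; exact h
    exact this _ _ hcomm.symm h1
  have h4 : pullSec m _ (pullSec ι L s) = 0 := by
    have hb := ConcreteCategory.bijective_of_isIso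
      (((Scheme.Modules.pullbackComp m ι).hom.app L).app (m ⁻¹ᵁ (ι ⁻¹ᵁ (PicF.XTproj f T ⁻¹ᵁ U))))
    refine hb.1 ?_
    rw [Groth.PicAux.pullSec_comp m ι L s, h3, map_zero]
  refine hs _ t.2 ((Groth.PicCurve.Glue.pullSec_bijective m _
    (by rw [Scheme.Hom.opensRange_of_isIso]; exact le_top)).1 (h4.trans ?_))
  exact (map_zero (((Scheme.Modules.pullbackPushforwardAdjunction m).unit.app _).app _).hom).symm

/-- Near a good point a class is the class of a divisor. -/
theorem exists_divisor_near (hf : IsPtCurve f) (c : PicLoc.PicSet (PicF.XT f T)) {t : T.left}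
    (ht : GoodC (PicF.XTproj f T) c t) :
    ∃ (U : T.left.Opens) (W : HilbD.Obj f (genus f) (opn T U)), t ∈ U ∧
      dC hf W = pull (PicF.XTmap f (opnHom T U)) c := by
  obtain ⟨L, hL, rfl⟩ := PicGrp.exists_eq_cls c
  rw [goodC_cls] at ht
  let π := PicF.XTproj f T
  have := hf.isProper_proj T
  have := hf.smooth_proj T
  obtain ⟨U, s, hUO, htU, -, hs⟩ := exists_gen_push hL ht
    (O := ⟨{z | GoodAt π L z}, isOpen_goodAt hL⟩) ht
  let j := PicF.XTmap f (opnHom T U)
  have h : (⊤ : (PicF.XT f (opn T U)).Opens) ≤ j ⁻¹ᵁ (π ⁻¹ᵁ U) := fun z _ => by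
    show π (j z) ∈ U
    rw [← Scheme.Hom.comp_apply, XTmap_snd]
    exact Subtype.prop _
  have hL' := Groth.PicAux.isInvertible_pullback j hL
  have hs' := fibNZ_opn U hs h
  have hfam := hf.isCurveFam (opn T U)
  obtain ⟨hC, hfin, hflat, hlfp⟩ := isFinLocFree_zero hfam hL' hs'
  have hgood : ∀ z, GoodAt (PicF.XTproj f (opn T U)) ((Scheme.Modules.pullback j).obj L) z := fun z => by
    have := hf.isProper_proj (opn T U)
    exact (goodAt_baseChange_iff (XTmap_sq f (opnHom T U)) hL z).2 (hUO z.2)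
  refine ⟨U, ⟨_, ⟨hfin, hflat, hlfp⟩, fun z => finrank_zero hfam hL' hs' z (genus f) (hgood z)
    (hf.euler_fiber (opn T U) z)⟩, htU, ?_⟩
  rw [pull_cls]
  exact (cls_eq_divCls hL' _ hC).symm

/-- Equal classes of good divisors give equal divisors. -/
theorem eq_of_dC_eq (hf : IsPtCurve f) {d : ℕ} {W W' : HilbD.Obj f d T}
    (hgood : ∀ t, GoodC (PicF.XTproj f T) (dC hf W) t) (h : dC hf W = dC hf W') : W.1 = W'.1 := by
  let π := PicF.XTproj f T
  have := hf.isProper_proj T
  have := hf.smooth_proj T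
  have := hf.smoothOne_proj T
  have := hf.geomInt_proj T
  have hW := (isEffCartierIdeal_of_finLocFree π W.2).1
  have hW' := (isEffCartierIdeal_of_finLocFree π W'.2).1
  obtain ⟨L, hL, s, hz, hc⟩ := exists_section hW
  obtain ⟨L', hL', s', hz', hc'⟩ := exists_section hW'
  obtain ⟨φ⟩ := (nonempty_iso_iff hL' hL).2 (hc'.trans (h.symm.trans hc.symm))
  have hz'' : zero L (φ.hom.app ⊤ s') = W'.1 := (zero_iso hL' hL φ s').trans hz'
  have hs : FibNZ (W := ⊤) π L s := fibNZ_of_zero π hL (hz ▸ W.2)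
  have hs' : FibNZ (W := ⊤) π L (φ.hom.app ⊤ s') := fibNZ_of_zero π hL (hz''.symm ▸ W'.2)
  have hg : ∀ t, GoodAt π L t := fun t => (goodC_cls π hL t).1 (hc.symm ▸ hgood t)
  choose U hU u htU hu hrel using fun t =>
    exists_unit_smul hL (W := ⊤) (t := t) trivial (hg t) hs hs'
  refine Groth.HilbPts.eq_of_pieces (f := f) (ptCover U htU) fun (t : T.left) => ?_
  let j := PicF.XTmap f (opnHom T (U t))
  have hj : (⊤ : (PicF.XT f (opn T (U t))).Opens) ≤ j ⁻¹ᵁ (π ⁻¹ᵁ U t) := fun z _ => by
    show π (j z) ∈ U t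
    rw [← Scheme.Hom.comp_apply, XTmap_snd]
    exact Subtype.prop _
  show HilbD.pull f (opnHom T (U t)) W.1 = HilbD.pull f (opnHom T (U t)) W'.1
  rw [Groth.CurveDiv.pull_eq_comap, Groth.CurveDiv.pull_eq_comap, ← hz, ← hz'', ← zero_pull _ hL,
    ← zero_pull _ hL]
  have key : ∀ x : Γ(L, (⊤ : (PicF.XT f T).Opens)),
      (show Γ((Scheme.Modules.pullback j).obj L, (⊤ : (PicF.XT f (opn T (U t))).Opens)) from
        pullSec j L x) = res _ hj (pullSec j L (res L (π.preimage_mono (hU t)) x)) := fun x => by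
    rw [← Groth.PicAux.res_pullSec j L (π.preimage_mono (hU t)), Groth.PicAux.res_res,
      Groth.PicAux.res_self]
  have e1 : (show Γ((Scheme.Modules.pullback j).obj L, (⊤ : (PicF.XT f (opn T (U t))).Opens)) from
        pullSec j L (φ.hom.app ⊤ s')) =
      resX _ hj (j.app _ (π.app (U t) (u t))) •
        (show Γ((Scheme.Modules.pullback j).obj L, (⊤ : (PicF.XT f (opn T (U t))).Opens)) from
          pullSec j L s) := by
    refine (key (φ.hom.app ⊤ s')).trans ?_
    rw [hrel t, Groth.PicAux.pullSec_smul, Groth.PicAux.res_smul]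
    exact congrArg (_ • ·) (key s).symm
  refine Eq.symm ((congrArg (zero _) e1).trans ?_)
  exact zero_smul_unit (Groth.PicAux.isInvertible_pullback j hL) _ ((((hu t).map _).map _).map _)

/-- Good divisors are determined by their normalised class. -/
theorem eq_of_norm_eq (hf : IsPtCurve f) {d : ℕ} {W W' : HilbD.Obj f d T}
    (hgood : ∀ t, GoodC (PicF.XTproj f T) (dC hf W) t)
    (h : norm f σ hσ T (dC hf W) = norm f σ hσ T (dC hf W')) : W.1 = W'.1 := by
  have e := eq_mul_base_of_norm h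
  choose U htU hd using fun t : T.left =>
    exists_trivializing (pull (PicF.secT f σ hσ T) (dC hf W * (dC hf W')⁻¹)) t
  refine Groth.HilbPts.eq_of_pieces (f := f) (ptCover U htU) fun (t : T.left) => ?_
  refine eq_of_dC_eq hf (W := Groth.HilbPts.pullObj (opnHom T (U t)) W)
    (W' := Groth.HilbPts.pullObj (opnHom T (U t)) W') (fun z => ?_) ?_
  · rw [← pull_dC, goodC_map_iff hf]
    exact hgood _
  · rw [← pull_dC, ← pull_dC, e, map_mul, pull_base_opn (U t) _ (hd t), mul_one]

end Groth.PicCurve
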