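import Groth.Agent.PicCurve.Good
import Groth.Agent.PicCurve.ZeroPull
import Groth.Agent.CurveDiv.RelCartier
import Groth.Agent.CurveDiv.Main
import Groth.Agent.Curves1.RR.Numerics
import Groth.Agent.ModelsGraphs.ExcPair
import Groth.Agent.ModelsGraphs.InterPair
import Groth.Agent.Misc3Fib.Basic
import Groth.Agent.Ega2Proj.Curve
import Groth.Agent.RefRank.CartierTwist
import Mathlib

/-!
# The divisor of a section which is nonzero on every fibre
-/

universe u

open CategoryTheory CategoryTheory.Limits AlgebraicGeometry TopologicalSpace Opposite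
open Groth.PicAux (Gen pullSec res)

set_option maxHeartbeats 1600000
set_option backward.isDefEq.respectTransparency false
set_option backward.defeqAttrib.useBackward true
set_option backward.isDefEq.respectTransparency.types false

namespace Groth.PicCurve

/-- A nonzero section on an integral curve has a finite zero scheme. -/
theorem finite_support_zero {Z : Scheme.{u}} [IsIntegral Z] [IsNoetherian Z]
    (hdim : topologicalKrullDim Z ≤ 1) {L : Z.Modules} (hL : PicF.IsInvertible L)
    {s : Γ(L, (⊤ : Z.Opens))} (hs : s ≠ 0) :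
    BlowUp.IsEffCartierIdeal (zero L s) ∧ ((zero L s).support : Set Z).Finite ∧
      ∀ x ∈ (zero L s).support, IsClosed ({x} : Set Z) := by
  have hC : BlowUp.IsEffCartierIdeal (zero L s) :=
    Groth.PicAux.isEffCartierIdeal_zeroScheme hL (regularSection_homOfSection hL hs)
  have hcl : ∀ x ∈ (zero L s).support, IsClosed ({x} : Set Z) := fun x hx =>
    Groth.ModelsGraphs.ExcPair.isClosed_singleton hdim fun h =>
      Groth.RefRank.CartierTwist.genericPoint_notMem_support hC (h ▸ hx)
  exact ⟨hC, Groth.Ega2Proj.finite_of_forall_isClosed_singleton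
    (zero L s).support.isClosed hcl, hcl⟩

/-- The length of the zero scheme is the degree of the bundle. -/
theorem finrank_quotMod_zero {K : Type u} [Field K] {Z : Scheme.{u}}
    [Z.Over (Spec (CommRingCat.of K))] [IsIntegral Z] [IsProper (Z ↘ Spec (CommRingCat.of K))]
    (hdim : topologicalKrullDim Z ≤ 1) {L : Z.Modules} (hL : PicF.IsInvertible L)
    {s : Γ(L, (⊤ : Z.Opens))} (hs : s ≠ 0) :
    (Module.finrank K (Coh.HH Z (ClSub.quotMod (zero L s)) 0) : ℤ) =
      Curv2.euler K Z L - Curv2.euler K Z (Coh.structureModule Z) := by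
  have := Groth.EulerDeg.isNoetherian_of_proper K Z
  obtain ⟨-, hfin, hcl⟩ := finite_support_zero hdim hL hs
  have hd : topologicalKrullDim ((zero L s).support : Set Z) ≤ 0 := by
    have := hfin.to_subtype
    have : T1Space ((zero L s).support : Set Z) := ⟨fun x => by
      have : ({x} : Set ((zero L s).support : Set Z)) = Subtype.val ⁻¹' {x.1} := by
        ext y; exact Subtype.ext_iff
      rw [this]; exact (hcl x.1 x.2).preimage continuous_subtype_val⟩
    have : DiscreteTopology ((zero L s).support : Set Z) := inferInstance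
    exact topologicalKrullDim_zero_of_discreteTopology _
  obtain ⟨-, -, -, he⟩ := Groth.Curves1.RR.ideal_twist K hL (zero L s) hd
  obtain ⟨e⟩ := Groth.PicAux.isInverseOf_symm
    (Groth.PicAux.isInverseOf_zeroScheme hL (regularSection_homOfSection hL hs))
  simp only [zero] at he ⊢
  rw [Groth.EulerDeg.euler_congr K e] at he
  omega

variable {Y T : Scheme.{u}} (π : Y ⟶ T)

/-- A flat proper family of integral curves. -/
structure IsCurveFam : Prop where
  proper : IsProper π
  flat : Flat π
  lfp : LocallyOfFinitePresentation π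
  geomInt : GeometricallyIntegral π
  dim : ∀ t, topologicalKrullDim (π.fiber t) ≤ 1

variable {π} {L : Y.Modules} {s : Γ(L, (⊤ : Y.Opens))}

theorem pullSec_fiber_ne_zero (hs : FibNZ (W := ⊤) π L s) (t : T) :
    (show Γ((Scheme.Modules.pullback (π.fiberι t)).obj L, (⊤ : (π.fiber t).Opens)) from
      pullSec (π.fiberι t) L s) ≠ 0 := hs t trivial

/-- The zero scheme of a fibrewise nonzero section is a relative effective Cartier divisor,
finite and of finite presentation over the base. -/
theorem isFinLocFree_zero (hπ : IsCurveFam π) (hL : PicF.IsInvertible L)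
    (hs : FibNZ (W := ⊤) π L s) :
    BlowUp.IsEffCartierIdeal (zero L s) ∧ IsFinite ((zero L s).subschemeι ≫ π) ∧
      Flat ((zero L s).subschemeι ≫ π) ∧
      LocallyOfFinitePresentation ((zero L s).subschemeι ≫ π) := by
  obtain ⟨_, _, _, _, hdim⟩ := hπ
  set I := zero L s
  have hfib : ∀ t, I.comap (π.fiberι t) =
      zero ((Scheme.Modules.pullback (π.fiberι t)).obj L) (pullSec (π.fiberι t) L s) := fun t =>
    (zero_pull (π.fiberι t) hL s).symm
  have key : ∀ t, BlowUp.IsEffCartierIdeal (I.comap (π.fiberι t)) ∧
      ((I.comap (π.fiberι t)).support : Set (π.fiber t)).Finite := by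
    intro t
    letI : (π.fiber t).Over (Spec (CommRingCat.of (T.residueField t))) :=
      ⟨π.fiberToSpecResidueField t⟩
    have : IsProper (π.fiber t ↘ Spec (CommRingCat.of (T.residueField t))) :=
      MorphismProperty.pullback_snd _ _ ‹IsProper π›
    have := Groth.EulerDeg.isNoetherian_of_proper (T.residueField t) (π.fiber t)
    obtain ⟨h1, h2, -⟩ := finite_support_zero (hdim t) (Groth.PicAux.isInvertible_pullback _ hL)
      (pullSec_fiber_ne_zero hs t)
    exact hfib t ▸ ⟨h1, h2⟩
  obtain ⟨hC, hflat⟩ := Groth.CurveDiv.relEffCartier_of_locPrincipal π (isLocPrincipal_zero hL s)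
    fun t => (key t).1
  have : LocallyOfFinitePresentation I.subschemeι := Groth.Flatmor4.lfp_of_ker_fg _ fun V => by
    simpa using Groth.BlowUpBasics.fg_of_isEffCartierIdeal hC V
  have : LocallyQuasiFinite (I.subschemeι ≫ π) := by
    refine .of_finite_preimage_singleton _ fun t => ?_
    refine Set.Finite.of_finite_image ?_ I.subschemeι.isClosedEmbedding.injective.injOn
    refine (((key t).2).image (π.fiberι t)).subset ?_
    rintro _ ⟨z, hz, rfl⟩
    obtain ⟨w, hw⟩ : I.subschemeι z ∈ Set.range (π.fiberι t) := by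
      rw [Scheme.Hom.range_fiberι]; exact hz
    refine ⟨w, ?_, hw⟩
    rw [Scheme.IdealSheafData.support_comap]
    show π.fiberι t w ∈ I.support
    rw [hw]
    exact (Scheme.IdealSheafData.range_subschemeι I).le ⟨z, rfl⟩
  exact ⟨hC, IsFinite.of_isProper_of_locallyQuasiFinite _, hflat, inferInstance⟩

/-- The degree of the divisor of a section. -/
theorem finrank_zero (hπ : IsCurveFam π) (hL : PicF.IsInvertible L)
    (hs : FibNZ (W := ⊤) π L s) (t : T) (g : ℕ) (ht : GoodAt π L t)
    (hg : letI : (π.fiber t).Over (Spec (CommRingCat.of (T.residueField t))) :=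
        ⟨π.fiberToSpecResidueField t⟩
      Curv2.euler (T.residueField t) (π.fiber t) (Coh.structureModule (π.fiber t)) = 1 - g) :
    ((zero L s).subschemeι ≫ π).finrank t = g := by
  obtain ⟨-, _, _, -⟩ := isFinLocFree_zero hπ hL hs
  obtain ⟨_, _, _, _, hdim⟩ := hπ
  set I := zero L s
  set J := I.comap (π.fiberι t)
  let p := π.fiberToSpecResidueField t
  letI : (π.fiber t).Over (Spec (CommRingCat.of (T.residueField t))) := ⟨p⟩
  have hp : IsProper p := MorphismProperty.pullback_snd _ _ ‹IsProper π›
  have : IsProper (π.fiber t ↘ Spec (CommRingCat.of (T.residueField t))) := hp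
  have := Groth.EulerDeg.isNoetherian_of_proper (T.residueField t) (π.fiber t)
  have hsq : IsPullback ((I.comapIso (π.fiberι t)).hom ≫ pullback.snd _ _) (J.subschemeι ≫ p)
      (I.subschemeι ≫ π) (T.fromSpecResidueField t) := by
    refine IsPullback.paste_vert (h₂₁ := π.fiberι t) (v₁₁ := J.subschemeι) (v₁₂ := I.subschemeι)
      ?_ (IsPullback.of_hasPullback _ _)
    exact (IsPullback.of_hasPullback (π.fiberι t) I.subschemeι).flip.of_iso
      (I.comapIso (π.fiberι t)).symm (Iso.refl _) (Iso.refl _) (Iso.refl _)
      (by rw [Iso.refl_hom, Category.comp_id, Iso.symm_hom, Iso.inv_hom_id_assoc])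
      (by rw [Iso.refl_hom, Category.comp_id, Iso.symm_hom,
        Scheme.IdealSheafData.comapIso_inv_subschemeι])
      (by simp) (by simp)
  have hJfin : IsFinite (J.subschemeι ≫ p) := MorphismProperty.of_isPullback hsq ‹_›
  have hJ : J = zero ((Scheme.Modules.pullback (π.fiberι t)).obj L) (pullSec (π.fiberι t) L s) :=
    (zero_pull (π.fiberι t) hL s).symm
  have h1 := finrank_quotMod_zero (K := T.residueField t) (hdim t)
    (Groth.PicAux.isInvertible_pullback (π.fiberι t) hL) (pullSec_fiber_ne_zero hs t)
  rw [← hJ, Groth.ModelsGraphs.InterPair.finrank_quotMod] at h1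
  have h2 : (J.subschemeι ≫ p).finrank (IsLocalRing.closedPoint (T.residueField t)) =
      (I.subschemeι ≫ π).finrank t := by
    rw [Scheme.Hom.finrank_of_isPullback _ _ _ _ hsq, Scheme.fromSpecResidueField_apply]
  rw [← h2, ← Groth.Misc3Fib.deg_eq_finrank]
  have h3 : Curv2.euler (T.residueField t) (π.fiber t)
      ((Scheme.Modules.pullback (π.fiberι t)).obj L) = 1 := by
    rw [Groth.EulerDeg.euler_eq_sub fun n hn =>
      Groth.EulerDeg.subsingleton_HH_of_dim_le_one _ (hdim t) _ n hn]
    have h0 : Module.finrank (T.residueField t) (CohIII.fiberH π L t 0) = 1 := ht.2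
    have := ht.1
    have e1 : Module.finrank (T.residueField t) (CohIII.fiberH π L t 1) = 0 :=
      Module.finrank_zero_of_subsingleton
    exact_mod_cast show ((Module.finrank (T.residueField t) (CohIII.fiberH π L t 0) : ℤ) -
      (Module.finrank (T.residueField t) (CohIII.fiberH π L t 1) : ℤ)) = 1 by rw [h0, e1]; norm_num
  rw [h3, hg] at h1
  exact_mod_cast (show (Groth.ModelsGraphs.InterPair.dimGl (J.subschemeι ≫ p) : ℤ) = g by
    simp only [p] at *; linarith [show (Groth.ModelsGraphs.InterPair.dimGl (J.subschemeι ≫ π.fiberToSpecResidueField t) : ℤ) = 1 - (1 - (g : ℤ)) from h1])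

end Groth.PicCurve
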