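import Groth.Agent.PicCurve.RelDeg
import Groth.Agent.PicCurve.DivOfSection
import Groth.Agent.SmoothWeil.Geom
import Groth.Agent.GrpschAbsch.FibreFlat
import Mathlib

/-!
# The Abel map of an elliptic curve
-/

universe u

open CategoryTheory CategoryTheory.Limits AlgebraicGeometry TopologicalSpace Opposite
open Groth.Abvar.PicCalc
open Groth.PicAux (pullSec res)

set_option maxHeartbeats 1600000
set_option backward.isDefEq.respectTransparency false
set_option backward.defeqAttrib.useBackward true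
set_option backward.isDefEq.respectTransparency.types false

namespace Groth.PicCurve

section family

variable {X T : Scheme.{u}} (π : X ⟶ T)

/-- The fibres of a restriction to an open of the base are the fibres. -/
theorem isIso_fiber_restrict {X' : Scheme.{u}} {V : T.Opens} {π' : X' ⟶ V} {j : X' ⟶ X}
    (hsq : IsPullback j π' π V.ι) (t : V) :
    ∃ m : π'.fiber t ⟶ π.fiber (V.ι t), IsIso m ∧ m ≫ π.fiberι _ = π'.fiberι t ≫ j := by
  let r := Spec.map (V.ι.residueFieldMap t)
  have hbig := (IsPullback.of_hasPullback π' ((V : Scheme.{u}).fromSpecResidueField t)).paste_horiz hsq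
  have hr : r ≫ T.fromSpecResidueField _ = (V : Scheme.{u}).fromSpecResidueField t ≫ V.ι :=
    Scheme.Hom.SpecMap_residueFieldMap_fromSpecResidueField _ _
  let m : π'.fiber t ⟶ π.fiber (V.ι t) :=
    pullback.lift (π'.fiberι t ≫ j) (π'.fiberToSpecResidueField t ≫ r)
      (by rw [Category.assoc (_ : π'.fiber t ⟶ _) r, hr]; exact hbig.w)
  refine ⟨m, ?_, pullback.lift_fst _ _ _⟩
  have hsq' : IsPullback m (π'.fiberToSpecResidueField t)
      (π.fiberToSpecResidueField (V.ι t)) r := by
    refine IsPullback.of_right (h₁₂ := π.fiberι (V.ι t))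
      (h₂₂ := T.fromSpecResidueField (V.ι t)) (v₁₃ := π) ?_
      (pullback.lift_snd _ _ _) (IsPullback.of_hasPullback _ _)
    rw [hr, show m ≫ π.fiberι (V.ι t) = _ from pullback.lift_fst _ _ _]
    exact hbig
  exact hsq'.isIso_fst_of_isIso

/-- Restricting to an open of the base keeps sections nonzero on the fibres. -/
theorem fibNZ_restrict {X' : Scheme.{u}} {V : T.Opens} {π' : X' ⟶ V} {j : X' ⟶ X}
    (hsq : IsPullback j π' π V.ι) {L : X.Modules} {s : Γ(L, π ⁻¹ᵁ V)} (hs : FibNZ π L s)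
    (h : (⊤ : X'.Opens) ≤ j ⁻¹ᵁ (π ⁻¹ᵁ V)) :
    FibNZ (W := ⊤) π' ((Scheme.Modules.pullback j).obj L) (res _ h (pullSec j L s)) := by
  intro t _ h0
  obtain ⟨m, hm, hcomm⟩ := isIso_fiber_restrict π hsq t
  let ι' := π'.fiberι t
  let ι := π.fiberι (V.ι t)
  have h1 : pullSec (ι' ≫ j) L s = 0 := by
    rw [← Groth.PicAux.pullSec_comp ι' j L s]
    have h2 : pullSec ι' _ (pullSec j L s) = 0 := by
      refine (Groth.PicCurve.Glue.res_bijective_of_eq
        (show ι' ⁻¹ᵁ (j ⁻¹ᵁ (π ⁻¹ᵁ V)) = ι' ⁻¹ᵁ ⊤ by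
          rw [top_le_iff.1 h]) (ι'.preimage_mono h)).1 ?_
      rw [Groth.PicAux.res_zero, Groth.PicAux.res_pullSec ι' _ h]
      exact h0
    rw [h2, map_zero]
  have h3 : pullSec (m ≫ ι) L s = 0 := by
    have : ∀ (a b : π'.fiber t ⟶ X) (_ : a = b), pullSec a L s = 0 → pullSec b L s = 0 := by
      rintro a b rfl h; exact h
    exact this _ _ hcomm.symm h1
  have h4 : pullSec m _ (pullSec ι L s) = 0 := by
    have hb := ConcreteCategory.bijective_of_isIso
      (((Scheme.Modules.pullbackComp m ι).hom.app L).app (m ⁻¹ᵁ (ι ⁻¹ᵁ (π ⁻¹ᵁ V))))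
    refine hb.1 ?_
    rw [Groth.PicAux.pullSec_comp m ι L s, h3, map_zero]
  refine hs _ t.2 ((Groth.PicCurve.Glue.pullSec_bijective m _
    (by rw [Scheme.Hom.opensRange_of_isIso]; exact le_top)).1 (h4.trans ?_))
  exact (map_zero (((Scheme.Modules.pullbackPushforwardAdjunction m).unit.app _).app _).hom).symm

variable [IsProper π] [Smooth π] [GeometricallyConnected π]
  (hdim : ∀ t : T, topologicalKrullDim ↥(π.fiber t) = 1)
  (hg : ∀ t : T, CohIII.fiberRank π (Coh.structureModule X) 1 t = 1)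

include hdim in
theorem isCurveFam_of_smooth : IsCurveFam π := by
  have := Groth.GrpschAbsch.FibreFlat.geometricallyReduced_of_smooth π
  have := Groth.SmoothWeil.geometricallyIrreducible_of_connected π
  exact ⟨‹_›, inferInstance, inferInstance,
    GeometricallyIntegral.of_geometricallyReduced_of_geometricallyIrreducible π,
    fun t => (hdim t).le⟩

include hdim hg in
/-- A class of degree one is, near every point of the base, the class of a section. -/
theorem exists_section_near (c : PicLoc.PicSet X) (hc : ∀ t, degC π c t = 1) (t₀ : T) :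
    ∃ (V : T.Opens) (_ : t₀ ∈ V) (γ : (V : Scheme.{u}) ⟶ pullback π V.ι)
      (_ : γ ≫ pullback.snd π V.ι = 𝟙 _) (hI : BlowUp.IsEffCartierIdeal γ.ker),
      pull (pullback.fst π V.ι) c = divCls hI := by
  obtain ⟨L, hL, rfl⟩ := PicGrp.exists_eq_cls c
  have hgood : ∀ t, GoodAt π L t := fun t =>
    (goodC_cls π hL t).1 (goodC_of_degC π hdim _ t (hg t) (hc t))
  obtain ⟨V, s, -, htV, -, hs⟩ := exists_gen_push hL (hgood t₀)
    (O := ⊤) (Set.mem_univ t₀)
  let π' := pullback.snd π V.ι
  let j := pullback.fst π V.ι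
  have hsq : IsPullback j π' π V.ι := IsPullback.of_hasPullback _ _
  have h : (⊤ : (pullback π V.ι).Opens) ≤ j ⁻¹ᵁ (π ⁻¹ᵁ V) := fun z _ => by
    show π (j z) ∈ V
    rw [← Scheme.Hom.comp_apply, hsq.w]
    exact Subtype.prop _
  have : IsProper π' := MorphismProperty.pullback_snd (P := @IsProper) _ _ ‹_›
  have : Smooth π' := MorphismProperty.pullback_snd (P := @Smooth) _ _ ‹_›
  have : GeometricallyConnected π' :=
    MorphismProperty.pullback_snd (P := @GeometricallyConnected) _ _ ‹_›
  have hdim' : ∀ z, topologicalKrullDim ↥(π'.fiber z) = 1 := fun z => by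
    rw [dim_fiber_of_isPullback hsq z]; exact hdim _
  have hfam := isCurveFam_of_smooth π' hdim'
  have hs' := fibNZ_restrict π hsq hs h
  have hL' := Groth.PicAux.isInvertible_pullback j hL
  obtain ⟨hC, hfin, hflat, hlfp⟩ := isFinLocFree_zero hfam hL' hs'
  let I := zero ((Scheme.Modules.pullback j).obj L) (res _ h (pullSec j L s))
  have hrank : ∀ z, (I.subschemeι ≫ π').finrank z = 1 := fun z => by
    refine finrank_zero hfam hL' hs' z 1 ((goodAt_baseChange_iff hsq hL z).2 (hgood _)) ?_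
    obtain ⟨hint, hp, h0⟩ := Groth.Limits.BC0.fiber_curve π' hdim' z
    letI : (π'.fiber z).Over (Spec (CommRingCat.of ((V : Scheme.{u}).residueField z))) :=
      ⟨π'.fiberToSpecResidueField z⟩
    have := Groth.EulerDeg.isNoetherian_of_proper ((V : Scheme.{u}).residueField z) (X := π'.fiber z)
    rw [Groth.EulerDeg.euler_eq_sub fun n hn =>
      Groth.EulerDeg.subsingleton_HH_of_dim_le_one _ (hdim' z).le _ n hn, h0]
    have h1 : Curv2.genus ((V : Scheme.{u}).residueField z) (π'.fiber z) = 1 := by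
      rw [Groth.Limits.BC0.genus_fiber π' z]
      obtain ⟨e⟩ := Groth.PicAux.pullback_structure_iso j
      have := (model_hyps (π := π) (L := Coh.structureModule X)
        (PicLoc.isInvertible_structureModule X)).1
      refine Eq.trans ?_ (hg (V.ι z))
      refine Eq.trans ?_ (Groth.CohTwo.betti_baseChange hsq (Coh.structureModule X) z 1)
      exact (Groth.EulerDeg.finrank_congr (k := (V : Scheme.{u}).residueField z)
        ((Scheme.Modules.pullback (π'.fiberι z)).mapIso e) 1).symm
    rw [show Module.finrank _ (Coh.HH (π'.fiber z) (Coh.structureModule _) 1) = 1 from h1]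
    norm_num
  have : IsIso (I.subschemeι ≫ π') := by
    obtain ⟨_, _, _⟩ := (⟨hfin, hflat, hlfp⟩ :
      IsFinite (I.subschemeι ≫ π') ∧ Flat (I.subschemeι ≫ π') ∧
        LocallyOfFinitePresentation (I.subschemeι ≫ π'))
    exact (Scheme.Hom.isIso_iff_finrank_eq (I.subschemeι ≫ π')).2 (funext hrank)
  let γ := inv (I.subschemeι ≫ π') ≫ I.subschemeι
  have hγ : γ ≫ π' = 𝟙 _ := by
    rw [Category.assoc]; exact IsIso.inv_hom_id _
  have hker : γ.ker = I := by
    rw [Scheme.Hom.ker_comp_of_isIso, Scheme.IdealSheafData.ker_subschemeι]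
  refine ⟨V, htV, γ, hγ, hker.symm ▸ hC, ?_⟩
  rw [pull_cls]
  exact (cls_eq_divCls hL' _ hC).trans (divCls_congr hker.symm hC _)

end family

section elliptic

variable {E S : Scheme.{u}} {f : E ⟶ S} [IsProper f] [Smooth f] [GeometricallyConnected f]
  (hdim : ∀ s : S, topologicalKrullDim ↥(f.fiber s) = 1)
  (hg : ∀ s : S, CohIII.fiberRank f (Coh.structureModule E) 1 s = 1)
  {LΔ : (PicF.XT f (Over.mk f)).Modules} (hLΔ : PicF.IsInvertible LΔ)
  (hΔ : ClSub.IsInverseOf LΔ (ClSub.idealMod (pullback.diagonal f).ker))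
  {e : S ⟶ E} (he : e ≫ f = 𝟙 S) (hIe : BlowUp.IsEffCartierIdeal e.ker)

/-- `O(e)` on a base change. -/
noncomputable def baseCls (T : Over S) : PicLoc.PicSet (PicF.XT f T) :=
  pull (pullback.fst f T.hom) (divCls hIe)

theorem baseCls_map {T T' : Over S} (g : T' ⟶ T) :
    pull (PicF.XTmap f g) (baseCls (f := f) hIe T) = baseCls hIe T' := by
  rw [baseCls, ← pull_comp, XTmap_fst]
  rfl

/-- The class of a point. -/
noncomputable def ptCls {T : Over S} (x : T ⟶ Over.mk f) : PicLoc.PicSet (PicF.XT f T) :=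
  pull (PicF.XTmap f x) (cls hLΔ)

/-- The class `O(Δ) ⊗ O(e)⁻¹`. -/
noncomputable def abelCls : PicLoc.PicSet (PicF.XT f (Over.mk f)) :=
  cls hLΔ * (baseCls hIe (Over.mk f))⁻¹

theorem pull_abelCls {T : Over S} (x : T ⟶ Over.mk f) :
    pull (PicF.XTmap f x) (abelCls hLΔ hIe) = ptCls hLΔ x * (baseCls hIe T)⁻¹ := by
  rw [abelCls, map_mul, map_inv, baseCls_map]
  rfl

theorem family_hyps (T : Over S) : IsProper (PicF.XTproj f T) ∧ Smooth (PicF.XTproj f T) ∧
    GeometricallyConnected (PicF.XTproj f T) :=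
  ⟨MorphismProperty.pullback_snd (P := @IsProper) _ _ ‹_›,
    MorphismProperty.pullback_snd (P := @Smooth) _ _ ‹_›,
    MorphismProperty.pullback_snd (P := @GeometricallyConnected) _ _ ‹_›⟩

omit [Smooth f] [GeometricallyConnected f] in
include hdim in
theorem family_dim (T : Over S) (t : T.left) :
    topologicalKrullDim ↥((PicF.XTproj f T).fiber t) = 1 := by
  rw [dim_fiber_of_isPullback (IsPullback.of_hasPullback f T.hom) t]; exact hdim _

include hdim he in
theorem degC_baseCls (T : Over S) (t : T.left) : degC (PicF.XTproj f T) (baseCls hIe T) t = 1 := by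
  rw [baseCls, degC_baseChange f (IsPullback.of_hasPullback f T.hom)]
  exact degC_divCls_section f hdim he hIe _

include hdim hΔ in
theorem ptCls_eq {T : Over S} (x : T ⟶ Over.mk f)
    (hJ : BlowUp.IsEffCartierIdeal (graph f x).ker) : ptCls hLΔ x = divCls hJ := by
  obtain ⟨ψ⟩ := Groth.PicAux.isInverseOf_symm (inverse_graph f hdim hLΔ hΔ x)
  rw [ptCls, pull_cls]
  exact (PicGrp.cls_inv_eq_cls (Groth.PicAux.isInvertible_idealMod hJ) _ ⟨ψ⟩).symm

include hdim hΔ in
theorem degC_ptCls {T : Over S} (x : T ⟶ Over.mk f) (t : T.left) :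
    degC (PicF.XTproj f T) (ptCls hLΔ x) t = 1 := by
  obtain ⟨_, _, _⟩ := family_hyps (f := f) T
  obtain ⟨-, hJ⟩ := Groth.Limits.BC0.CurveSection.isEffCartier_ker (PicF.XTproj f T)
    (family_dim hdim T) (graph f x) (pullback.lift_snd _ _ _)
  rw [ptCls_eq hdim hLΔ hΔ x hJ]
  exact degC_divCls_section _ (family_dim hdim T) (pullback.lift_snd _ _ _) hJ t

include hdim in
/-- A class lies in `Pic⁰` exactly when it has degree zero on every fibre. -/
theorem isPicZeroCl_iff (T : Over S) (a : PicLoc.PicSet (PicF.XT f T)) :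
    AbDual.IsPicZeroCl f T a.1 ↔ ∀ t, degC (PicF.XTproj f T) a t = 0 := by
  obtain ⟨_, _, _⟩ := family_hyps (f := f) T
  constructor
  · rintro ⟨L, hL, hinv, hz⟩ t
    obtain rfl : a = cls hinv := Subtype.ext hL.symm
    exact (isAlgTrivialAt_iff _ (family_dim hdim T) hinv t).1 (hz t)
  · intro h
    obtain ⟨L, hL, rfl⟩ := PicGrp.exists_eq_cls a
    exact ⟨L, rfl, hL, fun t => (isAlgTrivialAt_iff _ (family_dim hdim T) hL t).2 (h t)⟩

include hdim hΔ he in
theorem degC_abel {T : Over S} (x : T ⟶ Over.mk f) (t : T.left) :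
    degC (PicF.XTproj f T) (pull (PicF.XTmap f x) (abelCls hLΔ hIe)) t = 0 := by
  obtain ⟨_, _, _⟩ := family_hyps (f := f) T
  rw [pull_abelCls, degC_mul _ (family_dim hdim T), degC_inv _ (family_dim hdim T),
    degC_ptCls hdim hLΔ hΔ, degC_baseCls hdim he]
  norm_num

variable {P₀ : Over S} {φ₀ : ∀ T : Over S, PicF.Cl (PicF.XT f T) → (T ⟶ P₀)}
  (hP₀ : AbDual.IsRelPicZeroK Scheme.fppfPrecoverage f P₀ φ₀)

include hdim hP₀ in
theorem natural_pull {T T' : Over S} (g : T' ⟶ T) {a : PicLoc.PicSet (PicF.XT f T)}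
    (ha : ∀ t, degC (PicF.XTproj f T) a t = 0) :
    φ₀ T' (pull (PicF.XTmap f g) a).1 = g ≫ φ₀ T a.1 :=
  hP₀.natural T T' g a.1 ((isPicZeroCl_iff hdim T a).2 ha)

include hdim hΔ he in
theorem isPicZeroCl_abel : AbDual.IsPicZeroCl f (Over.mk f) (abelCls hLΔ hIe).1 := by
  refine (isPicZeroCl_iff hdim _ _).2 fun t => ?_
  have := degC_abel hdim hLΔ hΔ he hIe (𝟙 (Over.mk f)) t
  rwa [show PicF.XTmap f (𝟙 (Over.mk f)) = 𝟙 _ by
    apply pullback.hom_ext
    · rw [XTmap_fst, Category.id_comp]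
    · rw [XTmap_snd, Category.id_comp]; exact Category.comp_id _, pull_id] at this

include hdim hg hΔ he hP₀ in
theorem mono_abel : Mono (φ₀ (Over.mk f) (abelCls hLΔ hIe).1).left := by
  refine ⟨fun {Z} a b hab => ?_⟩
  let g := φ₀ (Over.mk f) (abelCls hLΔ hIe).1
  let T : Over S := Over.mk (a ≫ f)
  have hb : b ≫ f = a ≫ f := by
    have h1 := congrArg (· ≫ P₀.hom) hab
    simp only [Category.assoc] at h1
    erw [Over.w g] at h1
    exact h1.symm
  let x : T ⟶ Over.mk f := Over.homMk a rfl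
  let y : T ⟶ Over.mk f := Over.homMk b hb
  have hz := isPicZeroCl_abel hdim hLΔ hΔ he hIe
  have hx : φ₀ T (pull (PicF.XTmap f x) (abelCls hLΔ hIe)).1 =
      φ₀ T (pull (PicF.XTmap f y) (abelCls hLΔ hIe)).1 := by
    rw [show (pull (PicF.XTmap f x) (abelCls hLΔ hIe)).1 = PicF.pullCl _ (abelCls hLΔ hIe).1 from rfl,
      show (pull (PicF.XTmap f y) (abelCls hLΔ hIe)).1 = PicF.pullCl _ (abelCls hLΔ hIe).1 from rfl,
      hP₀.natural _ _ x _ hz, hP₀.natural _ _ y _ hz]
    ext1
    exact hab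
  obtain ⟨R, hR, hRc⟩ := hP₀.locallyInjective T _ _
    ((isPicZeroCl_iff hdim T _).2 (degC_abel hdim hLΔ hΔ he hIe x))
    ((isPicZeroCl_iff hdim T _).2 (degC_abel hdim hLΔ hΔ he hIe y)) hx
  refine hom_ext_of_fppfCover hR a b fun U u hu => ?_
  have h1 : pull (PicF.XTmap f (AbDual.ovrHom T u)) (pull (PicF.XTmap f x) (abelCls hLΔ hIe)) =
      pull (PicF.XTmap f (AbDual.ovrHom T u)) (pull (PicF.XTmap f y) (abelCls hLΔ hIe)) :=
    Subtype.ext (hRc u hu)
  rw [← pull_comp, ← pull_comp, ← XTmap_comp', ← XTmap_comp', pull_abelCls, pull_abelCls,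
    mul_left_inj] at h1
  exact congrArg (fun m => m.left) (eq_of_pullCl_eq f hdim (fun s => (hg s).ge) hLΔ hΔ
    (AbDual.ovrHom T u ≫ x) (AbDual.ovrHom T u ≫ y) (congrArg Subtype.val h1))

include hdim hg hΔ he hP₀ in
theorem exists_point {T : Over S} (a : PicLoc.PicSet (PicF.XT f T))
    (ha : ∀ t, degC (PicF.XTproj f T) a t = 0) :
    ∃ x : T.left ⟶ E, x ≫ (φ₀ (Over.mk f) (abelCls hLΔ hIe).1).left = (φ₀ T a.1).left := by
  let g := φ₀ (Over.mk f) (abelCls hLΔ hIe).1
  have hmono := mono_abel hdim hg hLΔ hΔ he hIe hP₀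
  obtain ⟨_, _, _⟩ := family_hyps (f := f) T
  let π := PicF.XTproj f T
  let c := a * baseCls hIe T
  have hc : ∀ t, degC π c t = 1 := fun t => by
    rw [degC_mul _ (family_dim hdim T), ha t, degC_baseCls hdim he, zero_add]
  have hgT : ∀ t, CohIII.fiberRank π (Coh.structureModule _) 1 t = 1 := fun t => by
    obtain ⟨i⟩ := Groth.PicAux.pullback_structure_iso (pullback.fst f T.hom)
    have := (model_hyps (π := f) (L := Coh.structureModule E)
      (PicLoc.isInvertible_structureModule E)).1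
    refine Eq.trans ?_ ((Groth.CohTwo.betti_baseChange (IsPullback.of_hasPullback f T.hom)
      (Coh.structureModule E) t 1).trans (hg _))
    letI : (π.fiber t).Over (Spec (CommRingCat.of (T.left.residueField t))) :=
      ⟨π.fiberToSpecResidueField t⟩
    exact (Groth.EulerDeg.finrank_congr (k := T.left.residueField t)
      ((Scheme.Modules.pullback (π.fiberι t)).mapIso i) 1).symm
  -- local sections
  have loc : ∀ t₀ : T.left, ∃ V : T.left.Opens, t₀ ∈ V ∧
      ∃ x : (V : Scheme.{u}) ⟶ E, x ≫ g.left = V.ι ≫ (φ₀ T a.1).left := fun t₀ => by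
    obtain ⟨V, htV, γ, hγ, hI, hcγ⟩ := exists_section_near π (family_dim hdim T) hgT c hc t₀
    refine ⟨V, htV, γ ≫ pullback.fst π V.ι ≫ pullback.fst f T.hom, ?_⟩
    let TV : Over S := Over.mk (V.ι ≫ T.hom)
    let u : TV ⟶ T := Over.homMk V.ι rfl
    let x : TV ⟶ Over.mk f := Over.homMk (γ ≫ pullback.fst π V.ι ≫ pullback.fst f T.hom) (by
      show (γ ≫ pullback.fst π V.ι ≫ pullback.fst f T.hom) ≫ f = V.ι ≫ T.hom
      rw [Category.assoc, Category.assoc, pullback.condition, pullback.condition_assoc,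
        reassoc_of% hγ])
    -- the comparison of the two descriptions of the restricted family
    let i : pullback π V.ι ⟶ PicF.XT f TV :=
      pullback.lift (pullback.fst π V.ι ≫ pullback.fst f T.hom) (pullback.snd π V.ι) (by
        rw [Category.assoc, pullback.condition, pullback.condition_assoc]; rfl)
    have hfst : i ≫ PicF.XTmap f u = pullback.fst π V.ι := by
      apply pullback.hom_ext
      · rw [Category.assoc, XTmap_fst, pullback.lift_fst]
      · rw [Category.assoc, XTmap_snd, pullback.lift_snd_assoc, pullback.condition]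
        rfl
    have hsq : IsPullback i (pullback.snd π V.ι) (PicF.XTproj f TV) (𝟙 _) := by
      refine IsPullback.of_right (h₁₂ := PicF.XTmap f u) (h₂₂ := V.ι) (v₁₃ := π) ?_
        (by rw [Category.comp_id]; exact pullback.lift_snd _ _ _) (XTmap_sq f u)
      rw [hfst, Category.id_comp]
      exact IsPullback.of_hasPullback π V.ι
    have : IsIso i := hsq.isIso_fst_of_isIso
    have hgr : graph f x = γ ≫ i := by
      apply pullback.hom_ext
      · rw [pullback.lift_fst, Category.assoc, pullback.lift_fst]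
        rfl
      · rw [pullback.lift_snd, Category.assoc, pullback.lift_snd, hγ]
        rfl
    obtain ⟨_, _, _⟩ := family_hyps (f := f) TV
    obtain ⟨-, hJ⟩ := Groth.Limits.BC0.CurveSection.isEffCartier_ker (PicF.XTproj f TV)
      (family_dim hdim TV) (graph f x) (pullback.lift_snd _ _ _)
    have hcomap : (graph f x).ker.comap i = γ.ker := by
      have : IsClosedImmersion (graph f x) := by
        have : IsClosedImmersion (graph f x ≫ PicF.XTproj f TV) := by
          rw [pullback.lift_snd]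
          exact (inferInstance : IsClosedImmersion (𝟙 TV.left))
        exact IsClosedImmersion.of_comp (graph f x) (PicF.XTproj f TV)
      have sq : IsPullback γ (𝟙 _) i (graph f x) := by
        rw [hgr]
        exact IsPullback.of_vert_isIso ⟨by simp⟩
      exact (Groth.AdicLinTop.Thickenings.ker_eq_comap_of_isPullback sq).symm
    have hxc : ptCls hLΔ x = pull (PicF.XTmap f u) c := by
      rw [ptCls_eq hdim hLΔ hΔ x hJ]
      have hbij : Function.Injective (pull i) := fun p q h => by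
        have := congrArg (pull (inv i)) h
        rwa [← pull_comp, ← pull_comp, IsIso.inv_hom_id, pull_id, pull_id] at this
      refine hbij ?_
      rw [← pull_comp, hfst, hcγ,
        pull_divCls i hJ (hcomap.symm ▸ hI)]
      exact divCls_congr hcomap _ _
    have key : pull (PicF.XTmap f x) (abelCls hLΔ hIe) = pull (PicF.XTmap f u) a := by
      rw [pull_abelCls, hxc, map_mul, baseCls_map, mul_inv_cancel_right]
    have h := congrArg (fun b : PicLoc.PicSet _ => φ₀ TV b.1) key
    simp only [natural_pull hdim hP₀ u ha,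
      hP₀.natural _ _ x _ (isPicZeroCl_abel hdim hLΔ hΔ he hIe),
      show (pull (PicF.XTmap f x) (abelCls hLΔ hIe)).1 =
        PicF.pullCl (PicF.XTmap f x) (abelCls hLΔ hIe).1 from rfl] at h
    exact congrArg (fun m => m.left) h
  choose V htV x hx using loc
  let 𝒰 : Scheme.OpenCover.{u} T.left := Scheme.Cover.mkOfCovers (↥T.left)
    (fun t => (V t : Scheme.{u})) (fun t => (V t).ι)
    (fun t => ⟨t, ⟨t, htV t⟩, rfl⟩) fun _ => inferInstance
  refine ⟨𝒰.glueMorphisms x fun i j => ?_, 𝒰.hom_ext _ _ fun i => ?_⟩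
  · rw [← cancel_mono g.left, Category.assoc, Category.assoc, hx, hx]
    exact pullback.condition_assoc _
  · rw [← Category.assoc, 𝒰.ι_glueMorphisms]
    exact hx i

include hdim hg hΔ he hP₀ in
theorem isIso_abel : IsIso (φ₀ (Over.mk f) (abelCls hLΔ hIe).1).left := by
  let g := φ₀ (Over.mk f) (abelCls hLΔ hIe).1
  have hmono : Mono g.left := mono_abel hdim hg hLΔ hΔ he hIe hP₀
  obtain ⟨R, hR, hRc⟩ := hP₀.locallySurjective P₀ (𝟙 P₀)
  have hlift : ∀ ⦃U : Scheme.{u}⦄ (u : U ⟶ P₀.left), R u → ∃ x : U ⟶ E, x ≫ g.left = u := by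
    intro U u hu
    obtain ⟨c, hc, hcu⟩ := hRc u hu
    have hc' := hc
    obtain ⟨L, rfl, hL, -⟩ := hc'
    obtain ⟨x, hx⟩ := exists_point hdim hg hLΔ hΔ he hIe hP₀ (cls hL)
      ((isPicZeroCl_iff hdim _ _).1 hc)
    refine ⟨x, hx.trans ?_⟩
    refine Eq.trans (congrArg (fun m => m.left) hcu) ?_
    simp [AbDual.ovrHom]
  choose x hx using hlift
  have hs : Presieve.IsSheafFor (yoneda.obj E) R :=
    (Presieve.isSheafFor_iff_generate _).2
      ((GrothendieckTopology.Subcanonical.isSheaf_of_isRepresentable (yoneda.obj E) :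
        Presieve.IsSheaf Scheme.fppfTopology (yoneda.obj E)) _
        (Precoverage.generate_mem_toGrothendieck hR))
  let fam : Presieve.FamilyOfElements (yoneda.obj E) R := fun U u hu => x u hu
  have hfam : fam.Compatible := fun U₁ U₂ W g₁ g₂ u₁ u₂ h₁ h₂ h => by
    show g₁ ≫ x u₁ h₁ = g₂ ≫ x u₂ h₂
    rw [← cancel_mono g.left, Category.assoc, Category.assoc, hx, hx]
    exact h
  have hamal : ∀ ⦃U : Scheme.{u}⦄ (u : U ⟶ P₀.left) (hu : R u),
      u ≫ hs.amalgamate fam hfam = x u hu := fun U u hu => hs.valid_glue hfam u hu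
  have hsplit : hs.amalgamate fam hfam ≫ g.left = 𝟙 P₀.left :=
    hom_ext_of_fppfCover hR _ _ fun U u hu => by
      rw [← Category.assoc, hamal u hu, hx, Category.comp_id]
  refine ⟨hs.amalgamate fam hfam, ?_, hsplit⟩
  rw [← cancel_mono g.left, Category.assoc, hsplit, Category.comp_id, Category.id_comp]

omit [IsProper f] [Smooth f] [GeometricallyConnected f] in
theorem abelCls_val :
    (abelCls (f := f) hLΔ hIe).1 = PicF.cl (CohB1.tensorMod LΔ
      ((Scheme.Modules.pullback (pullback.fst f f)).obj (ClSub.idealMod e.ker))) := by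
  have hw := Groth.PicAux.isInvertible_pullback (pullback.fst f f)
    (Groth.PicAux.isInvertible_idealMod hIe)
  have h : abelCls (f := f) hLΔ hIe = cls (Groth.PicAux.isInvertible_tensorMod hLΔ hw) := by
    rw [abelCls, baseCls, cls_tensorMod hLΔ hw, divCls, map_inv, inv_inv, pull_cls]
    rfl
  exact congrArg Subtype.val h

end elliptic

end Groth.PicCurve
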