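import Groth.Agent.PicCurve.Elliptic
import Groth.Agent.PicCurve.Chart
import Groth.Agent.Duality.SmoothDual
import Groth.Agent.GrpschAbsch.H0General
import Mathlib

/-!
# Classes of degree one on a family of curves of genus one are classes of sections
-/

universe u

open CategoryTheory CategoryTheory.Limits AlgebraicGeometry TopologicalSpace Opposite
open Groth.Abvar.PicCalc
open Groth.PicAux (pullSec res Gen)

set_option maxHeartbeats 1600000
set_option backward.isDefEq.respectTransparency false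
set_option backward.defeqAttrib.useBackward true
set_option backward.isDefEq.respectTransparency.types false

namespace Groth.PicCurve

variable {X T : Scheme.{u}} {π : X ⟶ T}

/-- The fibres of a smooth family of relative dimension one with connected fibres are curves. -/
theorem dim_fiber_eq_one (π : X ⟶ T) [SmoothOfRelativeDimension 1 π] [GeometricallyConnected π]
    (t : T) : topologicalKrullDim ↥(π.fiber t) = 1 := by
  let p : π.fiber t ⟶ Spec (CommRingCat.of (T.residueField t)) := π.fiberToSpecResidueField t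
  have : MorphismProperty.IsStableUnderBaseChange (@SmoothOfRelativeDimension.{u} 1) :=
    smoothOfRelativeDimension_isStableUnderBaseChange 1
  have : SmoothOfRelativeDimension 1 p :=
    MorphismProperty.pullback_snd (P := @SmoothOfRelativeDimension 1) _ _ ‹_›
  have : GeometricallyConnected p :=
    MorphismProperty.pullback_snd (P := @GeometricallyConnected) _ _ ‹_›
  letI : (π.fiber t).Over (Spec (CommRingCat.of (T.residueField t))) := ⟨p⟩
  have : GeometricallyConnected ((π.fiber t) ↘ Spec (CommRingCat.of (T.residueField t))) := ‹_›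
  have := Groth.CurveBridge.connectedSpace_of_geometrically (π.fiber t) (T.residueField t)
  refine le_antisymm (Groth.Duality.SmoothDual.topologicalKrullDim_le p 1) ?_
  obtain ⟨z⟩ := (inferInstance : Nonempty ↥(π.fiber t))
  obtain ⟨η, -, hη⟩ := Groth.FibreDim.exists_genericPoint_specializes z
  have h := Groth.Duality.SmoothDual.height_eq p 1 η
    ((Groth.Curves1.Node.mem_genericPoints_iff_isMax η).1 hη)
  rw [Groth.Variety2.Dim.dim_eq_iSup_height]
  refine le_trans (le_of_eq ?_) (le_iSup (fun x => ((Order.height x : ℕ∞) : WithBot ℕ∞)) η)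
  simp [h]

/-- The ideal of a section restricts to the ideal of the induced section. -/
theorem comap_section {X' T' : Scheme.{u}} {j : X' ⟶ X} {π' : X' ⟶ T'} {p : T' ⟶ T}
    (sq : IsPullback j π' π p) {γ : T ⟶ X} {γ' : T' ⟶ X'} (hγ : γ ≫ π = 𝟙 T)
    (hγ' : γ' ≫ π' = 𝟙 T') (h : γ' ≫ j = p ≫ γ) [IsClosedImmersion γ] :
    γ.ker.comap j = γ'.ker := by
  have sq' : IsPullback γ' p j γ := by
    refine IsPullback.of_right (h₁₂ := π') (h₂₂ := π) (v₁₃ := p) ?_ h sq.flip
    rw [hγ, hγ']
    exact IsPullback.of_horiz_isIso ⟨by simp⟩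
  exact (Groth.AdicLinTop.Thickenings.ker_eq_comap_of_isPullback sq').symm

/-- The class of a divisor is inverse to its ideal. -/
theorem isInverseOf_of_cls {I : X.IdealSheafData} (hI : BlowUp.IsEffCartierIdeal I) {L : X.Modules}
    (hL : PicF.IsInvertible L) (h : cls hL = divCls hI) :
    ClSub.IsInverseOf L (ClSub.idealMod I) := by
  refine (nonempty_iso_structure_iff (Groth.PicAux.isInvertible_tensorMod hL
    (Groth.PicAux.isInvertible_idealMod hI))).2 ?_
  rw [cls_tensorMod hL (Groth.PicAux.isInvertible_idealMod hI), h, divCls, inv_mul_cancel]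

variable [IsProper π] [Smooth π] [GeometricallyConnected π]
  (hdim : ∀ t : T, topologicalKrullDim ↥(π.fiber t) = 1)

include hdim in
theorem fiberRank_one_baseChange {X' T' : Scheme.{u}} {j : X' ⟶ X} {π' : X' ⟶ T'} {p : T' ⟶ T}
    (sq : IsPullback j π' π p) (t : T') :
    CohIII.fiberRank π' (Coh.structureModule X') 1 t =
      CohIII.fiberRank π (Coh.structureModule X) 1 (p t) := by
  have : IsProper π' := MorphismProperty.of_isPullback (P := @IsProper) sq ‹_›
  obtain ⟨i⟩ := Groth.PicAux.pullback_structure_iso j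
  have := (model_hyps (π := π) (L := Coh.structureModule X)
    (PicLoc.isInvertible_structureModule X)).1
  refine Eq.trans ?_ (Groth.CohTwo.betti_baseChange sq (Coh.structureModule X) t 1)
  letI : (π'.fiber t).Over (Spec (CommRingCat.of (T'.residueField t))) :=
    ⟨π'.fiberToSpecResidueField t⟩
  exact (Groth.EulerDeg.finrank_congr (k := T'.residueField t)
    ((Scheme.Modules.pullback (π'.fiberι t)).mapIso i) 1).symm

include hdim in
/-- Sections whose classes agree coincide. -/
theorem section_eq_of_divCls (hg : ∀ t, 1 ≤ CohIII.fiberRank π (Coh.structureModule X) 1 t)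
    {γ γ' : T ⟶ X} (hγ : γ ≫ π = 𝟙 T) (hγ' : γ' ≫ π = 𝟙 T)
    (hI : BlowUp.IsEffCartierIdeal γ.ker) (hI' : BlowUp.IsEffCartierIdeal γ'.ker)
    (h : divCls hI = divCls hI') : γ = γ' := by
  obtain ⟨L, hL, hc⟩ := PicGrp.exists_eq_cls (divCls hI)
  exact eq_of_inverse_ker π hdim hg hγ hγ' hL (isInverseOf_of_cls hI hL hc.symm)
    (isInverseOf_of_cls hI' hL (hc.symm.trans h))

include hdim in
/-- The class of the induced section. -/
theorem exists_section_baseChange {X' T' : Scheme.{u}} {j : X' ⟶ X} {π' : X' ⟶ T'} {p : T' ⟶ T}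
    (sq : IsPullback j π' π p) {γ : T ⟶ X} (hγ : γ ≫ π = 𝟙 T)
    (hI : BlowUp.IsEffCartierIdeal γ.ker) :
    ∃ (δ : T' ⟶ X') (_ : δ ≫ π' = 𝟙 T') (hJ : BlowUp.IsEffCartierIdeal δ.ker),
      δ ≫ j = p ≫ γ ∧ pull j (divCls hI) = divCls hJ := by
  have : IsProper π' := MorphismProperty.of_isPullback (P := @IsProper) sq ‹_›
  have : Smooth π' := MorphismProperty.of_isPullback (P := @Smooth) sq ‹_›
  have : GeometricallyConnected π' :=
    MorphismProperty.of_isPullback (P := @GeometricallyConnected) sq ‹_›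
  have hdim' : ∀ z, topologicalKrullDim ↥(π'.fiber z) = 1 := fun z => by
    rw [dim_fiber_of_isPullback sq z]; exact hdim _
  obtain ⟨hc, -⟩ := Groth.Limits.BC0.CurveSection.isEffCartier_ker π hdim γ hγ
  let δ := sq.lift (p ≫ γ) (𝟙 T') (by rw [Category.assoc, hγ, Category.comp_id, Category.id_comp])
  have hδ : δ ≫ π' = 𝟙 T' := sq.lift_snd _ _ _
  have hδj : δ ≫ j = p ≫ γ := sq.lift_fst _ _ _
  obtain ⟨-, hJ⟩ := Groth.Limits.BC0.CurveSection.isEffCartier_ker π' hdim' δ hδ
  have hk := comap_section sq hγ hδ hδj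
  exact ⟨δ, hδ, hJ, hδj, (pull_divCls j hI (hk.symm ▸ hJ)).trans (divCls_congr hk _ _)⟩

include hdim in
/-- Two sections with the same class on a base change agree there. -/
theorem comp_eq_of_pull (hg : ∀ t, 1 ≤ CohIII.fiberRank π (Coh.structureModule X) 1 t)
    {X' T' : Scheme.{u}} {j : X' ⟶ X} {π' : X' ⟶ T'} {p : T' ⟶ T}
    (sq : IsPullback j π' π p) {γ γ' : T ⟶ X} (hγ : γ ≫ π = 𝟙 T) (hγ' : γ' ≫ π = 𝟙 T)
    (hI : BlowUp.IsEffCartierIdeal γ.ker) (hI' : BlowUp.IsEffCartierIdeal γ'.ker)
    (h : pull j (divCls hI) = pull j (divCls hI')) : p ≫ γ = p ≫ γ' := by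
  have : IsProper π' := MorphismProperty.of_isPullback (P := @IsProper) sq ‹_›
  have : Smooth π' := MorphismProperty.of_isPullback (P := @Smooth) sq ‹_›
  have : GeometricallyConnected π' :=
    MorphismProperty.of_isPullback (P := @GeometricallyConnected) sq ‹_›
  have hdim' : ∀ z, topologicalKrullDim ↥(π'.fiber z) = 1 := fun z => by
    rw [dim_fiber_of_isPullback sq z]; exact hdim _
  obtain ⟨δ, hδ, hJ, hδj, hc⟩ := exists_section_baseChange hdim sq hγ hI
  obtain ⟨δ', hδ', hJ', hδj', hc'⟩ := exists_section_baseChange hdim sq hγ' hI'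
  have e := section_eq_of_divCls hdim'
    (fun t => by rw [fiberRank_one_baseChange hdim sq t]; exact hg _) hδ hδ' hJ hJ'
    (hc.symm.trans (h.trans hc'))
  rw [← hδj, ← hδj', e]

include hdim in
/-- Sections with the same class up to the base coincide. -/
theorem section_eq_of_mul_base (hg : ∀ t, 1 ≤ CohIII.fiberRank π (Coh.structureModule X) 1 t)
    {γ γ' : T ⟶ X} (hγ : γ ≫ π = 𝟙 T) (hγ' : γ' ≫ π = 𝟙 T)
    (hI : BlowUp.IsEffCartierIdeal γ.ker) (hI' : BlowUp.IsEffCartierIdeal γ'.ker)
    (m : PicLoc.PicSet T) (h : divCls hI = divCls hI' * pull π m) : γ = γ' := by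
  obtain ⟨M, hM, rfl⟩ := PicGrp.exists_eq_cls m
  have hU : ∀ t : T, ∃ U : T.Opens, t ∈ U ∧ pull U.ι (cls hM) = 1 := fun t => by
    obtain ⟨U, s, htU, hs⟩ := (Groth.PicAux.isInvertible_iff_exists_gen M).1 hM t
    exact ⟨U, htU, by
      rw [pull_cls, ← nonempty_iso_structure_iff]
      exact (Abvar.Seesaw.exists_gen_iff_trivial M U).1 ⟨s, hs⟩⟩
  choose U htU hU using hU
  let 𝒰 : Scheme.OpenCover.{u} T := Scheme.Cover.mkOfCovers (↥T) (fun t => (U t : Scheme.{u}))
    (fun t => (U t).ι) (fun t => ⟨t, ⟨t, htU t⟩, rfl⟩) fun _ => inferInstance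
  refine 𝒰.hom_ext _ _ fun (t : T) => comp_eq_of_pull hdim hg
    (IsPullback.of_hasPullback π (U t).ι) hγ hγ' hI hI' ?_
  rw [h, map_mul, ← pull_comp _ π, pullback.condition, pull_comp, hU, map_one, mul_one]

include hdim in
/-- A class of degree one on a family of curves of genus one with a section is the class of a
section, up to a class from the base. -/
theorem exists_section_mul_base (hg : ∀ t, CohIII.fiberRank π (Coh.structureModule X) 1 t = 1)
    {σ : T ⟶ X} (hσ : σ ≫ π = 𝟙 T) (c : PicLoc.PicSet X) (hc : ∀ t, degC π c t = 1) :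
    ∃ (γ : T ⟶ X) (_ : γ ≫ π = 𝟙 T) (hI : BlowUp.IsEffCartierIdeal γ.ker) (m : PicLoc.PicSet T),
      c = divCls hI * pull π m := by
  have hg1 : ∀ t, 1 ≤ CohIII.fiberRank π (Coh.structureModule X) 1 t := fun t => (hg t).ge
  choose V htV γ hγ hI hcγ using fun t₀ => exists_section_near π hdim hg c hc t₀
  let x := fun t => γ t ≫ pullback.fst π (V t).ι
  have hx : ∀ t, x t ≫ π = (V t).ι := fun t => by
    rw [Category.assoc, pullback.condition, reassoc_of% (hγ t)]
  let 𝒰 : Scheme.OpenCover.{u} T := Scheme.Cover.mkOfCovers (↥T) (fun t => (V t : Scheme.{u}))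
    (fun t => (V t).ι) (fun t => ⟨t, ⟨t, htV t⟩, rfl⟩) fun _ => inferInstance
  have hagree : ∀ i j : 𝒰.I₀, pullback.fst (𝒰.f i) (𝒰.f j) ≫ x i =
      pullback.snd (𝒰.f i) (𝒰.f j) ≫ x j := fun (i j : T) => by
    let p := pullback.fst (V i).ι (V j).ι
    let q := pullback.snd (V i).ι (V j).ι
    let w := p ≫ (V i).ι
    have hw : q ≫ (V j).ι = w := pullback.condition.symm
    let π' := pullback.snd π w
    let ri : pullback π w ⟶ pullback π (V i).ι := pullback.map π w π (V i).ι (𝟙 _) p (𝟙 _)
      (by simp) (by simp [w])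
    let rj : pullback π w ⟶ pullback π (V j).ι := pullback.map π w π (V j).ι (𝟙 _) q (𝟙 _)
      (by simp) (by simp [hw])
    have key : ∀ (t : T) (p' : pullback (V i).ι (V j).ι ⟶ V t) (hp' : p' ≫ (V t).ι = w)
        (r : pullback π w ⟶ pullback π (V t).ι) (hr₁ : r ≫ pullback.fst π _ = pullback.fst π w)
        (hr₂ : r ≫ pullback.snd π _ = π' ≫ p'),
        ∃ (δ : pullback (V i).ι (V j).ι ⟶ pullback π w) (_ : δ ≫ π' = 𝟙 _)
          (hJ : BlowUp.IsEffCartierIdeal δ.ker),
          δ ≫ pullback.fst π w = p' ≫ x t ∧ pull (pullback.fst π w) c = divCls hJ := by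
      intro t p' hp' r hr₁ hr₂
      have sqt : IsPullback r π' (pullback.snd π (V t).ι) p' := by
        refine IsPullback.of_right (h₁₂ := pullback.fst π (V t).ι) (h₂₂ := (V t).ι) (v₁₃ := π) ?_
          hr₂ (IsPullback.of_hasPullback _ _)
        rw [hr₁, hp']
        exact IsPullback.of_hasPullback _ _
      have : IsProper (pullback.snd π (V t).ι) :=
        MorphismProperty.pullback_snd (P := @IsProper) _ _ ‹_›
      have : Smooth (pullback.snd π (V t).ι) := MorphismProperty.pullback_snd (P := @Smooth) _ _ ‹_›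
      have : GeometricallyConnected (pullback.snd π (V t).ι) :=
        MorphismProperty.pullback_snd (P := @GeometricallyConnected) _ _ ‹_›
      obtain ⟨δ, hδ, hJ, hδj, hc'⟩ := exists_section_baseChange (fun z => by
        rw [dim_fiber_of_isPullback (IsPullback.of_hasPullback π (V t).ι) z]; exact hdim _)
        sqt (hγ t) (hI t)
      refine ⟨δ, hδ, hJ, ?_, ?_⟩
      · rw [← hr₁, reassoc_of% hδj]
      · rw [← hc', ← hcγ t, ← pull_comp, hr₁]
    obtain ⟨a, ha, hA, hax, hac⟩ := key i p rfl ri (by simp [ri]) (by simp [ri, π'])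
    obtain ⟨b, hb, hB, hbx, hbc⟩ := key j q hw rj (by simp [rj]) (by simp [rj, π'])
    have : IsProper π' := MorphismProperty.pullback_snd (P := @IsProper) _ _ ‹_›
    have : Smooth π' := MorphismProperty.pullback_snd (P := @Smooth) _ _ ‹_›
    have : GeometricallyConnected π' :=
      MorphismProperty.pullback_snd (P := @GeometricallyConnected) _ _ ‹_›
    have e := section_eq_of_divCls (π := π') (fun z => by
        rw [dim_fiber_of_isPullback (IsPullback.of_hasPullback π w) z]; exact hdim _)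
      (fun z => by
        rw [fiberRank_one_baseChange hdim (IsPullback.of_hasPullback π w) z]; exact hg1 _)
      ha hb hA hB (hac.symm.trans hbc)
    show p ≫ x i = q ≫ x j
    rw [← hax, ← hbx, e]
  let g := 𝒰.glueMorphisms x hagree
  have hgι : ∀ t, (V t).ι ≫ g = x t := fun t => 𝒰.ι_glueMorphisms x hagree t
  have hg₀ : g ≫ π = 𝟙 T := 𝒰.hom_ext _ _ fun t => by
    show (V t).ι ≫ g ≫ π = (V t).ι ≫ 𝟙 T
    rw [reassoc_of% (hgι t), hx, Category.comp_id]
  obtain ⟨-, hG⟩ := Groth.Limits.BC0.CurveSection.isEffCartier_ker π hdim g hg₀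
  let d := c * (divCls hG)⁻¹
  have hd : ∀ t, pull (pullback.fst π (V t).ι) d = 1 := fun t => by
    obtain ⟨δ, hδ, hJ, hδj, hc'⟩ := exists_section_baseChange hdim
      (IsPullback.of_hasPullback π (V t).ι) hg₀ hG
    have e : δ = γ t := by
      apply pullback.hom_ext
      · rw [hδj, hgι]
      · rw [hδ, hγ]
    subst e
    rw [map_mul, map_inv, hcγ t, hc', mul_inv_cancel]
  let m := pull σ d
  refine ⟨g, hg₀, hG, m, ?_⟩
  let d' := d * (pull π m)⁻¹
  have hσd : pull σ d' = 1 := by
    rw [map_mul, map_inv, ← pull_comp σ π, hσ, pull_id]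
    exact mul_inv_cancel _
  have hd' : ∀ t, pull (pullback.fst π (V t).ι) d' = 1 := fun t => by
    have hσV : pull (V t).ι m = 1 := by
      let σV : (V t : Scheme.{u}) ⟶ pullback π (V t).ι :=
        pullback.lift ((V t).ι ≫ σ) (𝟙 _) (by rw [Category.assoc, hσ]; simp)
      show pull (V t).ι (pull σ d) = 1
      rw [← pull_comp, show (V t).ι ≫ σ = σV ≫ pullback.fst π _ from (pullback.lift_fst _ _ _).symm,
        pull_comp, hd, map_one]
    rw [map_mul, map_inv, hd, ← pull_comp _ π, pullback.condition, pull_comp, hσV, map_one, inv_one,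
      mul_one]
  have key : d' = 1 := by
    obtain ⟨L, hL, hLc⟩ := PicGrp.exists_eq_cls d'
    rw [hLc, ← nonempty_iso_structure_iff]
    rw [hLc, pull_cls, ← nonempty_iso_structure_iff] at hσd
    have := Groth.GrpschAbsch.FibreFlat.geometricallyReduced_of_smooth π
    refine Abvar.Seesaw.trivial_of_local (π := π) hσ
      (fun W => Groth.GrpschAbsch.H0General.app_bijective π W) (fun y => ?_) hσd
    have hi := hd' y
    rw [hLc, pull_cls, ← nonempty_iso_structure_iff, PicAux.nonempty_iso_structure_iff] at hi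
    obtain ⟨a, ha⟩ := Abvar.Seesaw.exists_gen_image (pullback.fst π (V y).ι) L ⊤ hi
    have hle : π ⁻¹ᵁ V y ≤ pullback.fst π (V y).ι ''ᵁ ⊤ := by
      rw [Scheme.Hom.image_top_eq_opensRange]
      intro z hz
      show z ∈ Set.range (pullback.fst π (V y).ι)
      rw [Scheme.Pullback.range_fst, Scheme.Opens.range_ι]
      exact hz
    exact ⟨V y, htV y, _, ha.res hle⟩
  have h : c * (divCls hG)⁻¹ = pull π m := eq_of_mul_inv_eq_one key
  rw [← h, mul_comm, inv_mul_cancel_right]

end Groth.PicCurve
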