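import Groth.Agent.PicAux.Cocycle
import Groth.Agent.PicAux.Pullback
import Groth.Agent.Abvar.Seesaw.Descend

/-!
# Gluing invertible modules rigidified along a section

`π : Y ⟶ B` has the section `e` and only constant functions over every open.  Modules on the
pieces `π⁻¹V` with a linear functional along `e` (`Norm`) glue as soon as they are locally
isomorphic: the isomorphisms respecting the functionals are unique.
-/

universe u

open CategoryTheory AlgebraicGeometry TopologicalSpace Opposite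
open Groth.PicAux

set_option maxHeartbeats 1600000
set_option backward.isDefEq.respectTransparency false
set_option backward.defeqAttrib.useBackward true
set_option backward.isDefEq.respectTransparency.types false

namespace Groth.PicCurve.Glue

variable {Y B : Scheme.{u}}

/-- A functional along a section, defined over the opens contained in `O`. -/
structure Norm (e : B ⟶ Y) (M : Y.Modules) (O : Y.Opens) where
  /-- The values. -/
  app : ∀ U : Y.Opens, U ≤ O → Γ(M, U) → Γ(B, e ⁻¹ᵁ U)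
  smul : ∀ U (h : U ≤ O) (r : Γ(Y, U)) (a : Γ(M, U)), app U h (r • a) = e.app U r * app U h a
  nat : ∀ U W (h : U ≤ O) (h' : W ≤ U) (a : Γ(M, U)),
    app W (h'.trans h) (res M h' a) = resX B (e.preimage_mono h') (app U h a)
  unit : ∀ U (h : U ≤ O) (a : Γ(M, U)), Gen M U a → IsUnit (app U h a)

/-- A comparison of two modules over the opens contained in `O`. -/
structure Cmp (M M' : Y.Modules) (O : Y.Opens) where
  /-- The maps. -/
  app : ∀ U : Y.Opens, U ≤ O → Γ(M, U) → Γ(M', U)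
  smul : ∀ U (h : U ≤ O) (r : Γ(Y, U)) (a : Γ(M, U)), app U h (r • a) = r • app U h a
  nat : ∀ U W (h : U ≤ O) (h' : W ≤ U) (a : Γ(M, U)),
    app W (h'.trans h) (res M h' a) = res M' h' (app U h a)
  gen : ∀ U (h : U ≤ O) (a : Γ(M, U)), Gen M U a → Gen M' U (app U h a)

variable {π : Y ⟶ B} {e : B ⟶ Y}

/-- Composition. -/
def Cmp.comp {M M' M'' : Y.Modules} {O O₁ O₂ : Y.Opens} (φ : Cmp M M' O₁) (ψ : Cmp M' M'' O₂)
    (h₁ : O ≤ O₁) (h₂ : O ≤ O₂) : Cmp M M'' O where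
  app U h a := ψ.app U (h.trans h₂) (φ.app U (h.trans h₁) a)
  smul U h r a := by rw [φ.smul, ψ.smul]
  nat U W h h' a := by rw [φ.nat U W (h.trans h₁) h', ψ.nat U W (h.trans h₂) h']
  gen U h a ha := ψ.gen _ _ _ (φ.gen _ _ _ ha)

/-- Restriction. -/
def Cmp.restrict {M M' : Y.Modules} {O O' : Y.Opens} (φ : Cmp M M' O') (h : O ≤ O') :
    Cmp M M' O where
  app U hU := φ.app U (hU.trans h)
  smul U hU := φ.smul U _
  nat U W hU := φ.nat U W _
  gen U hU := φ.gen U _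

/-- A comparison respects the functionals. -/
def Cmp.IsNormal {M M' : Y.Modules} {O O₁ O₂ : Y.Opens} (φ : Cmp M M' O) (l : Norm e M O₁)
    (l' : Norm e M' O₂) : Prop :=
  ∀ U (h : U ≤ O) (h₁ : U ≤ O₁) (h₂ : U ≤ O₂) (a : Γ(M, U)),
    l'.app U h₂ (φ.app U h a) = l.app U h₁ a

theorem app_resX (f : B ⟶ Y) {U W : Y.Opens} (h : W ≤ U) (r : Γ(Y, U)) :
    f.app W (resX Y h r) = resX B (f.preimage_mono h) (f.app U r) :=
  ConcreteCategory.congr_hom (f.naturality (homOfLE h).op) r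

theorem preimage_le (he : e ≫ π = 𝟙 B) {U : Y.Opens} {V : B.Opens} (h : U ≤ π ⁻¹ᵁ V) :
    e ⁻¹ᵁ U ≤ V := fun z hz => by
  have h1 : π (e z) ∈ V := h hz
  rwa [← Scheme.Hom.comp_apply, he] at h1

theorem app_base (he : e ≫ π = 𝟙 B) {U : Y.Opens} {V : B.Opens} (h : U ≤ π ⁻¹ᵁ V) (c : Γ(B, V)) :
    e.app U (resX Y h (π.app V c)) = resX B (preimage_le he h) c := by
  have hV : V ≤ e ⁻¹ᵁ (π ⁻¹ᵁ V) := fun z hz => by
    show π (e z) ∈ V
    rwa [← Scheme.Hom.comp_apply, he]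
  have key := congrArg (resX B (preimage_le he h)) (Abvar.Seesaw.app_app_section π he hV c)
  rw [resX_resX] at key
  rw [app_resX]
  exact key

theorem mem_of_section (he : e ≫ π = 𝟙 B) {V : B.Opens} {z : B} (hz : z ∈ V) : e z ∈ π ⁻¹ᵁ V := by
  show π (e z) ∈ V
  rwa [← Scheme.Hom.comp_apply, he]

section

variable (he : e ≫ π = 𝟙 B) (hπ : ∀ V : B.Opens, Function.Bijective (π.app V))
variable {M M' : Y.Modules} {V : B.Opens}
variable (hM : ∀ x ∈ π ⁻¹ᵁ V, ∃ (U : Y.Opens) (a : Γ(M, U)), x ∈ U ∧ U ≤ π ⁻¹ᵁ V ∧ Gen M U a)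

include he hM in
/-- Some comparison respects the functionals. -/
theorem exists_normal {O₁ O₂ : Y.Opens} (hO₁ : π ⁻¹ᵁ V ≤ O₁) (hO₂ : π ⁻¹ᵁ V ≤ O₂)
    (φ : Cmp M M' (π ⁻¹ᵁ V)) (l : Norm e M O₁) (l' : Norm e M' O₂) :
    ∃ ψ : Cmp M M' (π ⁻¹ᵁ V), ψ.IsNormal l l' := by
  classical
  choose U a hxU hU ha using hM
  let ι := {x : Y // x ∈ π ⁻¹ᵁ V}
  let A : ι → Y.Opens := fun x => U x.1 x.2
  let b : ∀ x : ι, Γ(M, A x) := fun x => a x.1 x.2
  have hA : ∀ x : ι, A x ≤ π ⁻¹ᵁ V := fun x => hU x.1 x.2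
  have hb : ∀ x : ι, Gen M (A x) (b x) := fun x => ha x.1 x.2
  let u : ∀ x : ι, (Γ(B, e ⁻¹ᵁ A x))ˣ := fun x =>
    (l'.unit _ ((hA x).trans hO₂) _ (φ.gen _ (hA x) _ (hb x))).unit
  let w : ∀ x : ι, Γ(B, e ⁻¹ᵁ A x) := fun x => l.app _ ((hA x).trans hO₁) (b x) * ↑(u x)⁻¹
  have hw : ∀ x : ι, l.app _ ((hA x).trans hO₁) (b x) =
      w x * l'.app _ ((hA x).trans hO₂) (φ.app _ (hA x) (b x)) := fun x => by
    rw [mul_assoc, show l'.app _ ((hA x).trans hO₂) (φ.app _ (hA x) (b x)) = ↑(u x) from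
      (IsUnit.unit_spec _).symm, Units.inv_mul, mul_one]
  -- the ratio does not depend on the generator
  have main : ∀ (x : ι) (W : Y.Opens) (hW : W ≤ A x) (m : Γ(M, W)),
      l.app W ((hW.trans (hA x)).trans hO₁) m = resX B (e.preimage_mono hW) (w x) *
        l'.app W ((hW.trans (hA x)).trans hO₂) (φ.app W (hW.trans (hA x)) m) := by
    intro x W hW m
    obtain ⟨r, rfl⟩ := (hb x).exists_coeff hW m
    rw [l.smul, φ.smul, l'.smul, l.nat _ _ ((hA x).trans hO₁) hW, φ.nat _ _ (hA x) hW,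
      l'.nat _ _ ((hA x).trans hO₂) hW, hw x, map_mul]
    ring
  obtain ⟨c, hc, -⟩ := resX_glue (U := V) (fun x : ι => e ⁻¹ᵁ A x)
    (fun x => preimage_le he (hA x))
    (fun z hz => Opens.mem_iSup.2 ⟨⟨e z, mem_of_section he hz⟩, hxU _ (mem_of_section he hz)⟩) w
    fun x y => by
      have h1 := main x (A x ⊓ A y) inf_le_left (res M inf_le_left (b x))
      have h2 := main y (A x ⊓ A y) inf_le_right (res M inf_le_left (b x))
      rw [h1] at h2
      exact (l'.unit _ _ _ (φ.gen _ _ _ ((hb x).res _))).mul_right_cancel h2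
  refine ⟨{
    app := fun W hW m => resX Y hW (π.app V c) • φ.app W hW m
    smul := fun W hW r m => by rw [φ.smul, smul_comm]
    nat := fun W W' hW h' m => by rw [φ.nat _ _ hW h', res_smul, resX_resX]
    gen := fun W hW m hm => (φ.gen _ _ _ hm).smul_unit ?_ }, fun W hW h₁ h₂ m => ?_⟩
  · have huc : IsUnit c := by
      refine RingedSpace.isUnit_of_isUnit_germ B.toRingedSpace V c fun z hz => ?_
      have hx := mem_of_section he hz
      have hzA : z ∈ e ⁻¹ᵁ A ⟨e z, hx⟩ := hxU _ hx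
      have h1 : IsUnit (w ⟨e z, hx⟩) :=
        (l.unit _ _ _ (hb ⟨e z, hx⟩)).mul (Units.isUnit _)
      rw [← hc ⟨e z, hx⟩] at h1
      have h2 := h1.map (B.presheaf.germ _ z hzA).hom
      rwa [show (B.presheaf.germ _ z hzA) (resX B (preimage_le he (hA ⟨e z, hx⟩)) c) =
        B.presheaf.germ V z hz c from TopCat.Presheaf.germ_res_apply _ _ _ _ _] at h2
    exact (huc.map _).map _
  · rw [l'.smul, app_base he hW]
    refine resX_ext (fun x : ι => e ⁻¹ᵁ (W ⊓ A x)) (fun x => e.preimage_mono inf_le_left)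
      (fun z hz => Opens.mem_iSup.2 ⟨⟨e z, hW hz⟩, hz, hxU _ (hW hz)⟩) fun x => ?_
    rw [map_mul, resX_resX, ← l'.nat W (W ⊓ A x) h₂ inf_le_left, ← φ.nat W (W ⊓ A x) hW inf_le_left,
      ← l.nat W (W ⊓ A x) h₁ inf_le_left, main x (W ⊓ A x) inf_le_right (res M inf_le_left m),
      ← hc x, resX_resX]

include he hπ hM in
/-- A comparison respecting the functionals is unique. -/
theorem eq_of_normal {O O' O₁ O₂ : Y.Opens} (hO : π ⁻¹ᵁ V ≤ O) (hO' : π ⁻¹ᵁ V ≤ O')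
    (hO₁ : π ⁻¹ᵁ V ≤ O₁) (hO₂ : π ⁻¹ᵁ V ≤ O₂) {l : Norm e M O₁} {l' : Norm e M' O₂}
    {φ : Cmp M M' O} {ψ : Cmp M M' O'} (hφ : φ.IsNormal l l') (hψ : ψ.IsNormal l l')
    {W : Y.Opens} (hW : W ≤ π ⁻¹ᵁ V) (m : Γ(M, W)) :
    ψ.app W (hW.trans hO') m = φ.app W (hW.trans hO) m := by
  classical
  choose U a hxU hU ha using hM
  let ι := {x : Y // x ∈ π ⁻¹ᵁ V}
  let A : ι → Y.Opens := fun x => U x.1 x.2
  let b : ∀ x : ι, Γ(M, A x) := fun x => a x.1 x.2
  have hA : ∀ x : ι, A x ≤ π ⁻¹ᵁ V := fun x => hU x.1 x.2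
  have hb : ∀ x : ι, Gen M (A x) (b x) := fun x => ha x.1 x.2
  have hg : ∀ x : ι, Gen M' (A x) (φ.app _ ((hA x).trans hO) (b x)) := fun x => φ.gen _ _ _ (hb x)
  choose r hr using fun x : ι =>
    (hg x).exists_coeff le_rfl (ψ.app _ ((hA x).trans hO') (b x))
  have main : ∀ (x : ι) (W : Y.Opens) (hW : W ≤ A x) (m : Γ(M, W)),
      ψ.app W ((hW.trans (hA x)).trans hO') m =
        resX Y hW (r x) • φ.app W ((hW.trans (hA x)).trans hO) m := by
    intro x W hW m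
    obtain ⟨t, rfl⟩ := (hb x).exists_coeff hW m
    rw [ψ.smul, φ.smul, ψ.nat _ _ ((hA x).trans hO') hW, φ.nat _ _ ((hA x).trans hO) hW, hr x,
      res_smul, res_self, smul_comm]
  obtain ⟨R, hR, -⟩ := resX_glue (U := π ⁻¹ᵁ V) A hA
    (fun x hx => Opens.mem_iSup.2 ⟨⟨x, hx⟩, hxU x hx⟩) r fun x y => by
      have h1 := main x (A x ⊓ A y) inf_le_left (res M inf_le_left (b x))
      have h2 := main y (A x ⊓ A y) inf_le_right (res M inf_le_left (b x))
      rw [h1] at h2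
      exact ((φ.gen _ _ _ ((hb x).res inf_le_left))).smul_inj (le_refl (A x ⊓ A y))
        (by rwa [res_self])
  obtain ⟨c, rfl⟩ := (hπ V).2 R
  have h1 : ∀ x : ι, resX B (preimage_le he (hA x)) c = 1 := fun x => by
    have h := hψ _ ((hA x).trans hO') ((hA x).trans hO₁) ((hA x).trans hO₂) (b x)
    rw [main x (A x) le_rfl, l'.smul, hφ _ ((hA x).trans hO) ((hA x).trans hO₁) _ (b x),
      resX_self, ← hR x, app_base he (hA x)] at h
    exact (l.unit _ ((hA x).trans hO₁) _ (hb x)).mul_right_cancel (h.trans (one_mul _).symm)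
  have hc : c = 1 := resX_ext (fun x : ι => e ⁻¹ᵁ A x) (fun x => preimage_le he (hA x))
    (fun z hz => Opens.mem_iSup.2 ⟨⟨e z, mem_of_section he hz⟩, hxU _ (mem_of_section he hz)⟩)
    fun x => by rw [h1 x, map_one]
  refine res_ext (fun x : ι => W ⊓ A x) (fun x => inf_le_left)
    (fun z hz => Opens.mem_iSup.2 ⟨⟨z, hW hz⟩, hz, hxU _ (hW hz)⟩) fun x => ?_
  rw [← ψ.nat _ _ (hW.trans hO') inf_le_left, ← φ.nat _ _ (hW.trans hO) inf_le_left,
    main x (W ⊓ A x) inf_le_right (res M inf_le_left m), ← hR x, hc, map_one, map_one, map_one,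
    one_smul]

end

/-- Rigidified invertible modules on the pieces glue. -/
theorem exists_glue (he : e ≫ π = 𝟙 B) (hπ : ∀ V : B.Opens, Function.Bijective (π.app V))
    {κ : Type u} (V : κ → B.Opens) (hV : ∀ z, ∃ k, z ∈ V k) {Z : κ → Scheme.{u}}
    (j : ∀ k, Z k ⟶ Y) (L : ∀ k, (Z k).Modules)
    (hgen : ∀ k, ∀ x ∈ π ⁻¹ᵁ V k, ∃ (U : Y.Opens) (a : Γ(L k, j k ⁻¹ᵁ U)), x ∈ U ∧
      U ≤ π ⁻¹ᵁ V k ∧ Gen ((Scheme.Modules.pushforward (j k)).obj (L k)) U a)
    (hj : ∀ k, ∀ (U : Y.Opens), U ≤ π ⁻¹ᵁ V k → ∀ a : Γ(L k, j k ⁻¹ᵁ U),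
      Gen ((Scheme.Modules.pushforward (j k)).obj (L k)) U a → Gen (L k) (j k ⁻¹ᵁ U) a)
    (hjr : ∀ k (z : Z k), j k z ∈ π ⁻¹ᵁ V k)
    (l : ∀ k, Norm e ((Scheme.Modules.pushforward (j k)).obj (L k)) (π ⁻¹ᵁ V k))
    (hcmp : ∀ i k, Nonempty (Cmp ((Scheme.Modules.pushforward (j i)).obj (L i))
      ((Scheme.Modules.pushforward (j k)).obj (L k)) (π ⁻¹ᵁ (V i ⊓ V k)))) :
    ∃ M : Y.Modules, PicF.IsInvertible M ∧
      (∀ k, Nonempty ((Scheme.Modules.pullback (j k)).obj M ≅ L k)) ∧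
      Nonempty ((Scheme.Modules.pullback e).obj M ≅ Coh.structureModule B) := by
  classical
  let N : κ → Y.Modules := fun k => (Scheme.Modules.pushforward (j k)).obj (L k)
  have hN : ∀ (i : κ) (W : B.Opens), W ≤ V i → ∀ x ∈ π ⁻¹ᵁ W,
      ∃ (U : Y.Opens) (a : Γ(N i, U)), x ∈ U ∧ U ≤ π ⁻¹ᵁ W ∧ Gen (N i) U a := by
    intro i W hW x hx
    obtain ⟨U, a, hxU, -, ha⟩ := hgen i x (hW hx)
    exact ⟨U ⊓ π ⁻¹ᵁ W, res (N i) inf_le_left a, ⟨hxU, hx⟩, inf_le_right,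
      Gen.res (L := N i) ha inf_le_left⟩
  choose φ hφ using fun i k => exists_normal he (hN i _ inf_le_left)
    (π.preimage_mono (inf_le_left : V i ⊓ V k ≤ V i)) (π.preimage_mono inf_le_right)
    (hcmp i k).some (l i) (l k)
  -- composition of the normal comparisons
  have trans : ∀ (p q s : κ) (W : Y.Opens) (h₁ : W ≤ π ⁻¹ᵁ V p) (h₂ : W ≤ π ⁻¹ᵁ V q)
      (h₃ : W ≤ π ⁻¹ᵁ V s) (m : Γ(N p, W)),
      (φ q s).app W (le_inf h₂ h₃) ((φ p q).app W (le_inf h₁ h₂) m) =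
        (φ p s).app W (le_inf h₁ h₃) m := by
    intro p q s W h₁ h₂ h₃ m
    have l₁ : π ⁻¹ᵁ (V p ⊓ V q ⊓ V s) ≤ π ⁻¹ᵁ (V p ⊓ V q) := π.preimage_mono inf_le_left
    have l₂ : π ⁻¹ᵁ (V p ⊓ V q ⊓ V s) ≤ π ⁻¹ᵁ (V q ⊓ V s) :=
      π.preimage_mono (inf_le_inf_right _ inf_le_right)
    exact eq_of_normal he hπ (hN p _ (inf_le_left.trans inf_le_left))
      (O := π ⁻¹ᵁ (V p ⊓ V s)) (π.preimage_mono (inf_le_inf_right _ inf_le_left)) le_rfl
      (π.preimage_mono (inf_le_left.trans inf_le_left)) (π.preimage_mono inf_le_right)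
      (hφ p s) (ψ := (φ p q).comp (φ q s) l₁ l₂)
      (fun U h u₁ u₂ a => (hφ q s U (h.trans l₂)
          ((h.trans l₂).trans (π.preimage_mono inf_le_left)) u₂ _).trans
        (hφ p q U (h.trans l₁) u₁ ((h.trans l₂).trans (π.preimage_mono inf_le_left)) a))
      (le_inf (le_inf h₁ h₂) h₃) m
  choose kx hkx using fun x : Y => hV (π x)
  choose U m hxU hU hm using fun x : Y => hgen (kx x) x (hkx x)
  have hUl : ∀ x y, U x ⊓ U y ≤ π ⁻¹ᵁ (V (kx x) ⊓ V (kx y)) := fun x y => inf_le_inf (hU x) (hU y)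
  choose η hη using fun x y => (Gen.res (L := N (kx y)) (hm y)
    (inf_le_right : U x ⊓ U y ≤ U y)).exists_unit ((φ (kx x) (kx y)).gen _ (hUl x y) _
      (Gen.res (L := N (kx x)) (hm x) inf_le_left))
  have hη' : ∀ x y, (φ (kx x) (kx y)).app _ (hUl x y) (res (N (kx x)) inf_le_left (m x)) =
      (η x y : Γ(Y, U x ⊓ U y)) • res (N (kx y)) inf_le_right (m y) := hη
  obtain ⟨M, s, hs, hinv, hrel⟩ := exists_module_of_cocycle U (fun x y => (η x y : Γ(Y, U x ⊓ U y)))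
    (eq_top_iff.2 fun x _ => Opens.mem_iSup.2 ⟨x, hxU x⟩) (fun x y => (η x y).isUnit) fun x y z => by
      have a1 : U x ⊓ U y ⊓ U z ≤ U x ⊓ U y := inf_le_left
      have a2 : U x ⊓ U y ⊓ U z ≤ U y ⊓ U z := inf_le_inf_right _ inf_le_right
      have a3 : U x ⊓ U y ⊓ U z ≤ U x ⊓ U z := inf_le_inf_right _ inf_le_left
      have e12 := congrArg (res (N (kx y)) a1) (hη' x y)
      rw [← (φ _ _).nat _ _ (hUl x y) a1, res_res, res_smul, res_res] at e12
      have e23 := congrArg (res (N (kx z)) a2) (hη' y z)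
      rw [← (φ _ _).nat _ _ (hUl y z) a2, res_res, res_smul, res_res] at e23
      have e13 := congrArg (res (N (kx z)) a3) (hη' x z)
      rw [← (φ _ _).nat _ _ (hUl x z) a3, res_res, res_smul, res_res,
        ← trans (kx x) (kx y) (kx z) _ (a1.trans (inf_le_left.trans (hU x)))
          (a1.trans (inf_le_right.trans (hU y))) (inf_le_right.trans (hU z)), e12,
        (φ _ _).smul, e23, ← mul_smul] at e13
      exact ((Gen.res (L := N (kx z)) (hm z) (inf_le_right : U x ⊓ U y ⊓ U z ≤ U z)).smul_inj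
        (le_refl _) (by simpa [res_self] using e13)).symm
  refine ⟨M, hinv, fun k => ?_, ?_⟩
  · have hW : ∀ x, U x ⊓ π ⁻¹ᵁ V k ≤ π ⁻¹ᵁ (V (kx x) ⊓ V k) := fun x =>
      inf_le_inf (hU x) le_rfl
    have hsub : ∀ U' : Y.Opens, j k ⁻¹ᵁ U' ≤ j k ⁻¹ᵁ (U' ⊓ π ⁻¹ᵁ V k) := fun U' z hz =>
      ⟨hz, hjr k z⟩
    let t : ∀ x, Γ(L k, j k ⁻¹ᵁ U x) := fun x => res (L k) (hsub (U x))
      ((φ (kx x) k).app _ (hW x) (res (N (kx x)) inf_le_left (m x)))
    have ht : ∀ x, Gen (L k) (j k ⁻¹ᵁ U x) (t x) := fun x =>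
      (hj k _ inf_le_right _ ((φ (kx x) k).gen _ (hW x) _
        (Gen.res (L := N (kx x)) (hm x) inf_le_left))).res _
    have hcov : ⨆ x, j k ⁻¹ᵁ U x = ⊤ := eq_top_iff.2 fun z _ =>
      Opens.mem_iSup.2 ⟨j k z, hxU (j k z)⟩
    obtain ⟨ρ, -⟩ := exists_iso_of_gen hcov (fun x => pullSec (j k) M (s x))
      (fun x => (hs x).pull (j k)) t ht fun x y r hr => by
      have h1 : res _ ((j k).preimage_mono (inf_le_left : U x ⊓ U y ≤ U x)) (pullSec (j k) M (s x)) =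
          (j k).app (U x ⊓ U y) (η x y) •
            res _ ((j k).preimage_mono (inf_le_right : U x ⊓ U y ≤ U y)) (pullSec (j k) M (s y)) := by
        rw [res_pullSec (j k) M (inf_le_left : U x ⊓ U y ≤ U x),
          res_pullSec (j k) M (inf_le_right : U x ⊓ U y ≤ U y), hrel, pullSec_smul]
      have h2 : (j k).app (U x ⊓ U y) (η x y) = r :=
        ((hs y).pull (j k)).smul_inj ((j k).preimage_mono (inf_le_right : U x ⊓ U y ≤ U y))
          (h1.symm.trans hr)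
      subst h2
      have a1 : U x ⊓ U y ⊓ π ⁻¹ᵁ V k ≤ U x ⊓ U y := inf_le_left
      have ax : U x ⊓ U y ⊓ π ⁻¹ᵁ V k ≤ U x ⊓ π ⁻¹ᵁ V k := inf_le_inf_right _ inf_le_left
      have ay : U x ⊓ U y ⊓ π ⁻¹ᵁ V k ≤ U y ⊓ π ⁻¹ᵁ V k := inf_le_inf_right _ inf_le_right
      have e12 := congrArg (res (N (kx y)) a1) (hη' x y)
      rw [← (φ _ _).nat _ _ (hUl x y) a1, res_res, res_smul, res_res] at e12
      have ek : res (N k) ax ((φ (kx x) k).app _ (hW x) (res (N (kx x)) inf_le_left (m x))) =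
          resX Y a1 (η x y : Γ(Y, U x ⊓ U y)) •
            res (N k) ay ((φ (kx y) k).app _ (hW y) (res (N (kx y)) inf_le_left (m y))) := by
        rw [← (φ _ _).nat _ _ (hW x) ax, ← (φ _ _).nat _ _ (hW y) ay, res_res, res_res,
          ← trans (kx x) (kx y) k _ (a1.trans (inf_le_left.trans (hU x)))
            (a1.trans (inf_le_right.trans (hU y))) inf_le_right, e12, (φ _ _).smul]
      have hmono : j k ⁻¹ᵁ U x ⊓ j k ⁻¹ᵁ U y ≤ j k ⁻¹ᵁ (U x ⊓ U y ⊓ π ⁻¹ᵁ V k) := hsub (U x ⊓ U y)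
      have ek' := congrArg (res (L k) hmono) ek
      simp only [t, res_res]
      have hres : ∀ {A A' : Y.Opens} (h : A' ≤ A) (a : Γ(N k, A)),
          (res (N k) h a : Γ(L k, j k ⁻¹ᵁ A')) = res (L k) ((j k).preimage_mono h) a := fun h a => rfl
      rw [hres, res_res] at ek'
      refine ek'.trans ?_
      rw [show (resX Y a1 (η x y : Γ(Y, U x ⊓ U y)) •
          res (N k) ay ((φ (kx y) k).app _ (hW y) (res (N (kx y)) inf_le_left (m y))) :
            Γ(L k, j k ⁻¹ᵁ (U x ⊓ U y ⊓ π ⁻¹ᵁ V k))) =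
          (j k).app _ (resX Y a1 (η x y : Γ(Y, U x ⊓ U y))) •
          res (L k) ((j k).preimage_mono ay)
            ((φ (kx y) k).app _ (hW y) (res (N (kx y)) inf_le_left (m y))) from rfl,
        res_smul, res_res]
      congr 1
      rw [show (j k).app _ (resX Y a1 (η x y : Γ(Y, U x ⊓ U y))) =
        resX (Z k) ((j k).preimage_mono a1) ((j k).app _ (η x y : Γ(Y, U x ⊓ U y))) from
          ConcreteCategory.congr_hom ((j k).naturality (homOfLE a1).op) _, resX_resX]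
      exact resX_self _ _
    exact ⟨ρ⟩
  · have hu : ∀ x, IsUnit ((l (kx x)).app _ (hU x) (m x)) := fun x => (l (kx x)).unit _ _ _ (hm x)
    let t : ∀ x, Γ((Scheme.Modules.pullback e).obj M, e ⁻¹ᵁ U x) := fun x =>
      (↑(hu x).unit⁻¹ : Γ(B, e ⁻¹ᵁ U x)) • pullSec e M (s x)
    have hcov : (⊤ : B.Opens) ≤ ⨆ x, e ⁻¹ᵁ U x := fun z _ => Opens.mem_iSup.2 ⟨e z, hxU (e z)⟩
    obtain ⟨τ, hτ, -⟩ := res_glue (M := (Scheme.Modules.pullback e).obj M) (U := ⊤)
      (fun x => e ⁻¹ᵁ U x) (fun _ => le_top) hcov t fun x y => by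
      have hl : resX B (e.preimage_mono (inf_le_left : U x ⊓ U y ≤ U x))
            ((l (kx x)).app _ (hU x) (m x)) =
          e.app (U x ⊓ U y) (η x y) * resX B (e.preimage_mono (inf_le_right : U x ⊓ U y ≤ U y))
            ((l (kx y)).app _ (hU y) (m y)) := by
        rw [← (l _).nat _ _ (hU x) inf_le_left,
          ← hφ (kx x) (kx y) _ (hUl x y) (inf_le_left.trans (hU x)) (inf_le_right.trans (hU y)),
          hη', (l _).smul, (l _).nat _ _ (hU y) inf_le_right]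
      have hp : res _ (e.preimage_mono (inf_le_left : U x ⊓ U y ≤ U x)) (pullSec e M (s x)) =
          e.app (U x ⊓ U y) (η x y) •
            res _ (e.preimage_mono (inf_le_right : U x ⊓ U y ≤ U y)) (pullSec e M (s y)) := by
        rw [res_pullSec e M (inf_le_left : U x ⊓ U y ≤ U x),
          res_pullSec e M (inf_le_right : U x ⊓ U y ≤ U y), hrel, pullSec_smul]
      show res _ (e.preimage_mono (inf_le_left : U x ⊓ U y ≤ U x)) (t x) =
        res _ (e.preimage_mono (inf_le_right : U x ⊓ U y ≤ U y)) (t y)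
      simp only [t, res_smul, hp, ← mul_smul]
      congr 1
      refine ((hu x).map (resX B (e.preimage_mono (inf_le_left : U x ⊓ U y ≤ U x)))).mul_left_cancel ?_
      rw [← mul_assoc, ← map_mul, (hu x).mul_val_inv, map_one, one_mul, hl, mul_assoc, ← map_mul,
        (hu y).mul_val_inv, map_one, mul_one]
    exact nonempty_iso_structure_iff.2 ⟨τ, Gen.of_cover _ (fun _ => le_top) hcov fun x => by
      rw [hτ x]; exact ((hs x).pull e).smul_unit (Units.isUnit _)⟩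

end Groth.PicCurve.Glue
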