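import Groth.Agent.Limits.BC0.Consequences
import Groth.Agent.CohC3.BC.Global
import Groth.Agent.CohTwo.FieldExtension
import Groth.Agent.PicAux.FreeBasis
import Groth.Agent.Abvar.Seesaw.Core
import Groth.Agent.EulerDeg.FiniteSupport
import Groth.Agent.EulerDeg.LineBundle
import Groth.Prelude.Def_Pic

/-!
# Invertible modules with one section and no first cohomology on every fibre
-/

universe u

open CategoryTheory CategoryTheory.Limits AlgebraicGeometry TopologicalSpace Opposite
open Groth.PicAux (Gen pullSec res resX pullSec_smul res_pullSec res_res res_smul)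

set_option maxHeartbeats 1600000
set_option backward.isDefEq.respectTransparency false
set_option backward.defeqAttrib.useBackward true
set_option backward.isDefEq.respectTransparency.types false

namespace Groth.PicCurve

variable {Y T : Scheme.{u}} (π : Y ⟶ T) (L : Y.Modules)

/-- No first cohomology and a line of sections on the fibre at `t`. -/
def GoodAt (t : T) : Prop :=
  Subsingleton (CohIII.fiberH π L t 1) ∧ CohIII.fiberRank π L 0 t = 1

/-- A section with nonzero restriction to every fibre over `W`. -/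
def FibNZ {W : T.Opens} (s : Γ(L, π ⁻¹ᵁ W)) : Prop :=
  ∀ t ∈ W, pullSec (π.fiberι t) L s ≠ 0

variable {π L}

/-- A function vanishing at `t` vanishes on the fibre at `t`. -/
theorem fiberι_app_eq_zero {W : T.Opens} {t : T} (ht : t ∈ W) {r : Γ(T, W)}
    (hr : T.evaluation W t ht r = 0) : (π.fiberι t).app (π ⁻¹ᵁ W) (π.app W r) = 0 := by
  have h1 : (T.fromSpecResidueField t).app W r = 0 := by
    have hbot : (T.fromSpecResidueField t) ⁻¹ᵁ (T.basicOpen r) = ⊥ :=
      le_bot_iff.1 fun z hz => by
        have : t ∈ T.basicOpen r := Scheme.fromSpecResidueField_apply t z ▸ hz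
        exact (T.evaluation_ne_zero_iff_mem_basicOpen t ht r).2 this hr
    rw [Scheme.preimage_basicOpen] at hbot
    have : IsReduced (Spec (T.residueField t)) := inferInstance
    exact (basicOpen_eq_bot_iff _).1 hbot
  have e' := ConcreteCategory.congr_hom (Scheme.Hom.congr_app (π.fiber_fac t) W) r
  simp only [Scheme.Hom.comp_app, CommRingCat.comp_apply] at e'
  rw [h1, map_zero, map_zero] at e'
  exact e'

variable [IsProper π] [LocallyOfFinitePresentation π] [Flat π]

theorem model_hyps (hL : PicF.IsInvertible L) :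
    L.IsQuasicoherent ∧ CohB1.IsFP L ∧ FlatMod.IsFlatOver π L := by
  have hfr : FlatMod.IsFinLocFree L :=
    Groth.LocFree.isFinLocFree_of_rank (Groth.LocFree.isInvertible_iff_ofRank_one.1 hL)
  exact ⟨KTheory.LocFree.isQCoh hfr, Groth.PropsBasic.LocFree.isFP_of_isFinLocFree L hfr,
    Groth.Abvar.Seesaw.isFlatOver_of_isInvertible π hL⟩

/-- The good locus is open. -/
theorem isOpen_goodAt (hL : PicF.IsInvertible L) : IsOpen {t | GoodAt π L t} := by
  obtain ⟨_, hfp, hfl⟩ := model_hyps (π := π) hL
  refine isOpen_iff_forall_mem_open.2 fun t ht => ?_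
  obtain ⟨V, hV, M, hy⟩ := Groth.CohC3.BC.exists_local hfp hfl t
  have := M.finitePresentation 0
  have := M.flat_zero
  have : Module.Projective Γ(T, V) (M.Q 0) := Module.Flat.projective_of_finitePresentation
  obtain ⟨U, hU⟩ := Groth.CohC3.BC.exists_vanish_open hfp hfl 1
  obtain ⟨⟨-, h1⟩, -⟩ := Groth.CohC3.BC.mem_freeLocus_of_vanish hV M hy 1 ht.1
  obtain ⟨W, htW, hW⟩ := Groth.CohC3.BC.exists_open_free_const 0 hV M hy
    (Module.freeLocus_eq_univ (R := Γ(T, V)) (M := M.Q 0) ▸ trivial) h1
  exact ⟨↑(U ⊓ W), fun z hz => ⟨(hU z).1 hz.1, (hW z hz.2).1.trans ht.2⟩, (U ⊓ W).2,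
    ⟨(hU t).2 ht.1, htW⟩⟩

/-- Good points are good for base change in degree zero. -/
theorem bc0_goodAt (hL : PicF.IsInvertible L) {t : T} (ht : GoodAt π L t) :
    haveI := (model_hyps (π := π) hL).1
    Groth.Limits.BC0.GoodAt π L t := by
  obtain ⟨_, hfp, hfl⟩ := model_hyps (π := π) hL
  obtain ⟨V, hV, M, hy⟩ := Groth.CohC3.BC.exists_local hfp hfl t
  obtain ⟨⟨-, h1⟩, -⟩ := Groth.CohC3.BC.mem_freeLocus_of_vanish hV M hy 1 ht.1
  obtain ⟨c, hc, hgood⟩ := Groth.Limits.BC0.exists_goodAway M hV hy h1
  exact ⟨V, hV, M, c, hc, hgood⟩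

/-- Goodness only depends on the field point. -/
theorem goodAt_baseChange_iff {Y' T' : Scheme.{u}} {π' : Y' ⟶ T'} {g' : Y' ⟶ Y} {g : T' ⟶ T}
    (hc : IsPullback g' π' π g) [IsProper π'] (hL : PicF.IsInvertible L) (t' : T') :
    GoodAt π' ((Scheme.Modules.pullback g').obj L) t' ↔ GoodAt π L (g t') := by
  have := (model_hyps (π := π) hL).1
  have e : ∀ p, CohIII.fiberRank π' ((Scheme.Modules.pullback g').obj L) p t' =
      CohIII.fiberRank π L p (g t') := fun p => Groth.CohTwo.betti_baseChange hc L t' p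
  have fin : ∀ {Z B : Scheme.{u}} (q : Z ⟶ B) [IsProper q] (G : Z.Modules),
      PicF.IsInvertible G → ∀ b, Module.Finite (B.residueField b) (CohIII.fiberH q G b 1) := by
    intro Z B q _ G hG b
    letI : (q.fiber b).Over (Spec (CommRingCat.of (B.residueField b))) :=
      ⟨q.fiberToSpecResidueField b⟩
    have : IsProper (q.fiber b ↘ Spec (CommRingCat.of (B.residueField b))) :=
      MorphismProperty.pullback_snd _ _ ‹IsProper q›
    have : IsProper (q.fiberToSpecResidueField b) :=
      MorphismProperty.pullback_snd _ _ ‹IsProper q›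
    exact Groth.CohFin.hFin_of_proper Groth.CohFin.projFinite 1 _ (q.fiberToSpecResidueField b)
      (CohIII.fiberMod q G b)
      (Groth.EulerDeg.isCoh_of_isInvertible (Groth.PicAux.isInvertible_pullback _ hG))
  have := fin π L hL (g t')
  have := fin π' _ (Groth.PicAux.isInvertible_pullback g' hL) t'
  refine and_congr ?_ (by rw [e 0])
  rw [← Module.finrank_eq_zero_iff_of_free (R := T'.residueField t'),
    ← Module.finrank_eq_zero_iff_of_free (R := T.residueField (g t'))]
  exact Iff.of_eq (congrArg (· = 0) (e 1))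

/-- The image of a generator of the direct image generates on a fibre and does not vanish. -/
theorem exists_gen_push (hL : PicF.IsInvertible L) {t : T} (ht : GoodAt π L t) {O : T.Opens}
    (hO : t ∈ O) : ∃ (W : T.Opens) (σ : Γ(L, π ⁻¹ᵁ W)), W ≤ O ∧ t ∈ W ∧
      Gen ((Scheme.Modules.pushforward π).obj L) W σ ∧ FibNZ π L σ := by
  obtain ⟨_, hfp, hfl⟩ := model_hyps (π := π) hL
  let G : T.Opens := ⟨{z | GoodAt π L z}, isOpen_goodAt hL⟩
  obtain ⟨W, n, b, hW, htW, hb⟩ := Groth.Limits.BC0.exists_basis_of_goodAt (bc0_goodAt hL ht)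
    (U := O ⊓ G) ⟨hO, ht⟩
  -- on each fibre the basis restricts to a basis
  have key : ∀ z ∈ W, ∃ s : Fin n → Γ(CohIII.fiberMod π L z, (⊤ : (π.fiber z).Opens)),
      (∀ l, pullSec (π.fiberι z) L (b l) = 0 → s l = 0) ∧
      Function.Bijective fun r : Fin n → T.residueField z =>
        ∑ l, (show Γ(π.fiber z, (⊤ : (π.fiber z).Opens)) from
          Coh.toGlobal (π.fiberToSpecResidueField z) (r l)) • s l := by
    intro z hz
    let g := T.fromSpecResidueField z
    have h : IsPullback (π.fiberι z) (π.fiberToSpecResidueField z) π g := IsPullback.of_hasPullback _ _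
    have := Groth.Limits.BC0.isIso_bc0_of_good (F := L) h fun y => bc0_goodAt hL
      (by rw [Scheme.fromSpecResidueField_apply]; exact (hW hz).2)
    let β := CohBC.bc0 π g (π.fiberToSpecResidueField z) (π.fiberι z) h.w L
    have htop : (⊤ : (Spec (T.residueField z)).Opens) ≤ g ⁻¹ᵁ W := fun y _ => by
      show g y ∈ W
      rw [Scheme.fromSpecResidueField_apply]; exact hz
    have e₁ : π.fiberToSpecResidueField z ⁻¹ᵁ ⊤ ≤ π.fiberι z ⁻¹ᵁ (π ⁻¹ᵁ W) := fun y _ => by
      show π (π.fiberι z y) ∈ W
      rw [← Scheme.Hom.comp_apply, π.fiber_fac, Scheme.Hom.comp_apply,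
        Scheme.fromSpecResidueField_apply]
      exact hz
    have hb' := ((hb.pull g).res' htop).map β
    refine ⟨fun l => QCohMod.res _ e₁ (pullSec (π.fiberι z) L (b l)), fun l hl => by
      simp only [hl, map_zero], ?_⟩
    have hfun : (fun l => β.app ⊤ (res _ htop (pullSec g _ (b l)))) =
        fun l => (QCohMod.res _ e₁ (pullSec (π.fiberι z) L (b l)) :
          Γ((Scheme.Modules.pushforward (π.fiberToSpecResidueField z)).obj (CohIII.fiberMod π L z),
            (⊤ : (Spec (T.residueField z)).Opens))) :=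
      funext fun l => Groth.CohBase.AffineBC.bcHom_pullSec h.w L htop e₁ (b l)
    rw [hfun] at hb'
    have hbij := hb' ⊤ le_rfl
    simp only [Groth.PicAux.res_self] at hbij
    exact hbij.comp (Function.Bijective.piMap fun _ : Fin n =>
      (Scheme.ΓSpecIso (T.residueField z)).symm.commRingCatIsoToRingEquiv.bijective)
  obtain rfl : n = 1 := by
    obtain ⟨s, -, hs⟩ := key t htW
    let Ω := T.residueField t
    letI : (π.fiber t).Over (Spec (CommRingCat.of Ω)) := ⟨π.fiberToSpecResidueField t⟩
    let e := EulerDeg.h0Equiv Ω (CohIII.fiberMod π L t)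
    let ψ : (Fin n → Ω) →ₗ[Ω] CohIII.fiberH π L t 0 :=
      Fintype.linearCombination Ω fun l => e.symm (s l)
    have hψ : Function.Bijective ψ := by
      have he : (fun r : Fin n → Ω => ∑ l, (show Γ(π.fiber t, (⊤ : (π.fiber t).Opens)) from
          Coh.toGlobal (π.fiberToSpecResidueField t) (r l)) • s l) =
          e ∘ ψ := funext fun r => by
        simp only [Function.comp_apply, ψ, Fintype.linearCombination_apply, map_sum]
        refine Finset.sum_congr rfl fun l _ => ?_
        refine Eq.trans ?_ (e.map_smul (r l) (e.symm (s l))).symm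
        rw [e.apply_symm_apply, Groth.EulerDeg.smul_sec]
        exact congrArg (· • s l) (Groth.PicAux.resX_self _ _).symm
      rw [he] at hs
      exact (Function.Bijective.of_comp_iff' e.bijective ψ).1 hs
    have := (LinearEquiv.ofBijective ψ hψ).finrank_eq
    rw [Module.finrank_pi, Fintype.card_fin] at this
    exact this.trans ht.2
  refine ⟨W, b 0, hW.trans inf_le_left, htW, fun V hV => ?_, fun z hz h0 => ?_⟩
  · have := (hb V hV).comp (Equiv.funUnique (Fin 1) Γ(T, V)).symm.bijective
    simpa [Function.comp_def] using this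
  · obtain ⟨s, hs0, hs⟩ := key z hz
    have hne : (Pi.single 0 1 : Fin 1 → T.residueField z) ≠ 0 := by simp
    refine hne (hs.1 ?_)
    simp [hs0 0 h0]

/-- Two fibrewise nonvanishing sections differ by a unit near every good point. -/
theorem exists_unit_smul (hL : PicF.IsInvertible L) {W : T.Opens} {t : T} (htW : t ∈ W)
    (ht : GoodAt π L t) {s s' : Γ(L, π ⁻¹ᵁ W)} (hs : FibNZ π L s) (hs' : FibNZ π L s') :
    ∃ (W' : T.Opens) (hW' : W' ≤ W) (u : Γ(T, W')), t ∈ W' ∧ IsUnit u ∧
      res L (π.preimage_mono hW') s' = π.app W' u • res L (π.preimage_mono hW') s := by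
  obtain ⟨V, σ, hV, htV, hσ, -⟩ := exists_gen_push hL ht htW
  have coef : ∀ x : Γ(L, π ⁻¹ᵁ W), FibNZ π L x → ∃ r : Γ(T, V), t ∈ T.basicOpen r ∧
      res L (π.preimage_mono hV) x = π.app V r • σ := by
    intro x hx
    obtain ⟨r, hr⟩ := hσ.exists_coeff le_rfl
      (show Γ((Scheme.Modules.pushforward π).obj L, V) from res L (π.preimage_mono hV) x)
    have hr' : res L (π.preimage_mono hV) x = π.app V r • σ := by
      refine hr.trans ?_
      rw [Groth.PicAux.res_self]
      rfl
    refine ⟨r, ?_, hr'⟩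
    by_contra h
    refine hx t htW ?_
    have h0 : T.evaluation V t htV r = 0 := (T.evaluation_eq_zero_iff_notMem_basicOpen t htV r).2 h
    have h1 := congrArg (pullSec (π.fiberι t) L) hr'
    rw [pullSec_smul, fiberι_app_eq_zero htV h0, zero_smul, ← res_pullSec] at h1
    have e : (π.fiberι t) ⁻¹ᵁ (π ⁻¹ᵁ W) ≤ (π.fiberι t) ⁻¹ᵁ (π ⁻¹ᵁ V) := fun y _ => by
      show π (π.fiberι t y) ∈ V
      rw [← Scheme.Hom.comp_apply, π.fiber_fac, Scheme.Hom.comp_apply,
        Scheme.fromSpecResidueField_apply]
      exact htV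
    have := congrArg (res ((Scheme.Modules.pullback (π.fiberι t)).obj L) e) h1
    rwa [res_res, Groth.PicAux.res_self, Groth.PicAux.res_zero] at this
  obtain ⟨a, hta, ha⟩ := coef s hs
  obtain ⟨a', hta', ha'⟩ := coef s' hs'
  let W' := T.basicOpen a ⊓ T.basicOpen a'
  have hle : W' ≤ V := inf_le_left.trans (T.basicOpen_le a)
  have hua : IsUnit (resX T hle a) := by
    have := (RingedSpace.isUnit_res_basicOpen T.toRingedSpace a).map
      (resX T (inf_le_left : W' ≤ T.basicOpen a))
    exact (congrArg IsUnit (Groth.PicAux.resX_resX (T.basicOpen_le a)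
      (inf_le_left : W' ≤ T.basicOpen a) a)).mp this
  have hua' : IsUnit (resX T hle a') := by
    have := (RingedSpace.isUnit_res_basicOpen T.toRingedSpace a').map
      (resX T (inf_le_right : W' ≤ T.basicOpen a'))
    exact (congrArg IsUnit (Groth.PicAux.resX_resX (T.basicOpen_le a')
      (inf_le_right : W' ≤ T.basicOpen a') a')).mp this
  refine ⟨W', hle.trans hV, resX T hle a' * ↑hua.unit⁻¹, ⟨hta, hta'⟩,
    hua'.mul (Units.isUnit _), ?_⟩
  have hnat : ∀ r : Γ(T, V), π.app W' (resX T hle r) = resX Y (π.preimage_mono hle) (π.app V r) :=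
    fun r => congr($(π.naturality (homOfLE hle).op) r)
  have hx : ∀ (x : Γ(L, π ⁻¹ᵁ W)) (r : Γ(T, V)), res L (π.preimage_mono hV) x = π.app V r • σ →
      res L (π.preimage_mono (hle.trans hV)) x = π.app W' (resX T hle r) • res L (π.preimage_mono hle) σ := by
    intro x r h
    have := congrArg (res L (π.preimage_mono hle)) h
    rwa [res_res, res_smul, ← hnat] at this
  rw [hx s a ha, hx s' a' ha', ← mul_smul, ← map_mul, mul_assoc, IsUnit.val_inv_mul, mul_one]

end Groth.PicCurve
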