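import Groth.Agent.PicCurve.Glue
import Mathlib.AlgebraicGeometry.OpenImmersion

/-!
# Sections along open immersions, and the data for gluing rigidified modules
-/

universe u

open CategoryTheory CategoryTheory.Limits AlgebraicGeometry TopologicalSpace Opposite
open Groth.PicAux

set_option maxHeartbeats 1600000
set_option backward.isDefEq.respectTransparency false
set_option backward.defeqAttrib.useBackward true
set_option backward.isDefEq.respectTransparency.types false

namespace Groth.PicCurve.Glue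

variable {A Z Z' Y : Scheme.{u}}

theorem app_bijective (j : Z ⟶ Y) [IsOpenImmersion j] {U : Y.Opens} (hU : U ≤ j.opensRange) :
    Function.Bijective (j.app U) :=
  haveI := Scheme.Hom.isIso_app j U hU
  ConcreteCategory.bijective_of_isIso _

theorem res_bijective_of_eq {M : Y.Modules} {U V : Y.Opens} (h : U = V) (h' : V ≤ U) :
    Function.Bijective (res M h' : Γ(M, U) → Γ(M, V)) := by
  subst h
  exact Function.bijective_iff_has_inverse.2 ⟨id, fun x => res_self _ _, fun x => res_self _ _⟩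

theorem pullSec_bijective (j : Z ⟶ Y) [IsOpenImmersion j] (M : Y.Modules) {U : Y.Opens}
    (hU : U ≤ j.opensRange) : Function.Bijective (pullSec j M (U := U)) := by
  have e : j ''ᵁ j ⁻¹ᵁ U = U := by
    rw [Scheme.Hom.image_preimage_eq_opensRange_inf, inf_eq_right]; exact hU
  have h := (ConcreteCategory.bijective_of_isIso
    (((Scheme.Modules.restrictFunctorIsoPullback j).hom.app M).app (j ⁻¹ᵁ U))).comp
      (res_bijective_of_eq (M := M) e.symm (j.image_preimage_le U))
  rw [show (pullSec j M (U := U)) = fun m =>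
    ((Scheme.Modules.restrictFunctorIsoPullback j).hom.app M).app (j ⁻¹ᵁ U)
      (res M (j.image_preimage_le U) m : Γ(M, j ''ᵁ j ⁻¹ᵁ U)) from
    funext fun m => (restrictIso_pullSec j M m).symm]
  exact h

theorem app_eq_of_comp {B C : Scheme.{u}} (f : A ⟶ B) (j : B ⟶ Y) (g : A ⟶ C) (j' : C ⟶ Y)
    (e : f ≫ j = g ≫ j') (U : Y.Opens) (h : g ⁻¹ᵁ (j' ⁻¹ᵁ U) ≤ f ⁻¹ᵁ (j ⁻¹ᵁ U)) (r : Γ(Y, U)) :
    resX A h (f.app (j ⁻¹ᵁ U) (j.app U r)) = g.app (j' ⁻¹ᵁ U) (j'.app U r) := by
  have key : ∀ (a b : A ⟶ Y) (_ : a = b) (h : b ⁻¹ᵁ U ≤ a ⁻¹ᵁ U),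
      resX A h (a.app U r) = b.app U r := by
    rintro a b rfl h
    exact resX_self h _
  exact key (f ≫ j) (g ≫ j') e h

/-- A basis is detected on an open subscheme containing its domain. -/
theorem gen_of_gen_pullSec (j : Z ⟶ Y) [IsOpenImmersion j] {M : Y.Modules} {U : Y.Opens}
    (hU : U ≤ j.opensRange) {a : Γ(M, U)}
    (ha : Gen ((Scheme.Modules.pullback j).obj M) (j ⁻¹ᵁ U) (pullSec j M a)) : Gen M U a := by
  intro W hW
  have h1 := ha (j ⁻¹ᵁ W) (j.preimage_mono hW)
  have h2 : (fun r : Γ(Y, W) => pullSec j M (r • res M hW a)) =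
      (fun r => r • res _ (j.preimage_mono hW) (pullSec j M a)) ∘ (j.app W) := funext fun r => by
    rw [Function.comp_apply, pullSec_smul, res_pullSec]
  refine (Function.Bijective.of_comp_iff' (pullSec_bijective j M (hW.trans hU)) _).1 ?_
  show Function.Bijective fun r : Γ(Y, W) => pullSec j M (r • res M hW a)
  rw [h2]
  exact h1.comp (app_bijective j (hW.trans hU))

/-- A basis of a direct image along an open immersion. -/
theorem gen_push_iff (j : Z ⟶ Y) [IsOpenImmersion j] (L : Z.Modules) {U : Y.Opens}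
    (hU : U ≤ j.opensRange) (a : Γ(L, j ⁻¹ᵁ U)) :
    Gen ((Scheme.Modules.pushforward j).obj L) U a ↔ Gen L (j ⁻¹ᵁ U) a := by
  have key : ∀ (W : Y.Opens) (hW : W ≤ U),
      (fun r : Γ(Y, W) => r • res ((Scheme.Modules.pushforward j).obj L) hW a) =
        (fun r : Γ(Z, j ⁻¹ᵁ W) => r • res L (j.preimage_mono hW) a) ∘ (j.app W) :=
    fun W hW => rfl
  refine ⟨fun h W hW => ?_, fun h W hW => ?_⟩
  · obtain ⟨W', hW', rfl⟩ : ∃ W' : Y.Opens, W' ≤ U ∧ j ⁻¹ᵁ W' = W :=
      ⟨j ''ᵁ W, (j.image_mono hW).trans (j.image_preimage_le U), Scheme.Hom.preimage_image_eq j W⟩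
    have h1 := h W' hW'
    rw [key W' hW'] at h1
    exact (Function.Bijective.of_comp_iff _ (app_bijective j (hW'.trans hU))).1 h1
  · rw [key W hW]
    exact (h _ _).comp (app_bijective j (hW.trans hU))

/-- Bases of the direct image exist near every point of the range. -/
theorem exists_gen_push_open (j : Z ⟶ Y) [IsOpenImmersion j] {L : Z.Modules}
    (hL : PicF.IsInvertible L) {x : Y} (hx : x ∈ j.opensRange) :
    ∃ (U : Y.Opens) (a : Γ(L, j ⁻¹ᵁ U)), x ∈ U ∧ U ≤ j.opensRange ∧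
      Gen ((Scheme.Modules.pushforward j).obj L) U a := by
  obtain ⟨z, rfl⟩ := hx
  obtain ⟨W, a, hzW, ha⟩ := (isInvertible_iff_exists_gen L).1 hL z
  have hle : j ''ᵁ W ≤ j.opensRange := fun y hy => by
    obtain ⟨w, -, rfl⟩ := hy; exact ⟨w, rfl⟩
  exact ⟨j ''ᵁ W, res L (Scheme.Hom.preimage_image_eq j W).le a, ⟨z, hzW, rfl⟩, hle,
    (gen_push_iff j L hle _).2 (ha.res _)⟩

section Norm

variable {B B' : Scheme.{u}} (e : B ⟶ Y) (j : Z ⟶ Y) [IsOpenImmersion j] (p : B' ⟶ B)
  [IsOpenImmersion p] (s : B' ⟶ Z) (hs : s ≫ j = p ≫ e) (L : Z.Modules)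
  (θ : (Scheme.Modules.pullback s).obj L ≅ Coh.structureModule B')
  {O : Y.Opens} (hO : O ≤ j.opensRange) (he : ∀ U ≤ O, e ⁻¹ᵁ U ≤ p.opensRange)

include hs in
theorem preimage_eq_of_comp (U : Y.Opens) : p ⁻¹ᵁ (e ⁻¹ᵁ U) = s ⁻¹ᵁ (j ⁻¹ᵁ U) :=
  congrArg (fun f : B' ⟶ Y => f ⁻¹ᵁ U) hs.symm

/-- The value along the section, as a function on the piece. -/
noncomputable def normVal (U : Y.Opens) (a : Γ(L, j ⁻¹ᵁ U)) : Γ(B', p ⁻¹ᵁ (e ⁻¹ᵁ U)) :=
  resX B' (preimage_eq_of_comp e j p s hs U).le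
    (toFun (θ.hom.app (s ⁻¹ᵁ (j ⁻¹ᵁ U)) (pullSec s L a)))

/-- The functional of a module trivialised along a section. -/
noncomputable def normOf : Norm e ((Scheme.Modules.pushforward j).obj L) O where
  app U hU a :=
    (RingEquiv.ofBijective (p.app (e ⁻¹ᵁ U)).hom (app_bijective p (he U hU))).symm
      (normVal e j p s hs L θ U a)
  smul U hU r a := by
    apply (RingEquiv.ofBijective (p.app (e ⁻¹ᵁ U)).hom (app_bijective p (he U hU))).injective
    rw [map_mul, RingEquiv.apply_symm_apply, RingEquiv.apply_symm_apply]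
    change normVal e j p s hs L θ U (j.app U r • (show Γ(L, j ⁻¹ᵁ U) from a)) =
      p.app (e ⁻¹ᵁ U) (e.app U r) * normVal e j p s hs L θ U a
    unfold normVal
    rw [pullSec_smul, Scheme.Modules.Hom.app_smul, toFun_smul, map_mul,
      app_eq_of_comp s j p e hs U]
  nat U W hU hW a := by
    apply (RingEquiv.ofBijective (p.app (e ⁻¹ᵁ W)).hom
      (app_bijective p (he W (hW.trans hU)))).injective
    rw [RingEquiv.apply_symm_apply]
    change normVal e j p s hs L θ W (res L (j.preimage_mono hW) a) =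
      p.app (e ⁻¹ᵁ W) (resX B (e.preimage_mono hW) _)
    rw [app_resX]
    refine Eq.trans ?_ (congrArg _
      ((RingEquiv.ofBijective (p.app (e ⁻¹ᵁ U)).hom (app_bijective p (he U hU))).apply_symm_apply
        (normVal e j p s hs L θ U a)).symm)
    unfold normVal
    rw [← res_pullSec s L (j.preimage_mono hW) a, app_res, toFun_res, resX_resX, resX_resX]
  unit U hU a ha := by
    refine IsUnit.map (RingEquiv.ofBijective (p.app (e ⁻¹ᵁ U)).hom
      (app_bijective p (he U hU))).symm ?_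
    refine IsUnit.map (resX B' (preimage_eq_of_comp e j p s hs U).le) ?_
    have hg := (((gen_push_iff j L (hU.trans hO) a).1 ha).pull s).map θ.hom
    obtain ⟨r, hr⟩ := hg.exists_coeff le_rfl (oneSec B' (s ⁻¹ᵁ (j ⁻¹ᵁ U)))
    rw [res_self] at hr
    have h1 := congrArg toFun hr
    rw [toFun_oneSec, toFun_smul] at h1
    exact IsUnit.of_mul_eq_one_right r h1.symm

end Norm

section Cmp

variable {W : Scheme.{u}} (j : Z ⟶ Y) (j' : Z' ⟶ Y) [IsOpenImmersion j] [IsOpenImmersion j']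
  (f : W ⟶ Z) (g : W ⟶ Z') [IsOpenImmersion g] (hfg : f ≫ j = g ≫ j') (L : Z.Modules) (L' : Z'.Modules)
  (ψ : (Scheme.Modules.pullback f).obj L ≅ (Scheme.Modules.pullback g).obj L')
  {O : Y.Opens} (hO : O ≤ j.opensRange) (hO' : O ≤ j'.opensRange)
  (hg : ∀ U ≤ O, j' ⁻¹ᵁ U ≤ g.opensRange)

include hfg in
theorem preimage_eq_of_comp' (U : Y.Opens) : g ⁻¹ᵁ (j' ⁻¹ᵁ U) = f ⁻¹ᵁ (j ⁻¹ᵁ U) :=
  congrArg (fun h : W ⟶ Y => h ⁻¹ᵁ U) hfg.symm

/-- The value of the comparison on the overlap. -/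
noncomputable def cmpVal (U : Y.Opens) (a : Γ(L, j ⁻¹ᵁ U)) :
    Γ((Scheme.Modules.pullback g).obj L', g ⁻¹ᵁ (j' ⁻¹ᵁ U)) :=
  res _ (preimage_eq_of_comp' j j' f g hfg U).le (ψ.hom.app (f ⁻¹ᵁ (j ⁻¹ᵁ U)) (pullSec f L a))

/-- The comparison coming from an isomorphism on the overlap. -/
noncomputable def cmpOf : Cmp ((Scheme.Modules.pushforward j).obj L)
    ((Scheme.Modules.pushforward j').obj L') O where
  app U hU a := (pullSec_bijective g L' (hg U hU)).2 (cmpVal j j' f g hfg L L' ψ U a) |>.choose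
  smul U hU r a := by
    apply (pullSec_bijective g L' (hg U hU)).1
    rw [((pullSec_bijective g L' (hg U hU)).2 _).choose_spec]
    change cmpVal j j' f g hfg L L' ψ U (j.app U r • (show Γ(L, j ⁻¹ᵁ U) from a)) =
      pullSec g L' (j'.app U r • ((pullSec_bijective g L' (hg U hU)).2 _).choose : Γ(L', j' ⁻¹ᵁ U))
    rw [pullSec_smul, ((pullSec_bijective g L' (hg U hU)).2 _).choose_spec]
    unfold cmpVal
    rw [pullSec_smul, Scheme.Modules.Hom.app_smul, res_smul, app_eq_of_comp f j g j' hfg U]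
  nat U W' hU hW a := by
    apply (pullSec_bijective g L' (hg W' (hW.trans hU))).1
    rw [((pullSec_bijective g L' (hg W' (hW.trans hU))).2 _).choose_spec]
    change cmpVal j j' f g hfg L L' ψ W' (res L (j.preimage_mono hW) a) =
      pullSec g L' (res L' (j'.preimage_mono hW) ((pullSec_bijective g L' (hg U hU)).2 _).choose)
    rw [← res_pullSec, ((pullSec_bijective g L' (hg U hU)).2 _).choose_spec]
    unfold cmpVal
    rw [← res_pullSec f L (j.preimage_mono hW) a, app_res, res_res, res_res]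
  gen U hU a ha := by
    refine (gen_push_iff j' L' (hU.trans hO') _).2 ?_
    refine gen_of_gen_pullSec g (hg U hU) ?_
    rw [((pullSec_bijective g L' (hg U hU)).2 _).choose_spec]
    exact ((((gen_push_iff j L (hU.trans hO) a).1 ha).pull f).map ψ.hom).res _

end Cmp

end Groth.PicCurve.Glue
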