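import Groth.Agent.PicCurve.Abel
import Groth.Agent.S12411
import Groth.Agent.EulerDeg.Tensor
import Groth.Agent.CohBase.FibreBC
import Groth.Agent.Curves1.RR.Numerics
import Groth.Prelude.Def_AbDual
import Mathlib

/-!
# The degree of a class along the fibres of a family of curves
-/

universe u

open CategoryTheory CategoryTheory.Limits AlgebraicGeometry TopologicalSpace Opposite
open Groth.Abvar.PicCalc

set_option maxHeartbeats 1600000
set_option backward.isDefEq.respectTransparency false
set_option backward.defeqAttrib.useBackward true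
set_option backward.isDefEq.respectTransparency.types false

namespace Groth.PicCurve

variable {X T : Scheme.{u}} (π : X ⟶ T)

noncomputable local instance overFibre (t : T) :
    (π.fiber t).Over (Spec (CommRingCat.of (T.residueField t))) :=
  ⟨π.fiberToSpecResidueField t⟩

/-- The Euler characteristic on the fibre at `t`. -/
noncomputable def fibEuler (L : X.Modules) (t : T) : ℤ :=
  ∑ᶠ i : ℕ, (-1 : ℤ) ^ i * (CohIII.fiberRank π L i t : ℤ)

theorem fibEuler_eq (L : X.Modules) (t : T) :
    fibEuler π L t = Curv2.euler (T.residueField t) (π.fiber t) (CohIII.fiberMod π L t) := rfl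

theorem fibEuler_congr {L M : X.Modules} (e : L ≅ M) (t : T) : fibEuler π L t = fibEuler π M t :=
  Groth.EulerDeg.euler_congr (T.residueField t) ((Scheme.Modules.pullback (π.fiberι t)).mapIso e)

theorem fibEuler_structure (t : T) : fibEuler π (Coh.structureModule X) t =
    Curv2.euler (T.residueField t) (π.fiber t) (Coh.structureModule (π.fiber t)) := by
  obtain ⟨e⟩ := Groth.PicAux.pullback_structure_iso (π.fiberι t)
  exact Groth.EulerDeg.euler_congr (T.residueField t) e

/-- The degree of a class on the fibre at `t`. -/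
noncomputable def degC (c : PicLoc.PicSet X) (t : T) : ℤ :=
  fibEuler π (PicGrp.exists_eq_cls c).choose t - fibEuler π (Coh.structureModule X) t

theorem degC_cls {L : X.Modules} (hL : PicF.IsInvertible L) (t : T) :
    degC π (cls hL) t = fibEuler π L t - fibEuler π (Coh.structureModule X) t := by
  obtain ⟨hM, h⟩ := (PicGrp.exists_eq_cls (cls hL)).choose_spec
  obtain ⟨e⟩ := (nonempty_iso_iff hL hM).2 h
  rw [degC, fibEuler_congr π e t]

theorem degC_eq_deg {L : X.Modules} (hL : PicF.IsInvertible L) (t : T) :
    degC π (cls hL) t =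
      Curv2.deg (T.residueField t) (π.fiber t) (CohIII.fiberMod π L t) 1 := by
  rw [degC_cls, fibEuler_structure, fibEuler_eq, Curv2.deg, Nat.cast_one, one_mul]

theorem degC_one (t : T) : degC π 1 t = 0 := by
  rw [show (1 : PicLoc.PicSet X) = cls (PicLoc.isInvertible_structureModule X) from
    ((nonempty_iso_structure_iff _).1 ⟨Iso.refl _⟩).symm, degC_cls, sub_self]

theorem degC_mul [IsProper π] (hdim : ∀ t : T, topologicalKrullDim ↥(π.fiber t) = 1)
    (a b : PicLoc.PicSet X) (t : T) : degC π (a * b) t = degC π a t + degC π b t := by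
  obtain ⟨L, hL, rfl⟩ := PicGrp.exists_eq_cls a
  obtain ⟨M, hM, rfl⟩ := PicGrp.exists_eq_cls b
  rw [← cls_tensorMod hL hM, degC_eq_deg, degC_eq_deg, degC_eq_deg]
  have : IsProper (π.fiber t ↘ Spec (CommRingCat.of (T.residueField t))) :=
    MorphismProperty.pullback_snd (P := @IsProper) _ _ ‹_›
  obtain ⟨e⟩ := Groth.PicAux.pullback_tensorMod (π.fiberι t) hL hM
  refine Eq.trans ?_ (Groth.EulerDeg.deg_tensor_invertible (T.residueField t) (hdim t).le
    (Groth.PicAux.isInvertible_pullback (π.fiberι t) hL)
    (Groth.PicAux.isInvertible_pullback (π.fiberι t) hM))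
  unfold Curv2.deg
  rw [show Curv2.euler (T.residueField t) (π.fiber t)
      (CohIII.fiberMod π (CohB1.tensorMod L M) t) = _ from
    Groth.EulerDeg.euler_congr (T.residueField t) e]

theorem degC_inv [IsProper π] (hdim : ∀ t : T, topologicalKrullDim ↥(π.fiber t) = 1)
    (a : PicLoc.PicSet X) (t : T) : degC π a⁻¹ t = -degC π a t := by
  have := degC_mul π hdim a⁻¹ a t
  rw [inv_mul_cancel, degC_one] at this
  omega

/-- The degree only depends on the field point. -/
theorem degC_baseChange [IsProper π] [LocallyOfFinitePresentation π] [Flat π]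
    {X' T' : Scheme.{u}} {π' : X' ⟶ T'} {g' : X' ⟶ X} {g : T' ⟶ T} (hsq : IsPullback g' π' π g)
    (c : PicLoc.PicSet X) (t' : T') : degC π' (pull g' c) t' = degC π c (g t') := by
  obtain ⟨L, hL, rfl⟩ := PicGrp.exists_eq_cls c
  have key : ∀ {M : X.Modules}, PicF.IsInvertible M →
      fibEuler π' ((Scheme.Modules.pullback g').obj M) t' = fibEuler π M (g t') := fun {M} hM => by
    have := (model_hyps (π := π) hM).1
    unfold fibEuler
    refine finsum_congr fun i => ?_
    rw [show CohIII.fiberRank π' ((Scheme.Modules.pullback g').obj M) i t' = _ from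
      Groth.CohTwo.betti_baseChange hsq M t' i]
    rfl
  obtain ⟨e⟩ := Groth.PicAux.pullback_structure_iso g'
  rw [pull_cls, degC_cls, degC_cls, key hL, ← fibEuler_congr π' e,
    key (PicLoc.isInvertible_structureModule X)]

/-- The Euler characteristic of a fibre of dimension at most one. -/
theorem fibEuler_eq_sub [IsProper π] (hdim : ∀ t : T, topologicalKrullDim ↥(π.fiber t) = 1)
    (L : X.Modules) (t : T) :
    fibEuler π L t = (CohIII.fiberRank π L 0 t : ℤ) - CohIII.fiberRank π L 1 t := by
  have : IsProper (π.fiber t ↘ Spec (CommRingCat.of (T.residueField t))) :=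
    MorphismProperty.pullback_snd (P := @IsProper) _ _ ‹_›
  have := Groth.EulerDeg.isNoetherian_of_proper (T.residueField t) (X := π.fiber t)
  exact Groth.EulerDeg.euler_eq_sub fun n hn =>
    Groth.EulerDeg.subsingleton_HH_of_dim_le_one _ (hdim t).le _ n hn

variable [IsProper π] [Smooth π] [GeometricallyConnected π]
  (hdim : ∀ t : T, topologicalKrullDim ↥(π.fiber t) = 1)

include hdim in
/-- The degree of the divisor of a section is one. -/
theorem degC_divCls_section {γ : T ⟶ X} (hγ : γ ≫ π = 𝟙 T) (hI : BlowUp.IsEffCartierIdeal γ.ker)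
    (t : T) : degC π (divCls hI) t = 1 := by
  obtain ⟨L, hL, s, -, hc⟩ := exists_section hI
  have h : ClSub.IsInverseOf L (ClSub.idealMod γ.ker) :=
    (PicGrp.cls_mul_cls_eq_one_iff hL (Groth.PicAux.isInvertible_idealMod hI)).1 (by
      show cls hL * cls (Groth.PicAux.isInvertible_idealMod hI) = 1
      rw [hc, divCls, inv_mul_cancel])
  rw [← hc, degC_eq_deg]
  exact Groth.Limits.BC0.CurveSection.deg_fiber π hdim γ hγ hL h t

include hdim in
/-- In genus one a class of degree one is good. -/
theorem goodC_of_degC (c : PicLoc.PicSet X) (t : T)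
    (hg : CohIII.fiberRank π (Coh.structureModule X) 1 t = 1) (hd : degC π c t = 1) :
    GoodC π c t := by
  obtain ⟨L, hL, rfl⟩ := PicGrp.exists_eq_cls c
  rw [goodC_cls]
  obtain ⟨hint, hp, h0⟩ := Groth.Limits.BC0.fiber_curve π hdim t
  have hg' : Curv2.genus (T.residueField t) (π.fiber t) = 1 :=
    (Groth.Limits.BC0.genus_fiber π t).trans hg
  have h1 : Subsingleton (CohIII.fiberH π L t 1) := by
    refine Groth.Curves1.RR.subsingleton_h1_of_deg_ge (T.residueField t) (hdim t).le h0
      (Groth.PicAux.isInvertible_pullback (π.fiberι t) hL) ?_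
    rw [hg', ← degC_eq_deg π hL t, hd]
    norm_num
  refine ⟨h1, ?_⟩
  have e0 : CohIII.fiberRank π (Coh.structureModule X) 0 t = 1 := by
    obtain ⟨e⟩ := Groth.PicAux.pullback_structure_iso (π.fiberι t)
    exact (Groth.EulerDeg.finrank_congr (k := T.residueField t) e 0).trans h0
  have h1' : CohIII.fiberRank π L 1 t = 0 :=
    Module.finrank_zero_of_subsingleton (M := CohIII.fiberH π L t 1)
  rw [degC_cls, fibEuler_eq_sub π hdim, fibEuler_eq_sub π hdim, e0, hg, h1'] at hd
  omega

omit [Smooth π] [GeometricallyConnected π] in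
include hdim in
/-- The degree on a geometric fibre. -/
theorem curveDeg_eq_degC [LocallyOfFinitePresentation π] [Flat π] {L : X.Modules}
    (hL : PicF.IsInvertible L) {Ω : Type u} [Field Ω] (τ : Spec (CommRingCat.of Ω) ⟶ T) {t : T}
    (ht : Set.range τ.base = {t}) :
    Pic13.curveDeg Ω (pullback.snd π τ) ((Scheme.Modules.pullback (pullback.fst π τ)).obj L) =
      degC π (cls hL) t := by
  obtain ⟨⟨t', φ⟩, rfl⟩ := (Scheme.SpecToEquivOfField Ω T).symm.surjective τ
  obtain rfl : t' = t := by
    have h : (Spec.map φ ≫ T.fromSpecResidueField t') (IsLocalRing.closedPoint Ω) ∈ ({t} : Set T) :=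
      ht ▸ ⟨_, rfl⟩
    rw [Scheme.Hom.comp_apply, Scheme.fromSpecResidueField_apply] at h
    exact h
  let K := T.residueField t'
  let τ := (Scheme.SpecToEquivOfField Ω T).symm ⟨t', φ⟩
  letI : Algebra K Ω := φ.hom.toAlgebra
  let Y := pullback π τ
  letI : Y.Over (Spec (CommRingCat.of Ω)) := ⟨pullback.snd π τ⟩
  let h : Y ⟶ π.fiber t' :=
    pullback.lift (pullback.fst π τ) (pullback.snd π τ ≫ Spec.map φ) (by
      rw [Category.assoc (pullback.snd π τ) (Spec.map φ)]
      exact pullback.condition)
  have hsq : Groth.CohBase.IsBC (A := K) (A' := Ω) h := by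
    refine IsPullback.of_right (h₁₂ := π.fiberι t') (v₁₃ := π) (h₂₂ := T.fromSpecResidueField t')
      ?_ (pullback.lift_snd _ _ _) (IsPullback.of_hasPullback _ _)
    rw [show h ≫ π.fiberι t' = pullback.fst π τ from pullback.lift_fst _ _ _]
    exact IsPullback.of_hasPullback π τ
  have : IsProper (π.fiberToSpecResidueField t') :=
    MorphismProperty.pullback_snd (P := @IsProper) _ _ ‹_›
  have : (π.fiber t').IsSeparated :=
    Groth.CohFin.isSeparated_of_proper (A := K) (π.fiberToSpecResidueField t')
  have : CompactSpace (π.fiber t') :=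
    Groth.CohFin.compactSpace_of_proper (A := K) (π.fiberToSpecResidueField t')
  have key : ∀ {M : X.Modules}, PicF.IsInvertible M → ∀ p : ℕ,
      Module.finrank Ω (Coh.HH Y ((Scheme.Modules.pullback (pullback.fst π τ)).obj M) p) =
        CohIII.fiberRank π M p t' := fun {M} hM p => by
    have := (model_hyps (π := π) hM).1
    have := Groth.QCohMod.isQCoh_pullback_obj (π.fiberι t') M
    let θ : (Scheme.Modules.pullback h).obj (CohIII.fiberMod π M t') ≅
        (Scheme.Modules.pullback (pullback.fst π τ)).obj M :=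
      (Scheme.Modules.pullbackComp h (π.fiberι t')).app M ≪≫
        eqToIso (congrArg (fun a => (Scheme.Modules.pullback a).obj M)
          (show h ≫ π.fiberι t' = pullback.fst π τ from pullback.lift_fst _ _ _))
    exact ((Groth.EulerDeg.finrank_congr (k := Ω) θ p).symm.trans
      (Groth.CohTwo.finrank_HH_fieldExt hsq _ p))
  obtain ⟨e⟩ := Groth.PicAux.pullback_structure_iso (pullback.fst π τ)
  have keyO : ∀ p : ℕ, Module.finrank Ω (Coh.HH Y (Coh.structureModule Y) p) =
      CohIII.fiberRank π (Coh.structureModule X) p t' := fun p =>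
    (Groth.EulerDeg.finrank_congr (k := Ω) e p).symm.trans
      (key (PicLoc.isInvertible_structureModule X) p)
  rw [degC_cls, fibEuler_eq_sub π hdim, fibEuler_eq_sub π hdim]
  show FGA.eulerCharLE Ω Y _ 1 - FGA.eulerCharLE Ω Y (Coh.structureModule Y) 1 = _
  have k0 := key hL 0
  have k1 := key hL 1
  simp only [τ] at k0 k1
  simp only [FGA.eulerCharLE, Finset.sum_range_succ, Finset.sum_range_zero, k0, k1, keyO]
  ring

include hdim in
/-- Algebraic triviality on the geometric fibres is degree zero. -/
theorem isAlgTrivialAt_iff {L : X.Modules} (hL : PicF.IsInvertible L) (t : T) :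
    AbDual.IsAlgTrivialAt π L t ↔ degC π (cls hL) t = 0 := by
  have iff : ∀ (Ω : Type u) [Field Ω] [IsAlgClosed Ω] (τ : Spec (CommRingCat.of Ω) ⟶ T),
      Set.range τ.base = {t} →
      (@Pic13.IsAlgEquivZero Ω _ (pullback π τ) ⟨pullback.snd π τ⟩
        ((Scheme.Modules.pullback (pullback.fst π τ)).obj L) ↔ degC π (cls hL) t = 0) := by
    intro Ω _ _ τ hτ
    letI : (pullback π τ).Over (Spec (CommRingCat.of Ω)) := ⟨pullback.snd π τ⟩
    have : IsProper (pullback π τ ↘ Spec (CommRingCat.of Ω)) :=
      MorphismProperty.pullback_snd (P := @IsProper) _ _ ‹_›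
    have : Smooth (pullback π τ ↘ Spec (CommRingCat.of Ω)) :=
      MorphismProperty.pullback_snd (P := @Smooth) _ _ ‹_›
    have : GeometricallyConnected (pullback.snd π τ) :=
      MorphismProperty.pullback_snd (P := @GeometricallyConnected) _ _ ‹_›
    have : ConnectedSpace ↥(pullback π τ) :=
      GeometricallyConnected.connectedSpace_of_subsingleton (f := pullback.snd π τ)
    have hd : topologicalKrullDim ↥(pullback π τ) = 1 := by
      have h1 := dim_fiber_of_isPullback (IsPullback.of_hasPullback π τ) (IsLocalRing.closedPoint Ω)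
      rw [hdim] at h1
      refine Eq.trans ?_ h1
      refine (Homeomorph.isHomeomorph ?_).topologicalKrullDim_eq
      have hu : (pullback.snd π τ) ⁻¹' {IsLocalRing.closedPoint Ω} = Set.univ :=
        Set.eq_univ_of_forall fun y => Subsingleton.elim (α := PrimeSpectrum Ω) _ _
      exact (((pullback.snd π τ).fiberHomeo (IsLocalRing.closedPoint Ω)).trans
        ((Homeomorph.setCongr hu).trans (Homeomorph.Set.univ _))).symm
    rw [Groth.Agent.S12411.result Ω (pullback π τ) hd _
      (Groth.PicAux.isInvertible_pullback _ hL)]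
    exact Eq.congr (curveDeg_eq_degC π hdim hL τ hτ) rfl
  refine ⟨fun h => ?_, fun h Ω _ _ τ hτ => (iff Ω τ hτ).2 h⟩
  let K := T.residueField t
  let Ω := AlgebraicClosure K
  let τ : Spec (CommRingCat.of Ω) ⟶ T :=
    Spec.map (CommRingCat.ofHom (algebraMap K Ω)) ≫ T.fromSpecResidueField t
  have hτ : Set.range τ.base = {t} := by
    refine Set.eq_singleton_iff_unique_mem.2 ⟨⟨IsLocalRing.closedPoint Ω, ?_⟩, ?_⟩
    · exact Scheme.fromSpecResidueField_apply t _
    · rintro _ ⟨y, rfl⟩
      exact Scheme.fromSpecResidueField_apply t _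
  exact (iff Ω τ hτ).1 (h Ω τ hτ)

end Groth.PicCurve
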