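import Groth.Agent.PicCurve.RelPicBC
import Mathlib

/-!
# The degree zero part over an arbitrary base
-/

universe u

open CategoryTheory CategoryTheory.Limits AlgebraicGeometry TopologicalSpace Opposite
open Groth.Abvar.PicCalc

set_option maxHeartbeats 1600000
set_option backward.isDefEq.respectTransparency false
set_option backward.defeqAttrib.useBackward true
set_option backward.isDefEq.respectTransparency.types false

namespace Groth.PicCurve

/-- Geometric connectedness descends along surjective morphisms. -/
theorem geometricallyConnected_of_baseChange {Y S S' : Scheme.{u}} {w : Y ⟶ S} {h : S' ⟶ S}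
    [Surjective h] {Y' : Scheme.{u}} {a : Y' ⟶ Y} {w' : Y' ⟶ S'} (sq : IsPullback a w' w h)
    [GeometricallyConnected w'] : GeometricallyConnected w := by
  refine ⟨geometrically_iff_of_isClosedUnderIsomorphisms.mpr fun K _ x => ?_⟩
  obtain ⟨s', hs'⟩ := h.surjective (x (IsLocalRing.closedPoint K))
  obtain ⟨q, -, -⟩ := Scheme.Pullback.exists_preimage_pullback (f := x) (g := h)
    (IsLocalRing.closedPoint K) s' hs'.symm
  let L := (pullback x h).residueField q
  let z : Spec L ⟶ pullback x h := (pullback x h).fromSpecResidueField q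
  let y : Spec L ⟶ S' := z ≫ pullback.snd x h
  let ρ : Spec L ⟶ Spec (CommRingCat.of K) := z ≫ pullback.fst x h
  have hy : y ≫ h = ρ ≫ x := by
    rw [Category.assoc, Category.assoc, pullback.condition]
  have : Surjective ρ :=
    ⟨fun p => ⟨IsLocalRing.closedPoint L, Subsingleton.elim (α := PrimeSpectrum K) _ _⟩⟩
  have : ConnectedSpace (Spec L) := inferInstanceAs (ConnectedSpace (PrimeSpectrum L))
  have : ConnectedSpace ↥(pullback w' y) :=
    GeometricallyConnected.connectedSpace_of_subsingleton (f := pullback.snd w' y)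
  let m : pullback w' y ⟶ pullback w x :=
    pullback.lift (pullback.fst w' y ≫ a) (pullback.snd w' y ≫ ρ) (by
      rw [Category.assoc, sq.w, pullback.condition_assoc, hy]
      simp [ρ])
  have houter : IsPullback (pullback.fst w' y ≫ a) (pullback.snd w' y) w (y ≫ h) :=
    (IsPullback.of_hasPullback w' y).paste_horiz sq
  rw [hy] at houter
  have hsq : IsPullback m (pullback.snd w' y) (pullback.snd w x) ρ := by
    refine IsPullback.of_right (h₁₂ := pullback.fst w x) (h₂₂ := x) (v₁₃ := w) ?_
      (pullback.lift_snd _ _ _) (IsPullback.of_hasPullback w x)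
    rw [show m ≫ pullback.fst w x = pullback.fst w' y ≫ a from pullback.lift_fst _ _ _]
    exact houter
  have : Surjective m := MorphismProperty.of_isPullback (P := @Surjective) hsq.flip ‹_›
  exact m.surjective.connectedSpace m.continuous

variable {C S : Scheme.{u}} {f : C ⟶ S} [IsProper f] [Smooth f] [GeometricallyConnected f]
  (hdim : ∀ s : S, topologicalKrullDim ↥(f.fiber s) = 1)
  {P : Over S} {φ : ∀ T : Over S, PicF.Cl (PicF.XT f T) → (T ⟶ P)}
  (hP : AbDual.IsRelPicK Scheme.fppfPrecoverage f P φ) {W : P.left.Opens}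
  (hW : ∀ (T : Over S) (a : PicLoc.PicSet (PicF.XT f T)) (t : T.left),
      (φ T a.1).left t ∈ W ↔ degC (PicF.XTproj f T) a t = 0)

include hdim hP hW in
/-- The degree zero part of the Picard scheme of a family of curves is proper with geometrically
connected fibres. -/
theorem props_zero [LocallyOfFinitePresentation P.hom] :
    IsProper (W.ι ≫ P.hom) ∧ GeometricallyConnected (W.ι ≫ P.hom) := by
  have := Groth.GrpschAbsch.FibreFlat.geometricallyReduced_of_smooth f
  have := Groth.SmoothWeil.geometricallyIrreducible_of_connected f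
  have := GeometricallyIntegral.of_geometricallyReduced_of_geometricallyIrreducible f
  have : IsSeparated P.hom := Groth.Agent.S12413.result f P φ hP
  obtain ⟨_, _, _⟩ := family_hyps (f := f) (Over.mk f)
  let f' := pullback.snd f f
  have : IsProper f' := MorphismProperty.pullback_snd (P := @IsProper) _ _ ‹_›
  have : Smooth f' := MorphismProperty.pullback_snd (P := @Smooth) _ _ ‹_›
  have : GeometricallyConnected f' :=
    MorphismProperty.pullback_snd (P := @GeometricallyConnected) _ _ ‹_›
  have hdim' : ∀ c : C, topologicalKrullDim ↥(f'.fiber c) = 1 := family_dim hdim (Over.mk f)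
  let P' : Over C := Over.mk (pullback.snd P.hom f)
  have : IsSeparated P'.hom := MorphismProperty.pullback_snd (P := @IsSeparated) _ _ ‹_›
  have : LocallyOfFiniteType P'.hom :=
    MorphismProperty.pullback_snd (P := @LocallyOfFiniteType) _ _ inferInstance
  let W' : P'.left.Opens := pullback.fst P.hom f ⁻¹ᵁ W
  have hW' : ∀ (T : Over C) (a : PicLoc.PicSet (PicF.XT f' T)) (t : T.left),
      (RelBC.phi f φ T a.1).left t ∈ W' ↔ degC (PicF.XTproj f' T) a t = 0 := by
    intro T a t
    let ι := RelBC.xtIso f f T
    obtain ⟨_, _, _⟩ := family_hyps (f := f) (RelBC.toBase f T)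
    obtain ⟨_, _, _⟩ := family_hyps (f := f') T
    have : IsIso (𝟙 T.left) := IsIso.id T.left
    have hsq : IsPullback ι.inv (PicF.XTproj f (RelBC.toBase f T)) (PicF.XTproj f' T) (𝟙 T.left) :=
      IsPullback.of_horiz_isIso ⟨by
        refine Eq.trans ?_ (Category.comp_id _).symm
        rw [Iso.inv_comp_eq]; exact (RelBC.xtIso_proj f f T).symm⟩
    have h1 := hW (RelBC.toBase f T) (pull ι.inv a) t
    rw [degC_baseChange _ hsq a t] at h1
    show (pullback.fst P.hom f) ((RelBC.phi f φ T a.1).left t) ∈ W ↔ _
    have h2 : (pullback.fst P.hom f) ((RelBC.phi f φ T a.1).left t) =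
        (φ (RelBC.toBase f T) (pull ι.inv a).1).left t :=
      congrArg (fun m => m t) (RelBC.phi_fst (h := f) (φ := φ) T a.1)
    rw [h2]
    exact h1
  have hP' := RelBC.isRelPicK (h := f) hP
  have hprop : IsProper (W'.ι ≫ P'.hom) :=
    isProper_zero hdim' hP' hW' (e := pullback.diagonal f) (pullback.diagonal_snd _)
  have hconn : GeometricallyConnected (W'.ι ≫ P'.hom) :=
    geometricallyConnected_zero hdim' hP' hW' (e := pullback.diagonal f) (pullback.diagonal_snd _)
  have sq : IsPullback ((pullback.fst P.hom f) ∣_ W) (W'.ι ≫ P'.hom) (W.ι ≫ P.hom) f :=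
    (isPullback_morphismRestrict (pullback.fst P.hom f) W).paste_vert
      (IsPullback.of_hasPullback P.hom f)
  refine ⟨?_, geometricallyConnected_of_baseChange sq⟩
  exact MorphismProperty.of_isPullback_of_descendsAlong (P := @IsProper) (Q := Groth.EtaleBase.Fpqc)
    sq.flip ⟨⟨inferInstance, inferInstance⟩, inferInstance⟩ hprop

end Groth.PicCurve
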