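import Groth.Agent.PicCurve.PointsSurj
import Groth.Agent.LimitMod.FibreFunctions
import Mathlib

/-!
# The degree zero part is proper with connected fibres
-/

universe u

open CategoryTheory CategoryTheory.Limits AlgebraicGeometry TopologicalSpace Opposite
open Groth.Abvar.PicCalc

set_option maxHeartbeats 1600000
set_option backward.isDefEq.respectTransparency false
set_option backward.defeqAttrib.useBackward true
set_option backward.isDefEq.respectTransparency.types false

namespace Groth.PicCurve

variable {C S : Scheme.{u}} {f : C ⟶ S} [IsProper f] [Smooth f] [GeometricallyConnected f]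
  (hdim : ∀ s : S, topologicalKrullDim ↥(f.fiber s) = 1)

include hdim in
/-- The genus is locally constant. -/
theorem isOpen_genus_eq (n : ℕ) :
    IsOpen {s : S | CohIII.fiberRank f (Coh.structureModule C) 1 s = n} := by
  have h := LimitMod.isLocallyConstant_eulerChar f (Coh.structureModule C)
    (Groth.PicAux.FibTrivClosed.isFP_of_isInvertible (PicLoc.isInvertible_structureModule C))
    (Abvar.Seesaw.isFlatOver_of_isInvertible f (PicLoc.isInvertible_structureModule C))
  have e : {s : S | CohIII.fiberRank f (Coh.structureModule C) 1 s = n} =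
      {s : S | fibEuler f (Coh.structureModule C) s = 1 - (n : ℤ)} := by
    ext s
    simp only [Set.mem_ofPred_eq, fibEuler_structure_curve f hdim s]
    omega
  rw [e]
  exact h.isOpen_fiber _

variable {P : Over S} {φ : ∀ T : Over S, PicF.Cl (PicF.XT f T) → (T ⟶ P)}
  (hP : AbDual.IsRelPicK Scheme.fppfPrecoverage f P φ) {W : P.left.Opens}
  (hW : ∀ (T : Over S) (a : PicLoc.PicSet (PicF.XT f T)) (t : T.left),
      (φ T a.1).left t ∈ W ↔ degC (PicF.XTproj f T) a t = 0)
  {e : S ⟶ C} (he : e ≫ f = 𝟙 S)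

include hdim hP hW he in
/-- Lifts of the powers of the curve cover the degree zero part where they are long enough. -/
theorem exists_cover_zero (n : ℕ) : ∃ α : (cPow f n).left ⟶ W,
    α ≫ W.ι ≫ P.hom = (cPow f n).hom ∧
    ∀ q : W, CohIII.fiberRank f (Coh.structureModule C) 1 ((W.ι ≫ P.hom) q) ≤ n →
      q ∈ Set.range α := by
  obtain ⟨-, hIe⟩ := Groth.Limits.BC0.CurveSection.isEffCartier_ker f hdim e he
  have hdimC : ∀ c : C, topologicalKrullDim ↥((PicF.XTproj f (Over.mk f)).fiber c) = 1 :=
    family_dim hdim (Over.mk f)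
  obtain ⟨_, _, _⟩ := family_hyps (f := f) (Over.mk f)
  obtain ⟨-, hI⟩ := Groth.Limits.BC0.CurveSection.isEffCartier_ker
    (PicF.XTproj f (Over.mk f)) hdimC (pullback.diagonal f) (pullback.diagonal_snd _)
  obtain ⟨LΔ, -, hLΔ, hΔ, -⟩ := Groth.PicAux.exists_invertible_section hI
  let g := φ (cPow f n) (abelPow hLΔ hIe n).1
  have hr : Set.range g.left ⊆ (W : Set P.left) := by
    rintro _ ⟨y, rfl⟩
    exact (hW _ _ y).2 (degC_abelPow hdim hLΔ hΔ he hIe n y)
  let α : (cPow f n).left ⟶ W := IsOpenImmersion.lift W.ι g.left (hr.trans (Scheme.Opens.range_ι W).ge)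
  have hα : α ≫ W.ι = g.left := IsOpenImmersion.lift_fac _ _ _
  refine ⟨α, by rw [reassoc_of% hα, Over.w g], fun q hq => ?_⟩
  obtain ⟨y, hy⟩ := mem_range_abelPow hdim hLΔ hΔ he hIe hP hW (p := W.ι q) q.2
    (n := n) (by rw [← Scheme.Hom.comp_apply]; exact hq)
  refine ⟨y, W.ι.isOpenEmbedding.injective ?_⟩
  rw [← Scheme.Hom.comp_apply, hα]
  exact hy

include hdim hP hW he in
/-- The degree zero part is proper. -/
theorem isProper_zero [IsSeparated P.hom] [LocallyOfFiniteType P.hom] :
    IsProper (W.ι ≫ P.hom) := by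
  let w := W.ι ≫ P.hom
  let g : S → ℕ := fun s => CohIII.fiberRank f (Coh.structureModule C) 1 s
  let V : S → S.Opens := fun s => ⟨{z | g z = g s}, isOpen_genus_eq hdim (g s)⟩
  have hV : ⨆ s, V s = ⊤ := eq_top_iff.2 fun s _ => Opens.mem_iSup.2 ⟨s, rfl⟩
  refine IsZariskiLocalAtTarget.of_iSup_eq_top (P := @IsProper) V hV fun s => ?_
  obtain ⟨α, hα, hsurj⟩ := exists_cover_zero hdim hP hW he (g s)
  obtain ⟨_, _, _⟩ := cPow_props f (g s)
  have : Surjective (α ∣_ (w ⁻¹ᵁ V s)) := by
    refine ⟨fun q => ?_⟩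
    obtain ⟨y, hy⟩ := hsurj q.1 (le_of_eq q.2)
    have hy' : y ∈ α ⁻¹ᵁ (w ⁻¹ᵁ V s) := by
      show α y ∈ w ⁻¹ᵁ V s
      rw [hy]
      exact q.2
    refine ⟨⟨y, hy'⟩, (w ⁻¹ᵁ V s).ι.isOpenEmbedding.injective ?_⟩
    rw [← Scheme.Hom.comp_apply, morphismRestrict_ι]
    exact hy
  have hprop : IsProper ((α ≫ w) ∣_ V s) := by
    rw [hα]
    exact IsZariskiLocalAtTarget.restrict ‹_› _
  have hcomp : UniversallyClosed (α ∣_ (w ⁻¹ᵁ V s) ≫ w ∣_ V s) := by
    rw [← morphismRestrict_comp]
    exact hprop.toUniversallyClosed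
  have : UniversallyClosed (w ∣_ V s) := UniversallyClosed.of_comp_surjective (α ∣_ (w ⁻¹ᵁ V s)) _
  have : IsSeparated (w ∣_ V s) := IsZariskiLocalAtTarget.restrict (P := @IsSeparated) inferInstance _
  have : LocallyOfFiniteType (w ∣_ V s) :=
    IsZariskiLocalAtTarget.restrict (P := @LocallyOfFiniteType) inferInstance _
  exact { }

include hdim hP hW he in
/-- The degree zero part has geometrically connected fibres. -/
theorem geometricallyConnected_zero : GeometricallyConnected (W.ι ≫ P.hom) := by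
  refine ⟨geometrically_iff_of_isClosedUnderIsomorphisms.mpr fun K _ x => ?_⟩
  let w := W.ι ≫ P.hom
  let s := x (IsLocalRing.closedPoint K)
  let n := CohIII.fiberRank f (Coh.structureModule C) 1 s
  obtain ⟨α, hα, hsurj⟩ := exists_cover_zero hdim hP hW he n
  obtain ⟨_, _, _⟩ := cPow_props f n
  let m : pullback (cPow f n).hom x ⟶ pullback w x :=
    pullback.map _ _ _ _ α (𝟙 _) (𝟙 _) (by rw [Category.comp_id, hα]) (by simp)
  have houter : IsPullback (pullback.fst (cPow f n).hom x) (m ≫ pullback.snd w x) (α ≫ w) x := by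
    rw [show m ≫ pullback.snd w x = pullback.snd _ _ by simp [m, pullback.lift_snd], hα]
    exact IsPullback.of_hasPullback _ _
  have hsq := IsPullback.of_bot houter
    (show pullback.fst (cPow f n).hom x ≫ α = m ≫ pullback.fst w x from
      (pullback.lift_fst _ _ _).symm)
    (IsPullback.of_hasPullback w x)
  have hm : Function.Surjective m := by
    intro q
    have hq : w (pullback.fst w x q) = s := by
      rw [← Scheme.Hom.comp_apply, pullback.condition, Scheme.Hom.comp_apply]
      exact congrArg x (Subsingleton.elim (α := PrimeSpectrum K) _ _)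
    obtain ⟨y, hy⟩ := hsurj (pullback.fst w x q) (le_of_eq (congrArg
      (CohIII.fiberRank f (Coh.structureModule C) 1) hq))
    obtain ⟨z, -, hz⟩ := Scheme.Pullback.exists_preimage_pullback (f := α) (g := pullback.fst w x)
      y q hy
    refine ⟨hsq.isoPullback.inv z, ?_⟩
    rw [← Scheme.Hom.comp_apply, hsq.isoPullback_inv_snd]
    exact hz
  have : ConnectedSpace (Spec (CommRingCat.of K)) := inferInstanceAs (ConnectedSpace (PrimeSpectrum K))
  have : ConnectedSpace ↥(pullback (cPow f n).hom x) :=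
    GeometricallyConnected.connectedSpace_of_subsingleton (f := pullback.snd (cPow f n).hom x)
  exact hm.connectedSpace m.continuous

end Groth.PicCurve
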